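import Cfsg.Agent.H57.DPCSpec
import Cfsg.Agent.S1271
import Cfsg.Agent.H18.Misc2
import Cfsg.Agent.H14.Comp
import Cfsg.Agent.H2.PrimeCore

/-! Tower DPC (S3275), item Bal3: balance for the prime 3. -/

set_option autoImplicit false

namespace H70.DpBal3

open Subgroup Cfsg H98 H48.DP H57.DPC

universe u

theorem three_equiv {X Y : Type*} [Group X] [Group Y] (e : X ≃* Y) (h : Three X) : Three Y := by
  rcases h with ⟨⟨f⟩⟩ | ⟨⟨f⟩⟩ | ⟨F, i1, i2, h1, ⟨f⟩⟩
  · exact .inl ⟨e.symm.trans f⟩
  · exact .inr (.inl ⟨e.symm.trans f⟩)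
  · exact .inr (.inr ⟨F, i1, i2, h1, ⟨e.symm.trans f⟩⟩)

theorem mem_C1 {X : Type*} [Group X] {g x : X} : g ∈ C1 x ↔ Commute g x :=
  mem_centralizer_singleton_iff

/-- The automiser of a component is one of the three groups. -/
theorem three_aut (act : Act.{u}) {X : Type u} [Group X] [Finite X] (nd : ND X) {L : Subgroup X}
    (hL : IsComponent L) (h3 : Three (L ⧸ center L)) (H : Subgroup X) (LH : L ≤ H)
    (hn : (L.subgroupOf H).Normal) [((Ce L).subgroupOf H).Normal] :
    Three (H ⧸ (Ce L).subgroupOf H) := by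
  obtain ⟨-, a2⟩ := act X nd L hL h3
  have HN : H ≤ No L := (normal_subgroupOf_iff_le_normalizer LH).1 hn
  let f : L →* H ⧸ (Ce L).subgroupOf H := (QuotientGroup.mk' _).comp (inclusion LH)
  have fs : Function.Surjective f := by
    intro q
    obtain ⟨g, rfl⟩ := QuotientGroup.mk'_surjective _ q
    obtain ⟨l, hl, e⟩ := a2 g (HN g.2)
    exact ⟨⟨l, hl⟩, QuotientGroup.eq.2 e⟩
  have fk : f.ker = center L := by
    ext l
    rw [MonoidHom.mem_ker, mem_center_iff]
    refine (QuotientGroup.eq_one_iff _).trans ⟨fun h g => Subtype.ext (h g g.2), fun h g hg => ?_⟩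
    exact congrArg Subtype.val (h ⟨g, hg⟩)
  exact three_equiv ((QuotientGroup.quotientMulEquivOfEq fk.symm).trans
    (QuotientGroup.quotientKerEquivOfSurjective f fs)) h3

theorem jobBal3 : JobBal3.{u} := by
  intro act fb G _ _ h x y hx hy xy
  have := h.simple
  have : Fact (Nat.Prime 3) := ⟨Nat.prime_three⟩
  have Cne : C1 y ≠ ⊤ := fun ht => by
    have hc : y ∈ center G := mem_center_iff.2 fun g => (mem_C1.1 (ht ▸ mem_top g : g ∈ C1 y)).eq
    rcases (inferInstance : (center G).Normal).eq_bot_or_eq_top with e1 | e1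
    · rw [e1, mem_bot] at hc
      rw [hc, orderOf_one] at hy
      omega
    · exact h.nc ⟨⟨fun g k => (mem_center_iff.1 (e1 ▸ mem_top k : k ∈ center G) g)⟩⟩
  set π := QuotientGroup.mk' (pPrimeCore 3 (C1 y)) with hπ
  have πs : Function.Surjective π := QuotientGroup.mk'_surjective _
  have kπ : π.ker = pPrimeCore 3 (C1 y) := QuotientGroup.ker_mk' _
  have nd := (h.nd.sub (C1 y)).quot (pPrimeCore 3 (C1 y))
  have h3 : ∀ K : Subgroup (C1 y ⧸ pPrimeCore 3 (C1 y)), IsComponent K →
      Three (K ⧸ center K) := by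
    intro K hK
    let L := K.comap π
    let f : L.map (C1 y).subtype →* K ⧸ center K :=
      ((QuotientGroup.mk' _).comp (π.subgroupComap K)).comp
        (L.equivMapOfInjective _ (C1 y).subtype_injective).symm.toMonoidHom
    have fs : Function.Surjective f := ((QuotientGroup.mk'_surjective _).comp
      (π.subgroupComap_surjective_of_surjective K πs)).comp
        (L.equivMapOfInjective _ (C1 y).subtype_injective).symm.surjective
    have q := QuotientGroup.quotientKerEquivOfSurjective f fs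
    have s := hK.2.2
    refine three_equiv q (h.k _ (fun ht => Cne (top_unique (ht ▸ map_subtype_le L))) f.ker
      q.isSimpleGroup fun hc => H14.quasi_quotient_not_comm hK.2 ⟨⟨fun u v => ?_⟩⟩)
    obtain ⟨u, rfl⟩ := q.surjective u
    obtain ⟨v, rfl⟩ := q.surjective v
    rw [← map_mul, ← map_mul, hc.1.1 u v]
  have cop : (Nat.card π.ker).Coprime 3 := by
    rw [kπ]; exact H2.coprime_card_pPrimeCore 3 (C1 y)
  have hO : pPrimeCore 3 (C1 y ⧸ pPrimeCore 3 (C1 y)) = ⊥ := H2.pPrimeCore_quotient_pPrimeCore 3 _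
  have bal := Cfsg.Agent.S1271.result 3 hO fun L hL H LH hn _ w hw => by
    rw [fb _ (three_aut act nd hL (h3 L hL) H LH hn) w hw]
    exact bot_le
  let x' : C1 y := ⟨x, mem_C1.2 xy⟩
  have ox : orderOf x' = 3 := by rw [← hx]; exact (orderOf_coe x').symm
  have oπ : orderOf (π x') = 3 := by
    have e3 : x' ^ 3 = 1 := by rw [← ox]; exact pow_orderOf_eq_one x'
    refine orderOf_eq_prime (by rw [← map_pow, e3, map_one]) fun e => ?_
    have h1 : x' ∈ pPrimeCore 3 (C1 y) := by rw [← kπ]; exact e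
    have h2 := H2.coprime_orderOf_of_mem_pPrimeCore h1
    rw [ox] at h2
    exact absurd h2 (by decide)
  let Y := (th x).subgroupOf (C1 y)
  have hY : C1 x' ≤ No Y := fun c hc => mem_normalizer_of_cj_le (by
    rintro _ ⟨z, hz, rfl⟩
    exact conj_mem_of_mem_normalizer (G := G) (le_normalizer_map_subtype (pPrimeCore 3 (C1 x))
      (mem_C1.2 (congrArg Subtype.val (mem_C1.1 hc)))) hz)
  have c0 : Y.map π ≤ centralizerPPrimeCore 3 (π x') := by
    refine H2.le_map_pPrimeCore_subtype ?_ ?_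
      (Nat.Coprime.coprime_dvd_left ((card_map_dvd _ _).trans (H2.card_subgroupOf_dvd _ _))
        (H2.coprime_card_map_pPrimeCore_subtype (p := 3) (C1 x)))
    · rintro _ ⟨z, hz, rfl⟩
      have : Commute z x' := Subtype.ext (mem_C1.1 (map_subtype_le (pPrimeCore 3 (C1 x)) hz))
      exact mem_C1.2 (this.map π)
    · rw [← H18.map_centralizer_singleton_of_coprime π πs (x := x') (by rw [ox]; exact cop.symm)]
      exact map_le_normalizer_map π hY
  have c1 := c0.trans (bal _ oπ)
  rw [hO, le_bot_iff, Subgroup.map_eq_bot_iff, kπ] at c1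
  rintro g ⟨g1, g2⟩
  exact ⟨⟨g, g2⟩, c1 g1, rfl⟩

end H70.DpBal3
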