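import Cfsg.Agent.H70.L2TI
import Cfsg.Agent.H4.Cover
import Cfsg.Agent.H23.Frobenius
import Cfsg.Agent.H28.FeitZass
import Cfsg.Agent.H88.ElemCent
import Cfsg.Agent.H61.DicksonField
import Cfsg.Agent.H55.Basic

/-! Recognition of `L₂(q)` from its order and the isolation of the characteristic in the prime
graph. -/

set_option autoImplicit false

namespace H70.L2

open Cfsg Subgroup H46 MulAction
open scoped MatrixGroups Pointwise

variable {G : Type*} [Group G] [Finite G] {p : ℕ}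

theorem dvd_ncard_of_conj {m : ℕ} (A : Set G) (hA : ∀ x ∈ A, ∀ g : G, g * x * g⁻¹ ∈ A)
    (h : ∀ x ∈ A, m ∣ H4.ind x) : m ∣ A.ncard := by
  induction hn : A.ncard using Nat.strong_induction_on generalizing A with
  | _ n ih =>
    rcases A.eq_empty_or_nonempty with rfl | ⟨x, hx⟩
    · rw [← hn]; simp
    have h1 : {y | IsConj x y} ⊆ A := fun y hy => by
      obtain ⟨g, rfl⟩ := isConj_iff.1 hy
      exact hA x hx g
    have h2 := Set.ncard_sdiff_add_ncard_of_subset h1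
    rw [H4.ncard_isConj, hn] at h2
    have h3 := H4.ind_pos x
    rw [← h2]
    refine (ih _ (by omega) (A \ {y | IsConj x y}) (fun y hy g => ⟨hA y hy.1 g, fun e => hy.2 ?_⟩)
      (fun y hy => h y hy.1) rfl).add (h x hx)
    exact IsConj.trans e (isConj_iff.2 ⟨g, rfl⟩).symm

theorem ncard_sol (n : ℕ) :
    {x : G | x ^ n = 1 ∧ x ≠ 1}.ncard + 1 = Nat.card {x : G // x ^ n = 1} := by
  have : {x : G | x ^ n = 1} = insert 1 {x : G | x ^ n = 1 ∧ x ≠ 1} := by
    ext x
    by_cases h : x = 1 <;> simp [h]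
  rw [← Set.ncard_insert_of_notMem (a := 1) (by simp), ← this, ← Nat.card_coe_set_eq]
  rfl

/-- Counting: there are `q²` elements of `p`-power order and they have order at most `p`. -/
theorem count (hp : p.Prime) {m d k : ℕ} (hq : 3 < p ^ m) (hd : d = 1 ∨ d = 2)
    (hk : d * k + 1 = (p ^ m) ^ 2) (hG : Nat.card G = p ^ m * k)
    (h1 : ∀ g : G, orderOf g ∣ p ^ m ∨ (orderOf g).Coprime (p ^ m)) :
    (∀ x y : G, x ≠ 1 → x ^ p = 1 → x * y = y * x → y ^ p = 1) ∧
      {x : G | x ^ p = 1 ∧ x ≠ 1}.ncard + 1 = (p ^ m) ^ 2 := by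
  have := Fact.mk hp
  have m0 : m ≠ 0 := by rintro rfl; simp at hq
  have pq : p ∣ p ^ m := dvd_pow_self p m0
  have iso : ∀ x y : G, x ≠ 1 → x ^ p ^ m = 1 → x * y = y * x → y ^ p ^ m = 1 := by
    intro x y x1 hx hc
    rcases h1 y with h | h
    · exact orderOf_dvd_iff_pow_eq_one.1 h
    have ox := orderOf_dvd_of_pow_eq_one hx
    have e := (show Commute x y from hc).orderOf_mul_eq_mul_orderOf_of_coprime
      (h.symm.coprime_dvd_left ox)
    rcases h1 (x * y) with h' | h'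
    · exact orderOf_dvd_iff_pow_eq_one.1 ((Dvd.intro_left _ e.symm).trans h')
    · exact absurd (orderOf_eq_one_iff.1 (Nat.Coprime.eq_one_of_dvd
        (h'.coprime_dvd_left (Dvd.intro _ e.symm)) ox)) x1
  have cop : k.Coprime p := by
    have h2 : (d * k).Coprime (d * k + 1) := by simp
    rw [hk] at h2
    exact (h2.coprime_dvd_left (Dvd.intro_left _ rfl)).coprime_dvd_right
      (pq.trans (dvd_pow_self _ two_ne_zero))
  have dv : ∀ n : ℕ, n ∣ p ^ m → k ∣ {x : G | x ^ n = 1 ∧ x ≠ 1}.ncard := fun n hn =>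
    dvd_ncard_of_conj _ (fun x hx g => ⟨by rw [conj_pow, hx.1]; group,
      fun e => hx.2 (by simpa using e)⟩) fun x hx => by
      have h2 : IsPGroup p (Cent1 x) := fun y => ⟨m, Subtype.ext (iso x y hx.2
        (by obtain ⟨c, hc⟩ := hn; rw [hc, pow_mul, hx.1, one_pow]) (mem_cent1.1 y.2).symm)⟩
      obtain ⟨j, hj⟩ := h2.exists_card_eq
      have h3 := (Cent1 x).card_mul_index
      rw [hj, hG] at h3
      exact (cop.pow_right j).dvd_of_dvd_mul_left (Dvd.intro_left _ h3.symm)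
  have hB : {x : G | x ^ p ^ m = 1 ∧ x ≠ 1}.ncard = d * k := by
    obtain ⟨c, hc⟩ := dv _ dvd_rfl
    have h2 := H23.dvd_card_pow_eq_one (G := G) (n := p ^ m) (hG ▸ Dvd.intro _ rfl)
    have h3 : Nat.card {x : G // x ^ p ^ m = 1} ≤ Nat.card G := Finite.card_subtype_le _
    rw [← ncard_sol, hc] at h2 h3
    rw [hG] at h3
    generalize p ^ m = q at *
    have h4 : c < q := by
      by_contra h
      have := Nat.mul_le_mul_left k (not_lt.1 h)
      nlinarith
    have h5 : (q : ℤ) ∣ (c : ℤ) - d := by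
      have h6 : (q : ℤ) ∣ k * c + 1 := by exact_mod_cast h2
      have h7 : (d : ℤ) * k + 1 = q ^ 2 := by exact_mod_cast hk
      have h8 : (c : ℤ) - d = c * q * q - d * (k * c + 1) := by linear_combination c * h7
      rw [h8]
      exact (Dvd.intro_left _ rfl).sub (h6.mul_left _)
    have h9 := Int.eq_zero_of_abs_lt_dvd h5 (abs_lt.2 ⟨by omega, by omega⟩)
    rw [hc, show c = d by omega, mul_comm]
  have sub : {x : G | x ^ p = 1 ∧ x ≠ 1} ⊆ {x : G | x ^ p ^ m = 1 ∧ x ≠ 1} := fun x hx =>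
    ⟨by obtain ⟨c, hc⟩ := pq; rw [hc, pow_mul, hx.1, one_pow], hx.2⟩
  have hA : {x : G | x ^ p = 1 ∧ x ≠ 1}.ncard = d * k := by
    obtain ⟨c, hc⟩ := dv _ pq
    have h2 := H23.dvd_card_pow_eq_one (G := G) (n := p) (hG ▸ pq.mul_right _)
    have h3 := Set.ncard_le_ncard sub
    rw [← ncard_sol, hc] at h2
    rw [hB, hc] at h3
    have k0 : 0 < k := Nat.pos_of_ne_zero (by rintro rfl; nlinarith)
    have h4 : c ≤ d := Nat.le_of_mul_le_mul_left (h3.trans_eq (mul_comm _ _)) k0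
    have c0 : c ≠ 0 := by
      rintro rfl
      exact hp.one_lt.ne' (Nat.dvd_one.1 (by simpa using h2))
    rw [hc, mul_comm]
    rcases hd with rfl | rfl
    · rw [show c = 1 by omega]
    · by_cases c1 : c = 1
      · subst c1
        have h5 : p ∣ 2 * k + 1 := hk ▸ pq.trans (dvd_pow_self _ two_ne_zero)
        have h6 := Nat.dvd_sub (h2.mul_left 2) h5
        rw [show 2 * (k * 1 + 1) - (2 * k + 1) = 1 by omega] at h6
        exact absurd (Nat.dvd_one.1 h6) hp.one_lt.ne'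
      · rw [show c = 2 by omega]
  have eq := Set.eq_of_subset_of_ncard_le sub (hB.trans hA.symm).le
  refine ⟨fun x y x1 hx hc => ?_, by rw [hA, hk]⟩
  by_cases y1 : y = 1
  · simp [y1]
  · exact (eq.ge ⟨iso x y x1 (sub ⟨hx, x1⟩).1 hc, y1⟩).1

theorem pow_eq_one_of_isPGroup (hp : p.Prime)
    (hC : ∀ x y : G, x ≠ 1 → x ^ p = 1 → x * y = y * x → y ^ p = 1) {K : Subgroup G}
    (hK : IsPGroup p K) {x : G} (hx : x ∈ K) : x ^ p = 1 := by
  by_cases x1 : x = 1
  · simp [x1]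
  have h1 : IsPGroup p (zpowers x) := hK.to_le (zpowers_le.2 hx)
  obtain ⟨y, hy, oy⟩ := cauchy hp ((isPi_of_isPGroup hp h1).prime_and_dvd (by simpa using x1)).2
  obtain ⟨i, rfl⟩ := mem_zpowers_iff.1 hy
  exact hC _ x (fun e => hp.one_lt.ne (by rw [← oy, e, orderOf_one]))
    (oy ▸ pow_orderOf_eq_one _) (Commute.zpow_self x i)

omit [Finite G] in
theorem isPGroup_zpowers {x : G} (h : x ^ p = 1) : IsPGroup p (zpowers x) := fun ⟨_, i, hi⟩ =>
  ⟨1, Subtype.ext (by
    subst hi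
    change (x ^ i) ^ p ^ 1 = 1
    rw [pow_one, ← zpow_natCast, ← zpow_mul, mul_comm, zpow_mul, zpow_natCast, h, one_zpow])⟩

theorem card_sylow_mul [hp : Fact p.Prime]
    (hC : ∀ x y : G, x ≠ 1 → x ^ p = 1 → x * y = y * x → y ^ p = 1)
    (hT : ∀ P Q : Sylow p G, P ≠ Q → (P : Subgroup G) ⊓ Q = ⊥) {q : ℕ}
    (hq : ∀ P : Sylow p G, Nat.card (P : Subgroup G) = q + 1) :
    Nat.card (Sylow p G) * q = {x : G | x ^ p = 1 ∧ x ≠ 1}.ncard := by
  classical
  have := Fintype.ofFinite (Sylow p G)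
  let f : (Σ P : Sylow p G, {x : (P : Subgroup G) // x ≠ 1}) → {x : G | x ^ p = 1 ∧ x ≠ 1} := fun a =>
    ⟨a.2.1, pow_eq_one_of_isPGroup hp.out hC a.1.isPGroup' a.2.1.2, fun e => a.2.2 (Subtype.ext e)⟩
  have hf : Function.Bijective f := by
    constructor
    · rintro ⟨P, ⟨x, hx⟩, x1⟩ ⟨Q, ⟨y, hy⟩, y1⟩ e
      obtain rfl : x = y := congrArg Subtype.val e
      obtain rfl : P = Q := by
        by_contra h
        exact x1 (Subtype.ext (mem_bot.1 (hT P Q h ▸ (⟨hx, hy⟩ : x ∈ (P : Subgroup G) ⊓ Q))))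
      rfl
    · rintro ⟨x, hx, x1⟩
      obtain ⟨P, hP⟩ := (isPGroup_zpowers hx).exists_le_sylow
      exact ⟨⟨P, ⟨x, hP (mem_zpowers x)⟩, fun e => x1 (congrArg Subtype.val e)⟩, rfl⟩
  rw [← Nat.card_coe_set_eq, ← Nat.card_congr (Equiv.ofBijective f hf), Nat.card_sigma,
    Finset.sum_congr rfl (g := fun _ => q) fun P _ => ?_]
  · simp
  · have h1 := hq P
    have := Fintype.ofFinite (P : Subgroup G)
    rw [Nat.card_eq_fintype_card] at h1 ⊢
    rw [Fintype.card_subtype_compl, h1]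
    simp

omit [Finite G] in
theorem mem_of_smul_eq [Fact p.Prime] {P : Sylow p G} {x : G} (hx : x ^ p = 1) (h : x • P = P) :
    x ∈ (P : Subgroup G) := by
  have h1 : x ∈ Nrm (P : Subgroup G) := Sylow.smul_eq_iff_mem_normalizer.1 h
  have h2 := P.is_maximal' (P.isPGroup'.to_sup_of_normal_left' (isPGroup_zpowers hx)
    (zpowers_le.2 h1)) le_sup_left
  exact h2 ▸ mem_sup_right (mem_zpowers x)

theorem reg [hp : Fact p.Prime]
    (hC : ∀ x y : G, x ≠ 1 → x ^ p = 1 → x * y = y * x → y ^ p = 1)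
    (hT : ∀ P Q : Sylow p G, P ≠ Q → (P : Subgroup G) ⊓ Q = ⊥) {a b : Sylow p G} (hab : a ≠ b)
    {x y : G} (hx : x ∈ (a : Subgroup G)) (hy : y ∈ (a : Subgroup G)) (h : x • b = y • b) :
    x = y := by
  have h1 := (a : Subgroup G).mul_mem ((a : Subgroup G).inv_mem hy) hx
  have h2 := mem_of_smul_eq (pow_eq_one_of_isPGroup hp.out hC a.isPGroup' h1)
    (show (y⁻¹ * x) • b = b by rw [mul_smul, h, inv_smul_smul])
  exact (inv_mul_eq_one.1 (mem_bot.1 (hT a b hab ▸ (⟨h1, h2⟩ : _ ∈ (a : Subgroup G) ⊓ b)))).symm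

theorem exists_smul [hp : Fact p.Prime]
    (hC : ∀ x y : G, x ≠ 1 → x ^ p = 1 → x * y = y * x → y ^ p = 1)
    (hT : ∀ P Q : Sylow p G, P ≠ Q → (P : Subgroup G) ⊓ Q = ⊥) {a b c : Sylow p G}
    (hn : Nat.card (Sylow p G) = Nat.card (a : Subgroup G) + 1) (hab : a ≠ b) (hac : a ≠ c) :
    ∃ x ∈ (a : Subgroup G), x • b = c := by
  classical
  let f : ↥(a : Subgroup G) → {c : Sylow p G // c ≠ a} := fun x => ⟨(x : G) • b, fun e => hab (by
    rw [← inv_smul_smul (x : G) b, e]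
    exact (Sylow.smul_eq_iff_mem_normalizer.2 (le_normalizer (inv_mem x.2))).symm)⟩
  have hf : Function.Injective f := fun x y e =>
    Subtype.ext (reg hC hT hab x.2 y.2 (congrArg Subtype.val e))
  have := Fintype.ofFinite (Sylow p G)
  obtain ⟨x, hx⟩ := (hf.bijective_of_nat_card_le (by
    rw [Nat.card_eq_fintype_card, Fintype.card_subtype_compl, ← Nat.card_eq_fintype_card, hn]
    simp)).2 ⟨c, hac.symm⟩
  exact ⟨x, x.2, congrArg Subtype.val hx⟩

theorem preZ [hp : Fact p.Prime]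
    (hC : ∀ x y : G, x ≠ 1 → x ^ p = 1 → x * y = y * x → y ^ p = 1)
    (hT : ∀ P Q : Sylow p G, P ≠ Q → (P : Subgroup G) ⊓ Q = ⊥)
    (hn : ∀ a : Sylow p G, Nat.card (Sylow p G) = Nat.card (a : Subgroup G) + 1)
    (h3 : 2 < Nat.card (Sylow p G)) : H30.PreZ G (Sylow p G) := by
  have fix : ∀ (a : Sylow p G) (x : G), x ∈ (a : Subgroup G) → x • a = a := fun a x hx =>
    Sylow.smul_eq_iff_mem_normalizer.2 (le_normalizer hx)
  refine ⟨fun {a b c d} hab hcd => ?_, fun {g a b c} hab hbc hac ha hb hc => ?_, ?_⟩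
  · obtain ⟨g, rfl⟩ := exists_smul_eq G a c
    obtain ⟨x, hx, e⟩ := exists_smul hC hT (hn _) ((smul_left_cancel_iff g).not.2 hab) hcd
    exact ⟨x * g, by rw [mul_smul, fix _ x hx], by rw [mul_smul, e]⟩
  · obtain ⟨x, hx, rfl⟩ := exists_smul hC hT (hn a) hab hac
    have h1 : g * x * g⁻¹ = x := reg hC hT hab
      (conj_mem_of_mem_nrm (Sylow.smul_eq_iff_mem_normalizer.1 ha) hx) hx (by
        rw [mul_smul, mul_smul, inv_smul_eq_iff.2 hb.symm, hc])
    have h2 := hC x g (fun e => hbc (by rw [e, one_smul]))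
      (pow_eq_one_of_isPGroup hp.out hC a.isPGroup' hx) (mul_inv_eq_iff_eq_mul.1 h1).symm
    exact mem_bot.1 (hT a b hab ▸
      (⟨mem_of_smul_eq h2 ha, mem_of_smul_eq h2 hb⟩ : g ∈ (a : Subgroup G) ⊓ b))
  · have := Fintype.ofFinite (Sylow p G)
    rw [Nat.card_eq_fintype_card] at h3
    obtain ⟨a, b, c, h1, h2, h4⟩ := Fintype.two_lt_card_iff.1 h3
    exact ⟨a, b, c, h1, h4, h2⟩

/-- A group of order `|L₂(q)|` without elements of mixed order for the characteristic (and, for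
`q ≡ 3 (4)`, with all even element orders dividing `q + 1`) is `L₂(q)`. -/
theorem core {F : Type*} [Field F] [Fintype F] (hF : 3 < Fintype.card F)
    (hc : Nat.card G = Nat.card PSL(2, F))
    (h1 : ∀ g : G, orderOf g ∣ Fintype.card F ∨ (orderOf g).Coprime (Fintype.card F))
    (h2 : Fintype.card F % 4 = 3 → ∀ g : G, Even (orderOf g) → orderOf g ∣ Fintype.card F + 1) :
    Nonempty (G ≃* PSL(2, F)) := by
  obtain ⟨p, _, ⟨m, m0⟩, hp, hm⟩ := FiniteField.card' F
  have := Fact.mk hp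
  simp only [PNat.mk_coe] at hm
  have h3 := H61.gcd_mul_card_psl_two (k := F)
  rw [Nat.card_eq_fintype_card (α := F), ← hc] at h3
  obtain ⟨d, k, hd, hd', hk, hG⟩ : ∃ d k : ℕ, (d = 1 ∨ d = 2) ∧ (Odd (Fintype.card F) → d = 2) ∧
      d * k + 1 = Fintype.card F ^ 2 ∧ Nat.card G = Fintype.card F * k := by
    obtain ⟨r, hr⟩ : ∃ r, Fintype.card F = r + 1 := ⟨Fintype.card F - 1, by omega⟩
    rw [hr] at h3 ⊢
    rw [show (r + 1) ^ 2 - 1 = r * (r + 2) from Nat.sub_eq_of_eq_add (by ring),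
      Nat.add_sub_cancel] at h3
    rcases Nat.even_or_odd' r with ⟨s, rfl | rfl⟩
    · rw [Nat.gcd_eq_left (Dvd.intro _ rfl)] at h3
      exact ⟨2, s * (2 * s + 2), Or.inr rfl, fun _ => rfl, by ring, by nlinarith⟩
    · rw [show Nat.gcd 2 (2 * s + 1) = 1 by simp, one_mul] at h3
      exact ⟨1, _, Or.inl rfl, fun h => by have := Nat.odd_iff.1 h; omega, by ring, h3⟩
  rw [hm] at hk hG h1
  obtain ⟨hC, hA⟩ := count hp (hm ▸ hF) hd hk hG h1
  have cop : ¬ p ∣ k := fun h => hp.one_lt.ne' (Nat.dvd_one.1 ((Nat.dvd_add_right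
    (h.mul_left d)).1 (hk ▸ (dvd_pow_self p m0.ne').trans (dvd_pow_self _ two_ne_zero))))
  have hP : ∀ P : Sylow p G, Nat.card (P : Subgroup G) = Fintype.card F := fun P => by
    have k0 : k ≠ 0 := by rintro rfl; simp at cop
    rw [P.card_eq_multiplicity, hG, Nat.factorization_mul (pow_pos hp.pos m).ne' k0,
      hp.factorization_pow, hm]
    simp [Nat.factorization_eq_zero_of_not_dvd cop]
  rw [← hm] at hA hk hG
  obtain ⟨a⟩ : Nonempty (Sylow p G) := inferInstance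
  by_cases p2 : p = 2
  · subst p2
    refine H88.ElemCent.nonempty_equiv_psl (T := a) ⟨fun hcy => ?_, fun hn => ?_, fun t ht => ?_⟩ F
      (hP a).symm
    · obtain ⟨g, hg⟩ := hcy.exists_ofOrder_eq_natCard
      have h4 : orderOf g ∣ 2 := orderOf_dvd_of_pow_eq_one
        (Subtype.ext (pow_eq_one_of_isPGroup hp hC a.isPGroup' g.2))
      have h5 := Nat.le_of_dvd two_pos h4
      rw [hg, hP a] at h5
      omega
    · have h4 : {x : G | x ^ 2 = 1 ∧ x ≠ 1} ⊆ (a : Subgroup G) := fun x hx =>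
        mem_of_smul_eq hx.1 Sylow.smul_eq_of_normal
      have h5 := Set.ncard_le_ncard h4
      rw [← Nat.card_coe_set_eq ((a : Subgroup G) : Set G)] at h5
      have h6 : Nat.card ((a : Subgroup G) : Set G) = Fintype.card F := hP a
      nlinarith
    · have h4 : ∀ c ∈ Cent1 t, c ^ 2 = 1 := fun c hc => hC t c (fun e => by simp [e] at ht)
        (ht ▸ pow_orderOf_eq_one t) (mem_cent1.1 hc).symm
      refine ⟨⟨⟨fun x y => Subtype.ext ?_⟩⟩, h4⟩
      have e : ∀ c ∈ Cent1 t, c⁻¹ = c := fun c hc =>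
        inv_eq_of_mul_eq_one_right ((pow_two c).symm.trans (h4 c hc))
      have := e _ (mul_mem x.2 y.2)
      rw [mul_inv_rev, e _ x.2, e _ y.2] at this
      exact this.symm
  have hodd : Odd (Fintype.card F) := hm ▸ (hp.odd_of_ne_two p2).pow
  obtain rfl := hd' hodd
  obtain ⟨r, hr⟩ := hodd
  have hT := ti p2 hC
  have hn : Nat.card (Sylow p G) = Fintype.card F + 1 := by
    have h4 := card_sylow_mul hC hT (q := 2 * r) fun P => (hP P).trans hr
    rw [← h4, hr] at hA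
    rw [hr]
    exact Nat.eq_of_mul_eq_mul_right (show 0 < 2 * r by omega) (by nlinarith)
  have hn' : ∀ a : Sylow p G, Nat.card (Sylow p G) = Nat.card (a : Subgroup G) + 1 := fun a => by rw [hn, hP]
  have Z := preZ hC hT hn' (by omega)
  have hs : ∀ {a b : Sylow p G}, a ≠ b →
      Nat.card ↥(stabilizer G a ⊓ stabilizer G b) = r := fun {a b} hab => by
    have h4 := Z.card_group hab
    have h5 : Nat.card (Z.ker a) = Fintype.card F := by have := Z.card_ker a; omega
    rw [h5, hG, hr] at h4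
    rw [hr] at hk
    have h6 : k = r * (2 * r + 2) := by nlinarith
    rw [h6] at h4
    exact Nat.eq_of_mul_eq_mul_left (show 0 < (2 * r + 1 + 1) * (2 * r + 1) by positivity)
      (by linarith)
  have hb : ∀ {a b : Sylow p G}, a ≠ b → stabilizer G a ⊓ stabilizer G b ≠ ⊥ := fun hab e => by
    have := hs hab
    rw [e, card_bot] at this
    omega
  have := Z.nontrivial
  obtain ⟨b, hab⟩ := exists_ne a
  have hZ : IsZassenhausGroup G (Sylow p G) := by
    refine ⟨Z.faithful, Z.multiplyPretransitive, fun g a b c h4 h5 h6 h7 h8 h9 =>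
      Z.three h4 h5 h6 h7 h8 h9, ?_, fun N hN ht => ?_⟩
    · obtain ⟨g, hg, g1⟩ := exists_ne_one_of_ne_bot (hb hab)
      exact ⟨g, g1, b, a, hab, hg.1, hg.2⟩
    by_contra hreg
    push Not at hreg
    have inj : ∀ x ∈ N, ∀ y ∈ N, x • a = y • a → x = y := fun x hx y hy e => by
      have h4 : (⟨y⁻¹ * x, mul_mem (inv_mem hy) hx⟩ : N) ∈ stabilizer N a := by
        change (y⁻¹ * x) • a = a
        rw [mul_smul, e, inv_smul_smul]
      rw [hreg a, mem_bot] at h4
      exact (inv_mul_eq_one.1 (congrArg Subtype.val h4)).symm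
    have cN : Nat.card N = 2 * r + 2 := by
      have h4 := index_stabilizer_of_transitive N a
      rw [hreg a, index_bot] at h4
      omega
    obtain ⟨t, ht, ot⟩ := cauchy (H := N) Nat.prime_two (cN ▸ Dvd.intro (r + 1) (by ring))
    have ne1 : ∀ x ∈ N, x ≠ 1 → a ≠ x • a := fun x hx x1 e =>
      x1 (inj x hx 1 (one_mem _) (by rw [← e, one_smul]))
    have ta := ne1 t ht fun e => by simp [e] at ot
    have fix : ∀ x ∈ (a : Subgroup G), x⁻¹ • a = a := fun x hx =>
      Sylow.smul_eq_iff_mem_normalizer.2 (le_normalizer (inv_mem hx))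
    have p2N : IsPGroup 2 N := fun x => ⟨1, by
      by_cases x1 : x = 1
      · simp [x1]
      obtain ⟨y, hy, e⟩ := exists_smul hC hT (hn' a) ta (ne1 x x.2 fun e => x1 (Subtype.ext e))
      have h4 := inj _ (hN.conj_mem t ht y) x x.2 (by rw [mul_smul, mul_smul, fix y hy, e])
      refine Subtype.ext ?_
      rw [pow_one, coe_pow, ← h4, conj_pow, ← ot, pow_orderOf_eq_one]
      simp⟩
    obtain ⟨j, hj⟩ := p2N.exists_card_eq
    have r2 : r % 2 = 1 := by
      rw [cN] at hj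
      rcases j with _ | _ | j
      · omega
      · omega
      · rw [pow_succ, pow_succ] at hj; omega
    obtain ⟨h, hh, h4⟩ := exists_ne_one_of_ne_bot (hb ta)
    have h5 : h * t * h⁻¹ = t := inj _ (hN.conj_mem t ht h) t ht (by
      rw [mul_smul, mul_smul, inv_smul_eq_iff.2 (mem_stabilizer_iff.1 hh.1).symm]
      exact hh.2)
    have h6 : orderOf h ∣ r := hs ta ▸ orderOf_dvd_card hh
    have h7 : (orderOf h).Coprime 2 :=
      (Nat.coprime_two_right.2 (Nat.odd_iff.2 r2)).coprime_dvd_left h6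
    have h8 := (show Commute h t from mul_inv_eq_iff_eq_mul.1 h5).orderOf_mul_eq_mul_orderOf_of_coprime
      (ot ▸ h7)
    have h9 := h2 (by omega) (h * t) (by rw [h8, ot]; simp)
    rw [h8, ot, hr, show 2 * r + 1 + 1 = (r + 1) * 2 by ring] at h9
    exact h4 (orderOf_eq_one_iff.1 (Nat.dvd_one.1 ((Nat.dvd_add_right h6).1
      (Nat.dvd_of_mul_dvd_mul_right two_pos h9))))
  have hk' := (Z.elementary_of_large hab (hb hab) (by rw [hs hab]; omega)).1
  rcases H28.zass_abelian hZ hab (fun u v => hk'.is_comm.comm u v) with h4 | ⟨-, K, _, _, h4, ⟨e⟩⟩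
  · rw [hs hab] at h4; omega
  · exact ⟨e.trans (H55.pslCongr (FiniteField.ringEquivOfCardEq (by omega)))⟩

end H70.L2
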