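import Cfsg.Agent.H70.SgE

/-! STD-G job `P2b`: the big root subgroups. -/

set_option autoImplicit false
set_option linter.unusedSectionVars false

namespace H70.Sg

open Cfsg.Lie H63 H65 H64 H64.SG Subgroup

universe u

variable {D : ChevalleyDatum} [RS D] {F : Type} [Field F] [CharP F 2] {G : Type u} [Group G]
  {x : ℕ → F → G} {t : G}

variable (D x t) in
/-- `w` centralises `P₀ r` and translates `t` by `x r c`. -/
def Tl (r : Rt D) (w : G) (c : F) : Prop := w ∈ Cs (P0 D x r) ∧ w * t * w⁻¹ = t * x r c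

variable (D x t) in
/-- the elements of `A r` -/
def Il (r : Rt D) (w : G) : Prop := ∃ c, Tl D x t r w c ∧ w * w = 1 ∧ (c = 0 → w ∈ XR D x r)

theorem ge1 {a : ℤ} (h : a = 1) : 0 ≤ a := by omega

theorem cjs_inv (n : G) (A : Subgroup G) : cjs n⁻¹ (cjs n A) = A := by
  refine (Subgroup.map_map _ _ _).trans ?_
  convert Subgroup.map_id A
  ext; simp [mul_assoc]

namespace Env

variable (E : Env D x t)
include E

theorem self_nonneg (r : Rt D) : 0 ≤ D.pairing r r := by rw [pairing_self]; omega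

theorem tl_mul {r : Rt D} {w w' : G} {c c' : F} (h : Tl D x t r w c) (h' : Tl D x t r w' c') :
    Tl D x t r (w * w') (c + c') := by
  refine ⟨mul_mem h.1 h'.1, ?_⟩
  calc w * w' * t * (w * w')⁻¹ = w * (w' * t * w'⁻¹) * w⁻¹ := by group
    _ = w * t * w⁻¹ * (w * x r c') * w⁻¹ := by rw [h'.2]; group
    _ = _ := by
      rw [h.2, ← cx h.1 (E.self_nonneg r), ← E.s.add r r.2]; group

theorem tl_inv {r : Rt D} {w : G} {c : F} (h : Tl D x t r w c) : Tl D x t r w⁻¹ c := by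
  refine ⟨inv_mem h.1, ?_⟩
  have h1 := cx h.1 (E.self_nonneg r) c
  calc w⁻¹ * t * w⁻¹⁻¹ = w⁻¹ * (t * x r c) * (x r c * w) := by
        rw [mul_assoc, mul_assoc, mul_assoc, ← mul_assoc (x r c), x_sq E.s]; group
    _ = t * (w⁻¹ * (x r c * w)) := by rw [← h.2]; group
    _ = _ := by rw [h1, inv_mul_cancel_left]

theorem tl_x (r : Rt D) (a : F) : Tl D x t r (x r a) 0 :=
  ⟨mem_Cs_gen.2 fun v hv b => (E.xc hv a b).symm, by
    rw [E.xt, E.s.x_zero, mul_inv_cancel_right, mul_one]⟩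

theorem tl_t (r : Rt D) : Tl D x t r t 0 :=
  ⟨mem_Cs_gen.2 fun v _ b => E.xt v b, by rw [E.s.x_zero, mul_inv_cancel_right, mul_one]⟩

theorem tl_ker {r : Rt D} {w : G} (h : Tl D x t r w 0) : ∃ a, w = x r a ∨ w = x r a * t := by
  refine E.ca r ?_ h.1
  have := h.2
  rw [E.s.x_zero, mul_one, mul_inv_eq_iff_eq_mul] at this
  exact this.symm

theorem tl_uniq {r : Rt D} {w : G} {c c' : F} (h : Tl D x t r w c) (h' : Tl D x t r w c') :
    c = c' := by
  have := mul_left_cancel (h.2.symm.trans h'.2)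
  have e : x r (c + c') = 1 := by rw [← E.s.add r r.2, this, x_sq E.s]
  have := E.inj _ _ e
  rw [← CharTwo.neg_eq c']
  exact eq_neg_of_add_eq_zero_left this

theorem tl_zero {r : Rt D} {w : G} {c : F} (h : Tl D x t r w c) (e : t * w = w * t) : c = 0 := by
  have := h.2
  rw [← e, mul_inv_cancel_right, left_eq_mul] at this
  exact E.inj _ _ this

theorem tl_all (h : Tr D x t) (r : Rt D) (c : F) : ∃ w, Tl D x t r w c := by
  obtain ⟨w, h1, h2⟩ := h c
  obtain ⟨ω, rfl⟩ := E.et.exists_W (hi D) r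
  obtain ⟨n, hn, e⟩ := exists_mv E.st ω
  refine ⟨n * w * n⁻¹, ?_, ?_⟩
  · rw [← cj_P0 e, ← cj_Cs]
    exact ⟨w, h1, rfl⟩
  · calc n * w * n⁻¹ * t * (n * w * n⁻¹)⁻¹ = n * (w * (n⁻¹ * t * n) * w⁻¹) * n⁻¹ := by group
      _ = n * t * n⁻¹ * (n * x (hi D) c * n⁻¹) := by
        rw [E.tc _ (inv_mem hn), inv_mul_cancel_right, h2]; group
      _ = _ := by rw [e, E.tc _ hn, mul_inv_cancel_right]

variable (h : Tr D x t)
include h

theorem step1 {s a r : Rt D} (hr : rt r = rt s + rt a) {y : G} {d : F} (hy : Tl D x t s y d) (c : F) :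
    ∃ w b, Tl D x t r w (c * d) ∧ y⁻¹ * (x a c * y * (x a c)⁻¹) = w * x s b := by
  have hD := E.et
  have sa := hD.pairing_of_add hr
  have rs : D.pairing r s = 1 := by rw [hD.pairing_add_left hr, pairing_self, hD.pairing_comm, sa]; rfl
  obtain ⟨w, hw⟩ := E.tl_all h r (c * d)
  set u := y⁻¹ * (x a c * y * (x a c)⁻¹) with hu
  have u1 : u * t * u⁻¹ = t * x r (c * d) := by
    calc u * t * u⁻¹ = y⁻¹ * (x a c * (y * ((x a c)⁻¹ * t * x a c) * y⁻¹) * (x a c)⁻¹) * y := by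
          rw [hu]; group
      _ = y⁻¹ * ((x a c * t) * (x a c)⁻¹ * (x a c * x s d * (x a c)⁻¹)) * y := by
          rw [mul_assoc (x a c)⁻¹, ← E.xt, inv_mul_cancel_left, hy.2]; group
      _ = (y⁻¹ * t * y⁻¹⁻¹) * y⁻¹ * (x s d * (x r (c * d) * y)) := by
          rw [E.xt, mul_inv_cancel_right, hD.conj_add E.s (hr.trans (add_comm _ _))]; group
      _ = _ := by
          rw [(E.tl_inv hy).2, cx hy.1 (by rw [hD.pairing_comm, rs]; omega), ← mul_assoc (x s d) y,
            cx hy.1 (E.self_nonneg s)]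
          calc t * x s d * y⁻¹ * (y * x s d * x r (c * d)) = t * (x s d * x s d) * x r (c * d) := by
                group
            _ = _ := by rw [x_sq E.s, mul_one]
  have u2 : u ∈ Cs (P2 D x r s) := by
    refine mem_Cs_gen.2 fun v hv b => ?_
    have h1 := cx hy.1 hv.2 b
    have h2 : (x a c)⁻¹ * x v b * x a c * y = y * ((x a c)⁻¹ * x v b * x a c) := by
      have hp := hD.pairing_add_left hr v
      have v1 : 0 ≤ D.pairing r v := hv.1
      have v2 : 0 ≤ D.pairing s v := hv.2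
      by_cases h0 : 0 ≤ D.pairing a v
      · rw [mul_assoc (x a c)⁻¹, ← E.xc h0, inv_mul_cancel_left, h1]
      · have h3 : D.pairing a v = -1 := by
          by_contra h3
          have := hD.eq_neg_of_pairing (r := a) (s := v) (by omega)
          subst this
          rw [negR_val, pairing_negR_right, hD.pairing_add_left hr, sa, pairing_self] at v1
          omega
        obtain ⟨p, hp'⟩ := exists_add h3
        have := hD.conj_add E.s hp' c b
        rw [x_inv E.s] at this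
        rw [x_inv E.s, this, mul_assoc, cx hy.1 (by rw [pairing_add s hp']; omega), ← mul_assoc, h1,
          mul_assoc]
    calc x v b * u = (x v b * y⁻¹) * x a c * y * (x a c)⁻¹ := by rw [hu]; group
      _ = y⁻¹ * x a c * ((x a c)⁻¹ * x v b * x a c * y) * (x a c)⁻¹ := by
        rw [(Commute.inv_right h1).eq]; group
      _ = _ := by rw [h2, hu]; group
  obtain ⟨a1, b, e⟩ := E.cp r s (Or.inr rs) (w⁻¹ * u) (by
      calc t * (w⁻¹ * u) = w⁻¹ * (w * t * w⁻¹) * u := by group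
        _ = _ := by rw [hw.2, ← u1]; group)
    (mul_mem (inv_mem (mem_Cs_gen.2 fun v hv c => cx hw.1 hv.1 c)) u2)
  rcases e with e | e
  · refine ⟨w * x r a1, b, by simpa using E.tl_mul hw (E.tl_x r a1), ?_⟩
    rw [mul_assoc, ← e, mul_inv_cancel_left]
  · refine ⟨w * x r a1 * t, b, by simpa using E.tl_mul (E.tl_mul hw (E.tl_x r a1)) (E.tl_t r), ?_⟩
    rw [mul_assoc, ← E.xt, mul_assoc, ← mul_assoc (x r a1), ← e, mul_inv_cancel_left]

theorem step2 {s p v : Rt D} (hv : rt v = rt s + rt p) {y : G} {d : F} (hy : Tl D x t s y d) (c : F) :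
    Tl D x t v (y⁻¹ * (x p c * y * (x p c)⁻¹)) (c * d) := by
  have hD := E.et
  have sp := hD.pairing_of_add hv
  obtain ⟨a, sa, pa⟩ := hD.exists_third s p (a := -1) (b := 1) (by simp [sp]) (by simp) (by simp)
    (by simp [sp])
  obtain ⟨b, hb⟩ := pairing_sub hD pa
  obtain ⟨r, hr⟩ := exists_add sa
  have hv' : rt v = rt r + rt b := by rw [hv, hr, hb, add_assoc]
  have sb : D.pairing s b = 0 := by have := pairing_add s hb; omega
  have va : D.pairing v a = 0 := by rw [hD.pairing_add_left hv]; omega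
  have vs : D.pairing v s = 1 := by rw [hD.pairing_add_left hv, pairing_self, hD.pairing_comm, sp]; rfl
  have ra : D.pairing r a = 1 := by rw [hD.pairing_add_left hr, pairing_self, sa]; rfl
  have rs : D.pairing r s = 1 := by rw [hD.pairing_add_left hr, pairing_self, hD.pairing_comm, sa]; rfl
  obtain ⟨w1, b1, h1, e1⟩ := E.step1 h hr hy c
  obtain ⟨w2, b2, h2, e2⟩ := E.step1 h hv hy c
  obtain ⟨w3, b3, h3, e3⟩ := E.step1 h hv' h1 1
  set g := x b 1 with hg
  have gy : g * y = y * g := cx hy.1 sb.ge 1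
  have gs : g * x s b1 = x s b1 * g := (E.xc sb.ge b1 1).symm
  have ga : g * x a c * g⁻¹ = x a c * x p c := by
    rw [hg, hD.conj_add E.s (hb.trans (add_comm _ _)), one_mul]
  have k1 : w1 * w3 * x r b3 * x s b1 = w1 * x s b1 * w2 * (x s b2 * x r (c * b2)) := by
    calc w1 * w3 * x r b3 * x s b1 = g * w1 * g⁻¹ * x s b1 := by
          rw [mul_assoc w1, ← e3]; group
      _ = g * (w1 * x s b1) * g⁻¹ := by rw [mul_assoc (g * w1), (Commute.inv_left gs).eq]; group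
      _ = (g * y⁻¹ * g⁻¹) * ((g * x a c * g⁻¹) * (g * y * g⁻¹) * (g * x a c * g⁻¹)⁻¹) := by
          rw [← e1]; group
      _ = y⁻¹ * x a c * y * (y⁻¹ * (x p c * y * (x p c)⁻¹)) * (x a c)⁻¹ := by
          rw [ga, gy, (Commute.inv_right gy).eq]; group
      _ = y⁻¹ * (x a c * y * (x a c)⁻¹) * (x a c * w2) * (x a c)⁻¹ *
          (x a c * x s b2 * (x a c)⁻¹) := by rw [e2]; group
      _ = _ := by
          rw [e1, cx h2.1 va.ge, hD.conj_add E.s (hr.trans (add_comm _ _))]; group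
  have k2 : w2⁻¹ * w3 = x s b2 * x r (c * b2 + b3) := by
    rw [mul_assoc w1 (x s b1), cx h2.1 (ge1 vs), mul_assoc, mul_assoc, mul_assoc, mul_right_inj,
      mul_assoc w2, ← mul_assoc (x s b1), E.s.x_comm, mul_assoc (x s b2), ← E.xc (ge1 rs),
      ← mul_assoc, ← mul_assoc, ← mul_assoc, mul_left_inj] at k1
    rw [← E.s.add r r.2, inv_mul_eq_iff_eq_mul, ← mul_assoc, ← mul_assoc, ← k1, mul_assoc,
      x_sq E.s, mul_one]
  have k3 := cx (mul_mem (inv_mem h2.1) h3.1) va.ge (1 : F)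
  rw [k2, mul_assoc, E.xc (ge1 ra), ← mul_assoc, ← mul_assoc, mul_left_inj] at k3
  rw [e2, E.zero_of_comm sa k3.symm, E.s.x_zero, mul_one]
  exact h2

theorem step3 {s p v : Rt D} (hv : rt v = rt s + rt p) {y : G} {d : F} (hy : Tl D x t s y d) (c : F) :
    y⁻¹ * (x p c * y * (x p c)⁻¹) * (y⁻¹ * (x p c * y * (x p c)⁻¹)) = 1 := by
  have hD := E.et
  have vp : D.pairing v p = 1 := by
    rw [hD.pairing_add_left hv, pairing_self, hD.pairing_of_add hv]; rfl
  have := cx (E.step2 h hv hy c).1 (ge1 vp) c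
  calc _ = y⁻¹ * x p c * y * ((x p c)⁻¹ * (y⁻¹ * (x p c * y * (x p c)⁻¹))) := by group
    _ = y⁻¹ * (x p c * x p c) * y * ((x p c)⁻¹ * (x p c)⁻¹) := by
      rw [(Commute.inv_left this).eq]; group
    _ = 1 := by rw [x_inv E.s, x_sq E.s]; group

omit h in
theorem il_x (r : Rt D) (a : F) : Il D x t r (x r a) :=
  ⟨0, E.tl_x r a, x_sq E.s r a, fun _ => x_mem_XR D x r a⟩

theorem il_comm {s p v : Rt D} (hv : rt v = rt s + rt p) {y : G} (hy : Il D x t s y) (c : F) :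
    Il D x t v (y⁻¹ * (x p c * y * (x p c)⁻¹)) := by
  obtain ⟨d, h1, -, h3⟩ := hy
  refine ⟨_, E.step2 h hv h1 c, E.step3 h hv h1 c, fun e => ?_⟩
  rcases mul_eq_zero.1 e with rfl | rfl
  · rw [E.s.x_zero]; simp
  · obtain ⟨b, rfl⟩ := E.s.mem_XR.1 (h3 rfl)
    rw [E.et.conj_add E.s (hv.trans (add_comm _ _)), inv_mul_cancel_left]
    exact x_mem_XR D x _ _

omit h in
/-- two involutions with the same translation differ by an element of `X r` -/
theorem same {r : Rt D} {w w' : G} {c : F} (h1 : Tl D x t r w c) (h2 : Tl D x t r w' c)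
    (ww : w * w = 1) (ww' : w' * w' = 1) (c0 : c ≠ 0) : ∃ a, w' = w * x r a := by
  obtain ⟨a, e | e⟩ := E.tl_ker (r := r) (w := w⁻¹ * w')
    (by simpa [CharTwo.add_self_eq_zero] using E.tl_mul (E.tl_inv h1) h2)
  · exact ⟨a, by rw [← e, mul_inv_cancel_left]⟩
  · exfalso
    have e' : w' = w * x r a * t := by rw [mul_assoc, ← e, mul_inv_cancel_left]
    refine c0 (E.inj r c (mul_left_cancel (a := t) ?_))
    have h3 := cx h1.1 (E.self_nonneg r) a
    rw [← h1.2, inv_eq_of_mul_eq_one_right ww, mul_one]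
    have c1 : Commute (x r a) (t * w) := Commute.mul_right (E.xt r a) h3
    calc w * t * w = w * (x r a * x r a) * (t * w) * (t * t) := by rw [x_sq E.s, E.tt]; group
      _ = w * x r a * (x r a * (t * w)) * t * t := by group
      _ = (w * x r a * t * (w * x r a * t)) * t := by rw [c1.eq]; group
      _ = t := by rw [← e', ww', one_mul]

theorem il_col {r s : Rt D} (rs : D.pairing r s = 1) {w y : G} (hw : Il D x t r w)
    (hy : Il D x t s y) : y * w = w * y := by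
  have hD := E.et
  obtain ⟨e, w1, w2, w3⟩ := hw
  obtain ⟨d, y1, y2, y3⟩ := hy
  by_cases e0 : e = 0
  · obtain ⟨b, rfl⟩ := E.s.mem_XR.1 (w3 e0)
    exact (cx y1.1 (by rw [hD.pairing_comm, rs]; omega) b).symm
  by_cases d0 : d = 0
  · obtain ⟨b, rfl⟩ := E.s.mem_XR.1 (y3 d0)
    exact cx w1.1 (ge1 rs) b
  obtain ⟨p, hp⟩ := pairing_sub hD rs
  have k1 := E.step2 h hp y1 (e / d)
  have k2 := E.step3 h hp y1 (e / d)
  rw [div_mul_cancel₀ e d0] at k1
  obtain ⟨a, rfl⟩ := E.same k1 w1 k2 w2 e0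
  refine Commute.mul_right ?_ (cx y1.1 (by rw [hD.pairing_comm, rs]; omega) a).symm
  set z := x p (e / d) * y * (x p (e / d))⁻¹ with hz
  have zz : z * z = 1 := by
    calc z * z = x p (e / d) * (y * y) * (x p (e / d))⁻¹ := by rw [hz]; group
      _ = 1 := by rw [y2]; group
  have yi := inv_eq_of_mul_eq_one_right y2
  rw [yi] at k2 ⊢
  have : z * y = y * z := by
    rw [← inv_eq_of_mul_eq_one_right k2, mul_inv_rev, yi, inv_eq_of_mul_eq_one_right zz]
  show y * (y * z) = y * z * y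
  rw [mul_assoc, this]

theorem il_onto (r : Rt D) (c : F) : ∃ w, Il D x t r w ∧ Tl D x t r w c := by
  by_cases c0 : c = 0
  · exact ⟨_, E.il_x r 0, c0 ▸ E.tl_x r 0⟩
  obtain ⟨s, p, hp⟩ := E.et.exists_sum r
  obtain ⟨y, hy⟩ := E.tl_all h s c
  have := E.step2 h hp hy 1
  rw [one_mul] at this
  exact ⟨_, ⟨c, this, E.step3 h hp hy 1, fun e => absurd e c0⟩, this⟩

theorem il_ab {r : Rt D} {w w' : G} (hw : Il D x t r w) (hw' : Il D x t r w') :
    w * w' = w' * w := by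
  have hD := E.et
  obtain ⟨e, w1, w2, w3⟩ := hw
  have ⟨e', v1, _⟩ := hw'
  by_cases e0 : e = 0
  · obtain ⟨b, rfl⟩ := E.s.mem_XR.1 (w3 e0)
    exact cx v1.1 (E.self_nonneg r) b
  obtain ⟨s, p, hp⟩ := hD.exists_sum r
  have sp := hD.pairing_of_add hp
  obtain ⟨y, hy, y1⟩ := E.il_onto h s e
  have k1 := E.step2 h hp y1 1
  have k2 := E.step3 h hp y1 1
  rw [one_mul] at k1
  obtain ⟨a, rfl⟩ := E.same k1 w1 k2 w2 e0
  have c1 : Commute y w' := E.il_col h
    (by rw [hD.pairing_add_left hp, pairing_self, hD.pairing_comm, sp]; rfl) hw' hy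
  have c2 : Commute (x p 1) w' :=
    cx v1.1 (by rw [hD.pairing_add_left hp, pairing_self, sp]; omega) 1
  exact (c1.inv_left.mul_left ((c2.mul_left c1).mul_left c2.inv_left)).mul_left
    (cx v1.1 (E.self_nonneg r) a)

omit h in
theorem il_nt (r : Rt D) : ¬ Il D x t r t := by
  rintro ⟨c, h1, -, h3⟩
  obtain ⟨a, e⟩ := E.s.mem_XR.1 (h3 (E.tl_zero h1 rfl))
  exact E.nt (e ▸ x_mem_GG r a)

/-- the big root subgroup -/
def AA (r : Rt D) : Subgroup G where
  carrier := {w | Il D x t r w}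
  one_mem' := by simpa [E.s.x_zero] using E.il_x r 0
  inv_mem' := fun {w} hw => by
    have ⟨_, _, h2, _⟩ := hw
    rwa [inv_eq_of_mul_eq_one_right h2]
  mul_mem' := fun {w w'} hw hw' => by
    have ab := E.il_ab h hw hw'
    obtain ⟨c, w1, w2, w3⟩ := hw
    obtain ⟨c', v1, v2, v3⟩ := hw'
    refine ⟨_, E.tl_mul w1 v1, ?_, fun e => ?_⟩
    · calc w * w' * (w * w') = w * (w' * w) * w' := by group
        _ = (w * w) * (w' * w') := by rw [← ab]; group
        _ = 1 := by rw [w2, v2, mul_one]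
    · have : c' = c := by rw [← CharTwo.neg_eq c]; exact eq_neg_of_add_eq_zero_right e
      subst this
      by_cases c0 : c' = 0
      · exact mul_mem (w3 c0) (v3 c0)
      · obtain ⟨a, rfl⟩ := E.same w1 v1 w2 v2 c0
        rw [← mul_assoc, w2, one_mul]
        exact x_mem_XR D x r a

omit h in
theorem tl_of {r : Rt D} {w : G} (h1 : w ∈ Cs (P0 D x r)) (h2 : w * t * w⁻¹ * t⁻¹ ∈ XR D x r) :
    ∃ c, Tl D x t r w c := by
  obtain ⟨c, e⟩ := E.s.mem_XR.1 h2
  exact ⟨c, h1, by rw [← E.xt, ← e, inv_mul_cancel_right]⟩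

omit h in
theorem card_XR (r : Rt D) : Nat.card (XR D x r) = Nat.card F :=
  (Nat.card_congr (Equiv.ofBijective (fun c => (⟨x r c, x_mem_XR D x r c⟩ : XR D x r))
    ⟨fun a b e => by
      have e' : x r a = x r b := congrArg Subtype.val e
      have := E.inj r (a + b) (by rw [← E.s.add r r.2, e', x_sq E.s])
      rw [← CharTwo.neg_eq b]
      exact eq_neg_of_add_eq_zero_left this,
    fun ⟨g, hg⟩ => by
      obtain ⟨c, rfl⟩ := E.s.mem_XR.1 hg
      exact ⟨c, rfl⟩⟩)).symm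

omit h in
theorem il_cj {n : G} (hn : n ∈ Cz t) {r s : Rt D} (e : cjs n (XR D x r) = XR D x s) {w : G}
    (hw : Il D x t r w) : Il D x t s (n * w * n⁻¹) := by
  obtain ⟨c, w1, w2, w3⟩ := hw
  have nt : n * t * n⁻¹ = t := by rw [← mem_Cz.1 hn, mul_inv_cancel_right]
  have m : ∀ g ∈ XR D x r, n * g * n⁻¹ ∈ XR D x s := fun g hg => e ▸ ⟨g, hg, rfl⟩
  obtain ⟨c', hc⟩ := E.s.mem_XR.1 (m _ (x_mem_XR D x r c))
  refine ⟨c', ⟨mem_Cs_gen.2 fun v hv b => ?_, ?_⟩, ?_, fun e0 => ?_⟩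
  · have h1 : n⁻¹ * x v b * n ∈ P0 D x r := by
      refine E.p0 r _ ?_ ?_
      · simpa using (mem_normalizer_iff.1 (inv_mem (E.ct hn)) _).1 (x_mem_GG v b)
      · obtain ⟨c1, h1⟩ := E.s.mem_XR.1 (m _ (x_mem_XR D x r 1))
        calc x r 1 * (n⁻¹ * x v b * n) = n⁻¹ * (n * x r 1 * n⁻¹ * x v b) * n := by group
          _ = _ := by rw [h1, E.xc hv, ← h1]; group
    calc x v b * (n * w * n⁻¹) = n * (n⁻¹ * x v b * n * w) * n⁻¹ := by group
      _ = _ := by rw [mem_Cs.1 w1.1 _ h1]; group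
  · calc n * w * n⁻¹ * t * (n * w * n⁻¹)⁻¹ = n * (w * (n⁻¹ * t * n) * w⁻¹) * n⁻¹ := by group
      _ = n * t * n⁻¹ * (n * x r c * n⁻¹) := by
        rw [mul_assoc n⁻¹, mem_Cz.1 hn, inv_mul_cancel_left, w1.2]; group
      _ = _ := by rw [nt, hc]
  · calc _ = n * (w * w) * n⁻¹ := by group
      _ = 1 := by rw [w2]; group
  · rw [e0, E.s.x_zero] at hc
    exact m _ (w3 (E.inj r c (by simpa using hc)))

theorem fam [Tab D] : Fam D x t (E.AA h) := by
  have le : ∀ r, XR D x r ≤ E.AA h r := fun r g hg => by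
    obtain ⟨c, rfl⟩ := E.s.mem_XR.1 hg
    exact E.il_x r c
  have tc : ∀ r, ∀ a ∈ E.AA h r, a * t * a⁻¹ * t⁻¹ ∈ XR D x r := fun r a ⟨c, h1, _⟩ => by
    rw [h1.2, ← E.xt, mul_inv_cancel_right]
    exact x_mem_XR D x r c
  have onto : ∀ (r : Rt D) (c : F), ∃ a ∈ E.AA h r, a * t * a⁻¹ = t * x r c := fun r c =>
    let ⟨w, h1, h2⟩ := E.il_onto h r c; ⟨w, h1, h2.2⟩
  have fix : ∀ r, ∀ a ∈ E.AA h r, a ∈ Cz t → a ∈ XR D x r := fun r a ⟨c, h1, _, h3⟩ ha =>
    h3 (E.tl_zero h1 (mem_Cz.1 ha))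
  refine ⟨le, fun r a ⟨_, _, h2, _⟩ => h2, fun r => ?_, E.il_nt, tc, onto, fix,
    fun r a ⟨_, h1, _⟩ => h1.1, fun r w h1 h2 => ?_, fun n hn r s e => ?_,
    fun r s rs a ha => mem_Cs.2 fun b hb => E.il_col h rs ha hb, fun r s v hv a ha c => ?_⟩
  · let f : E.AA h r →* G := MonoidHom.mk' (fun a => a * t * (a : G)⁻¹ * t⁻¹) (by
      rintro ⟨a, c, a1, -⟩ ⟨b, d, b1, -⟩
      show a * b * t * (a * b)⁻¹ * t⁻¹ = a * t * a⁻¹ * t⁻¹ * (b * t * b⁻¹ * t⁻¹)
      rw [(E.tl_mul a1 b1).2, a1.2, b1.2, ← E.xt, ← E.xt, ← E.xt, ← E.s.add r r.2]; group)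
    have h1 : f.range = XR D x r := by
      refine le_antisymm (by rintro _ ⟨a, rfl⟩; exact tc r a a.2) fun g hg => ?_
      obtain ⟨c, rfl⟩ := E.s.mem_XR.1 hg
      obtain ⟨a, ha, e⟩ := onto r c
      refine ⟨⟨a, ha⟩, ?_⟩
      show a * t * a⁻¹ * t⁻¹ = _
      rw [e, ← E.xt, mul_inv_cancel_right]
    have h2 : f.ker = (XR D x r).subgroupOf (E.AA h r) := by
      ext a
      show (a : G) * t * (a : G)⁻¹ * t⁻¹ = 1 ↔ (a : G) ∈ XR D x r
      rw [mul_inv_eq_one, mul_inv_eq_iff_eq_mul]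
      refine ⟨fun e => fix r a a.2 (mem_Cz.2 e.symm), fun e => ?_⟩
      obtain ⟨c, e⟩ := E.s.mem_XR.1 e
      rw [e, E.xt]
    rw [← card_mul_index f.ker, index_ker, h1, h2,
      Nat.card_congr (subgroupOfEquivOfLe (le r)).toEquiv, E.card_XR, sq]
  · obtain ⟨c, hc⟩ := E.tl_of h1 h2
    obtain ⟨a, a1, a2⟩ := E.il_onto h r c
    obtain ⟨b, e | e⟩ := E.tl_ker (r := r) (w := a⁻¹ * w)
      (by simpa [CharTwo.add_self_eq_zero] using E.tl_mul (E.tl_inv a2) hc)
    · left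
      rw [inv_mul_eq_iff_eq_mul.1 e]
      exact mul_mem (S := Subgroup G) a1 (E.il_x r b)
    · right
      rw [inv_mul_eq_iff_eq_mul.1 e, mul_assoc, mul_assoc, E.tt, mul_one]
      exact mul_mem (S := Subgroup G) a1 (E.il_x r b)
  · refine le_antisymm (by rintro _ ⟨a, ha, rfl⟩; exact E.il_cj hn e ha) fun b hb => ?_
    refine ⟨n⁻¹ * b * n⁻¹⁻¹, E.il_cj (inv_mem hn) ?_ hb, by simp [mul_assoc]⟩
    rw [← e]
    exact cjs_inv n _
  · have := E.il_comm h hv ha c
    have ⟨_, _, h2, _⟩ := ha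
    have ai := inv_eq_of_mul_eq_one_right h2
    rw [ai, ← mul_assoc, ← mul_assoc] at this
    rwa [ai]

end Env

theorem jobP2b (hTy : JobTy) (hFA : JobFA) (hFR : JobFR) : JobP2b.{u} :=
  fun _ _ _ _ hD _ _ _ _ _ _ _ _ _ H h => ⟨_, (env_of hTy hFA hFR hD H).fam h⟩

end H70.Sg
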