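import Cfsg.Agent.H70.SgP2b

/-! STD-G job `P3a`: the remaining commutator relations. -/

set_option autoImplicit false
set_option linter.unusedSectionVars false

namespace H70.Sg

open Cfsg.Lie H63 H65 H64 H64.SG Subgroup

universe u

variable {D : ChevalleyDatum} [RS D] [Tab D] {F : Type} [Field F] [CharP F 2] {G : Type u} [Group G]
  {x : ℕ → F → G} {t : G} {A : Rt D → Subgroup G}

namespace Env

variable (E : Env D x t) (M : Fam D x t A)
include E M

theorem tl {r : Rt D} {a : G} (ha : a ∈ A r) : ∃ c, Tl D x t r a c := E.tl_of (M.cp r ha) (M.tc r a ha)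

omit E in
theorem ai {r : Rt D} {a : G} (ha : a ∈ A r) : a⁻¹ = a := inv_eq_of_mul_eq_one_right (M.sq r a ha)

omit E in
theorem ab {r : Rt D} {a b : G} (ha : a ∈ A r) (hb : b ∈ A r) : a * b = b * a := by
  rw [← ai M (mul_mem ha hb), mul_inv_rev, ai M ha, ai M hb]

omit E in
theorem col {r s : Rt D} (h : D.pairing r s = 1) {a b : G} (ha : a ∈ A r) (hb : b ∈ A s) :
    Commute a b := (mem_Cs.1 (M.col r s h ha) b hb).symm

/-- `A r` acts faithfully on `x v 1`, `r + v` a root. -/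
theorem eq_one {r v : Rt D} (h : D.pairing r v = -1) {a : G} (ha : a ∈ A r)
    (e : Commute a (x v 1)) : a = 1 := by
  obtain ⟨c, hc⟩ := E.tl M ha
  have h1 : Commute (t * x r c) (x v 1) := by
    rw [← hc.2]
    exact (e.mul_left (E.xt v 1).symm).mul_left e.inv_left
  have h2 : Commute (x r c) (x v 1) := by
    simpa using (Commute.inv_left (E.xt v 1).symm).mul_left h1
  have h3 := hc.2
  rw [E.zero_of_comm h h2, E.s.x_zero, mul_one, mul_inv_eq_iff_eq_mul] at h3
  obtain ⟨b, rfl⟩ := E.s.mem_XR.1 (M.fix r a ha (mem_Cz.2 h3.symm))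
  rw [E.zero_of_comm h e, E.s.x_zero]

theorem onto_comm [Finite G] {r p v : Rt D} (hv : rt v = rt r + rt p) {b : G} (hb : b ∈ A v) :
    ∃ a ∈ A r, b = a * x p 1 * a⁻¹ * (x p 1)⁻¹ := by
  have hD := E.et
  have rp := hD.pairing_of_add hv
  have rv : D.pairing r v = 1 := by rw [pairing_add r hv, pairing_self, rp]; rfl
  let f : A r → A v := fun a => ⟨_, M.neg r p v hv a a.2 1⟩
  have inj : Function.Injective f := fun a a' e => by
    have e' : (a : G) * x p 1 * (a : G)⁻¹ * (x p 1)⁻¹ = a' * x p 1 * (a' : G)⁻¹ * (x p 1)⁻¹ :=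
      congrArg Subtype.val e
    rw [mul_left_inj] at e'
    refine Subtype.ext (inv_mul_eq_one.1 (E.eq_one M rp (mul_mem (inv_mem a.2) a'.2) ?_))
    show _ = _
    calc (a : G)⁻¹ * a' * x p 1 = (a : G)⁻¹ * (a' * x p 1 * (a' : G)⁻¹) * a' := by group
      _ = _ := by rw [← e']; group
  obtain ⟨a, e⟩ := ((Nat.bijective_iff_injective_and_card f).2
    ⟨inj, by rw [M.card, M.card]⟩).2 ⟨b, hb⟩
  exact ⟨a, a.2, (congrArg Subtype.val e).symm⟩

theorem pol1 {r s : Rt D} (h : D.pairing r s = 0) {y b : G} (hy : y ∈ A r) (hb : b ∈ A s) :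
    ∃ c d, y * b * y⁻¹ * b⁻¹ = x r c * x s d := by
  have h' : D.pairing s r = 0 := by rw [E.et.pairing_comm, h]
  obtain ⟨c, hc⟩ := E.tl M hy
  obtain ⟨d, hd⟩ := E.tl M hb
  have k1 : y * b * t * (y * b)⁻¹ = b * y * t * (b * y)⁻¹ := by
    calc y * b * t * (y * b)⁻¹ = y * (b * t * b⁻¹) * y⁻¹ := by group
      _ = y * t * y⁻¹ * (y * x s d) * y⁻¹ := by rw [hd.2]; group
      _ = t * (x r c * x s d) := by rw [hc.2, ← cx hc.1 h.ge]; group
      _ = b * t * b⁻¹ * (b * x r c) * b⁻¹ := by rw [hd.2, ← cx hd.1 h'.ge, E.xc h.ge]; group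
      _ = b * (y * t * y⁻¹) * b⁻¹ := by rw [hc.2]; group
      _ = _ := by group
  have k2 : t * (y * b * y⁻¹ * b⁻¹) = y * b * y⁻¹ * b⁻¹ * t := by
    have : (b * y)⁻¹ * (y * b) * t = t * ((b * y)⁻¹ * (y * b)) := by
      calc _ = (b * y)⁻¹ * (y * b * t * (y * b)⁻¹) * (y * b) := by group
        _ = _ := by rw [k1]; group
    rw [mul_inv_rev, ai M hy, ai M hb] at this
    rw [ai M hy, ai M hb]
    simpa only [mul_assoc] using this.symm
  have m1 : y ∈ Cs (P2 D x r s) := mem_Cs_gen.2 fun v hv a => cx hc.1 hv.1 a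
  have m2 : b ∈ Cs (P2 D x r s) := mem_Cs_gen.2 fun v hv a => cx hd.1 hv.2 a
  obtain ⟨c', d', e | e⟩ := E.cp r s (Or.inl h) _ k2
    (mul_mem (mul_mem (mul_mem m1 m2) (inv_mem m1)) (inv_mem m2))
  · exact ⟨c', d', e⟩
  · have z1 : Commute (x r c' * x s d') y :=
      Commute.mul_left (cx hc.1 (E.self_nonneg r) c') (cx hc.1 h.ge d')
    have z2 : x r c' * x s d' * t * (x r c' * x s d' * t) = 1 := by
      calc _ = x r c' * x s d' * (t * (x r c' * x s d')) * t := by group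
        _ = x r c' * (x s d' * x r c') * x s d' * (t * t) := by
          rw [← E.tc _ (mul_mem (x_mem_GG r c') (x_mem_GG s d'))]; group
        _ = (x r c' * x r c') * (x s d' * x s d') := by rw [← E.xc h.ge, E.tt]; group
        _ = 1 := by rw [x_sq E.s, x_sq E.s, mul_one]
    have z3 : y * (x r c' * x s d' * t) * y⁻¹ = x r c' * x s d' * t := by
      rw [← inv_eq_of_mul_eq_one_right z2, ← e]
      nth_rewrite 1 [e, inv_eq_of_mul_eq_one_right z2, ← e]
      rw [ai M hy, ai M hb]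
      simp only [mul_inv_rev, ai M hy, ai M hb, ← mul_assoc, M.sq r y hy, one_mul]
    have z4 : t * y = y * t := by
      rw [mul_inv_eq_iff_eq_mul, ← mul_assoc, ← z1.eq, mul_assoc, mul_assoc (x r c' * x s d'),
        mul_right_inj] at z3
      exact z3.symm
    obtain ⟨a, rfl⟩ := E.s.mem_XR.1 (M.fix r y hy (mem_Cz.2 z4))
    exact ⟨0, 0, by rw [cx hd.1 h'.ge, E.s.x_zero, E.s.x_zero]; group⟩

theorem pol [Finite G] {r s : Rt D} (h : D.pairing r s = 0) {y b : G} (hy : y ∈ A r)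
    (hb : b ∈ A s) : Commute y b := by
  have hD := E.et
  obtain ⟨s1, h1, h2⟩ := hD.exists_third r s (a := 1) (b := 1) (by simp [h]) (by simp) (by simp)
    (by simp [h])
  obtain ⟨s2, hs⟩ := pairing_sub hD h2
  have h3 : D.pairing r s2 = -1 := by have := pairing_add r hs; omega
  obtain ⟨u, hu⟩ := exists_add h3
  have h4 := hD.pairing_of_add hs
  have h5 : D.pairing s s2 = 1 := by rw [hD.pairing_add_left hs, pairing_self, h4]; rfl
  have h6 : D.pairing u s = 1 := by rw [hD.pairing_add_left hu, h, hD.pairing_comm, h5]; rfl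
  have h7 : D.pairing s1 u = 0 := by rw [pairing_add s1 hu, h4, hD.pairing_comm, h1]; rfl
  have h8 : D.pairing u s2 = 1 := by rw [hD.pairing_add_left hu, pairing_self, h3]; rfl
  have h9 : D.pairing r u = 1 := by rw [pairing_add r hu, pairing_self, h3]; rfl
  obtain ⟨a, ha, e⟩ := E.onto_comm M hs hb
  have ha' := M.neg r s2 u hu y hy 1
  set a' := y * x s2 1 * y⁻¹ * (x s2 1)⁻¹ with ea
  have c1 := col M h1 hy ha
  have c2 := col M h6 ha' hb
  have k : y * b * y⁻¹ * b⁻¹ = a * a' * a⁻¹ * a'⁻¹ := by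
    calc y * b * y⁻¹ * b⁻¹ = (y * a * y⁻¹) * (y * x s2 1 * y⁻¹) * (y * a * y⁻¹)⁻¹ *
          (y * x s2 1 * y⁻¹)⁻¹ * b⁻¹ := by rw [e]; group
      _ = a * a' * a⁻¹ * (b * a'⁻¹) * b⁻¹ := by rw [c1.eq, e, ea]; group
      _ = _ := by rw [← c2.inv_left.eq]; group
  obtain ⟨c, d, e1⟩ := E.pol1 M h hy hb
  obtain ⟨c', d', e2⟩ := E.pol1 M h7 ha ha'
  have e3 : x r c * x s d = x s1 c' * x u d' := by rw [← e1, k, e2]
  have e4 : x r c * x u c * x s d = x s1 c' * x s c' * x u d' := by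
    calc x r c * x u c * x s d = (x s2 1 * x r c * (x s2 1)⁻¹) * (x s2 1 * x s d) * (x s2 1)⁻¹ := by
          rw [hD.conj_add E.s (hu.trans (add_comm _ _)), ← E.xc (ge1 h5), one_mul]; group
      _ = x s2 1 * (x r c * x s d) * (x s2 1)⁻¹ := by group
      _ = (x s2 1 * x s1 c' * (x s2 1)⁻¹) * (x s2 1 * x u d') * (x s2 1)⁻¹ := by rw [e3]; group
      _ = _ := by
          rw [hD.conj_add E.s (hs.trans (add_comm _ _)), ← E.xc (ge1 h8), one_mul]; group
  rw [mul_assoc, E.xc (ge1 h6), ← mul_assoc, e3, mul_assoc (x s1 c') (x s c'), ← E.xc (ge1 h6),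
    ← mul_assoc, mul_right_inj] at e4
  have c0 := E.zero_of_eq h6 e4
  have c0' := E.zero_of_eq (by rw [hD.pairing_comm, h6]) e4.symm
  rw [c0, c0', E.s.x_zero, E.s.x_zero, one_mul, one_mul] at e3
  rw [c0, E.zero_of_eq (by rw [hD.pairing_comm, h6]) e3, E.s.x_zero, E.s.x_zero, mul_one] at e1
  show y * b = b * y
  rw [← mul_inv_eq_one, ← e1]; group

theorem nn [Finite G] {r s : Rt D} (h : 0 ≤ D.pairing r s) {y b : G} (hy : y ∈ A r)
    (hb : b ∈ A s) : Commute y b := by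
  rcases E.et.pairing_cases r s with rfl | rfl | e | e | e
  · exact ab M hy hb
  · rw [negR_val, pairing_negR_right, pairing_self] at h; omega
  · omega
  · exact E.pol M e hy hb
  · exact col M e hy hb

theorem neg1 [Finite G] {r s v w : Rt D} (hv : rt v = rt r + rt s) (h : 0 ≤ D.pairing v w)
    (h' : 0 ≤ D.pairing r w) {y b : G} (hy : y ∈ A r) (hb : b ∈ A s) (c : F) :
    Commute (x w c) (y * b * y⁻¹ * b⁻¹) := by
  have hD := E.et
  have rs := hD.pairing_of_add hv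
  have c1 : Commute (x w c) y := cx (M.cp r hy) h' c
  by_cases h0 : 0 ≤ D.pairing s w
  · have c2 : Commute (x w c) b := cx (M.cp s hb) h0 c
    exact ((c1.mul_right c2).mul_right c1.inv_right).mul_right c2.inv_right
  have hp := hD.pairing_add_left hv w
  have h1 : D.pairing s w = -1 := by
    by_contra h3
    have := hD.eq_neg_of_pairing (r := s) (s := w) (by omega)
    subst this
    rw [negR_val, pairing_negR_right, hD.pairing_add_left hv, rs, pairing_self] at h
    omega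
  obtain ⟨p, hp'⟩ := exists_add h1
  have hb' := M.neg s w p hp' b hb c
  set b' := b * x w c * b⁻¹ * (x w c)⁻¹ with eb
  have c2 := E.nn M (r := r) (s := p) (by rw [pairing_add r hp']; omega) hy hb'
  show _ = _
  calc x w c * (y * b * y⁻¹ * b⁻¹) = (x w c * y) * (x w c)⁻¹ * b'⁻¹ * b * (x w c * y⁻¹) * (x w c)⁻¹ *
        (b⁻¹ * b') * x w c := by rw [eb]; group
    _ = y * (b'⁻¹ * b) * (y⁻¹ * (b⁻¹ * b')) * x w c := by rw [c1.eq, c1.inv_right.eq]; group
    _ = _ := by
      have c3 := E.nn M (r := s) (s := p) (by rw [pairing_add s hp', pairing_self]; omega) hb hb'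
      rw [← c3.inv_right.eq, c3.inv_left.eq, ← mul_assoc y⁻¹, c2.inv_left.eq]; group

theorem neg2 [Finite G] {r s v : Rt D} (hv : rt v = rt r + rt s) {y b : G} (hy : y ∈ A r)
    (hb : b ∈ A s) : y * b * y⁻¹ * b⁻¹ ∈ A v := by
  have hD := E.et
  have hv' := hv.trans (add_comm _ _)
  have rs := hD.pairing_of_add hv
  have vr : D.pairing v r = 1 := by rw [hD.pairing_add_left hv, pairing_self, hD.pairing_comm, rs]; rfl
  have vs : D.pairing v s = 1 := by rw [hD.pairing_add_left hv, pairing_self, rs]; rfl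
  have k1 : y * b * y⁻¹ * b⁻¹ ∈ Cs (P0 D x v) := by
    refine mem_Cs_gen.2 fun w hw c => ?_
    by_cases h0 : 0 ≤ D.pairing r w
    · exact E.neg1 M hv hw h0 hy hb c
    · have hp := hD.pairing_add_left hv w
      have hw' : 0 ≤ D.pairing v w := hw
      have := (E.neg1 M hv' hw (by omega) hb hy c).inv_right
      rwa [show (b * y * b⁻¹ * y⁻¹)⁻¹ = y * b * y⁻¹ * b⁻¹ by group] at this
  obtain ⟨c, hc⟩ := E.tl M hy
  obtain ⟨d, hd⟩ := E.tl M hb
  have ha1 := M.neg r s v hv y hy d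
  have ha2 := M.neg s r v hv' b hb c
  set a1 := y * x s d * y⁻¹ * (x s d)⁻¹ with e1
  set a2 := b * x r c * b⁻¹ * (x r c)⁻¹ with e2
  have xr := M.le r (x_mem_XR D x r c)
  have xs := M.le s (x_mem_XR D x s d)
  have f1 : y * x s d * y⁻¹ = a1 * x s d := by rw [e1]; group
  have f2 : b * x r c * b⁻¹ = a2 * x r c := by rw [e2]; group
  have g : ∀ {a z : G}, Commute a z → z * a * z⁻¹ = a := fun h => by
    rw [← h.eq, mul_inv_cancel_right]
  have yx := g (show Commute (x r c) y from ab M xr hy)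
  have bx := g (show Commute (x s d) b from ab M xs hb)
  have k2 : ∃ a ∈ A v, y * b * y⁻¹ * b⁻¹ * t * (y * b * y⁻¹ * b⁻¹)⁻¹ = t * a := by
    refine ⟨x v (c * d) * a1 * a2, mul_mem (mul_mem (M.le v (x_mem_XR D x v _)) ha1) ha2, ?_⟩
    have i1 := ai M hy
    have i2 := ai M hb
    have p1 : y * (t * x s d) * y⁻¹ = t * x r c * (a1 * x s d) := by rw [← hc.2, ← f1]; group
    have p2 : b * (t * x r c * (a1 * x s d)) * b⁻¹ = t * x s d * (a2 * x r c) * (a1 * x s d) := by
      rw [← hd.2, ← f2]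
      nth_rewrite 2 [← g (col M vs ha1 hb), ← bx]
      group
    have p3 : y * (t * x s d * (a2 * x r c) * (a1 * x s d)) * y⁻¹ =
        t * x r c * (a1 * x s d) * (a2 * x r c) * (a1 * (a1 * x s d)) := by
      calc _ = (y * t * y⁻¹) * (y * x s d * y⁻¹) * ((y * a2 * y⁻¹) * (y * x r c * y⁻¹)) *
            ((y * a1 * y⁻¹) * (y * x s d * y⁻¹)) := by group
        _ = _ := by rw [hc.2, f1, g (col M vr ha2 hy), yx, g (col M vr ha1 hy)]
    calc _ = y * (b * (y⁻¹ * (b⁻¹ * t * b⁻¹⁻¹) * y⁻¹⁻¹) * b⁻¹) * y⁻¹ := by group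
      _ = t * x r c * (a1 * x s d) * (a2 * x r c) * (a1 * (a1 * x s d)) := by
        rw [(E.tl_inv hd).2, inv_inv, ← p3, ← p2, ← p1, i1]
      _ = t * (x r c * a1) * (x s d * a2) * x r c * x s d := by
        rw [← mul_assoc a1 a1, M.sq v a1 ha1]; group
      _ = t * (a1 * a2) * (x r c * x s d * (x r c)⁻¹ * (x s d)⁻¹) := by
        rw [← (col M vr ha1 xr).eq, ← (col M vs ha2 xs).eq, x_inv E.s, x_inv E.s]
        calc _ = t * a1 * (x r c * a2) * x s d * x r c * x s d := by group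
          _ = _ := by rw [← (col M vr ha2 xr).eq]; group
      _ = _ := by
        rw [hD.commutator_add E.s hv, mul_assoc t,
          ab M (mul_mem ha1 ha2) (M.le v (x_mem_XR D x v _)), mul_assoc (x v (c * d))]
  obtain ⟨a, ha, k2⟩ := k2
  have k3 : t * a = a * t := by
    have : t * a * (t * a) = 1 := by
      rw [← k2]
      calc _ = y * b * y⁻¹ * b⁻¹ * (t * t) * (y * b * y⁻¹ * b⁻¹)⁻¹ := by group
        _ = 1 := by rw [E.tt]; group
    rw [← inv_eq_of_mul_eq_one_right this, mul_inv_rev, ai M ha, E.ti]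
  rcases M.intr v _ k1 (by
    rw [k2, k3, mul_inv_cancel_right]; exact M.fix v a ha (mem_Cz.2 k3)) with h | h
  · exact h
  · set a' := y * b * y⁻¹ * b⁻¹ * t with ea
    obtain ⟨c', hc'⟩ := E.tl M h
    have q1 : y * (a' * t) * y⁻¹ = (a' * t)⁻¹ := by
      rw [ea, mul_assoc _ t t, E.tt, mul_one, ai M hy, ai M hb]
      simp only [mul_inv_rev, ai M hy, ai M hb, ← mul_assoc, M.sq r y hy, one_mul]
    have q2 : x r c = x v c' := by
      rw [show y * (a' * t) * y⁻¹ = (y * a' * y⁻¹) * (y * t * y⁻¹) by group, g (col M vr h hy),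
        hc.2, mul_inv_rev, E.ti, ai M h] at q1
      have q3 := hc'.2
      rw [mul_inv_eq_iff_eq_mul] at q3
      rw [← mul_assoc, q3, mul_assoc, mul_assoc, mul_right_inj, (col M vr h xr).eq, ← mul_assoc,
        mul_eq_right] at q1
      rw [← x_inv E.s v]
      exact eq_inv_of_mul_eq_one_right q1
    have q4 := hc.2
    rw [E.zero_of_eq (by rw [hD.pairing_comm, vr]) q2, E.s.x_zero, mul_one,
      mul_inv_eq_iff_eq_mul] at q4
    obtain ⟨c'', rfl⟩ := E.s.mem_XR.1 (M.fix r y hy (mem_Cz.2 q4.symm))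
    have := inv_mem (M.neg s r v hv' b hb c'')
    rwa [show (b * x r c'' * b⁻¹ * (x r c'')⁻¹)⁻¹ = x r c'' * b * (x r c'')⁻¹ * b⁻¹ by group] at this

theorem fam2 [Finite G] : Fam2 D x t A :=
  ⟨M, fun _ _ h _ ha => mem_Cs.2 fun _ hb => (E.pol M h ha hb).symm.eq,
    fun _ _ _ h _ ha _ hb => E.neg2 M h ha hb⟩

end Env

theorem jobP3a (hTy : JobTy) (hFA : JobFA) (hFR : JobFR) : JobP3a.{u} :=
  fun _ _ _ _ hD _ _ _ _ _ _ _ _ _ _ H M => (env_of hTy hFA hFR hD H).fam2 M

end H70.Sg
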