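import Cfsg.Agent.H70.RI3
import Cfsg.Agent.H51.GoldHub
import Cfsg.Agent.H66.RIDisc
import Cfsg.Agent.H66.ROInv
import Cfsg.Agent.H66.HubS

/-! A non-degenerate class of root involutions has a connected commuting graph. -/

open Cfsg

namespace H70

universe u

theorem ro_comm_trans {G Ω : Type*} [Group G] [Finite G] [MulAction G Ω] {ω : Ω} {t : G} {Q : Subgroup G}
    (hS : IsRankOneSetup G Ω ω t Q) (h2 : H69.TwoRank G) {a m b : G} (a1 : a ≠ 1) (sa : a * a = 1) (m1 : m ≠ 1)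
    (sm : m * m = 1) (b1 : b ≠ 1) (sb : b * b = 1) (c1 : Commute m a) (c2 : Commute m b) : Commute a b := by
  obtain ⟨y, hy⟩ := H69.RO.exists_fix hS sm
  obtain ⟨g, hg⟩ := H69.RO.exists_smul_eq hS y ω
  have hm : g * m * g⁻¹ ∈ H69.roI G ω :=
    ⟨show (g * m * g⁻¹) • ω = ω by rw [← hg, mul_smul, mul_smul, inv_smul_smul, hy],
      fun e => m1 (by simpa using e), by rw [conj_mul, sm, mul_one, mul_inv_cancel]⟩
  have k : ∀ s : G, s ≠ 1 → s * s = 1 → Commute m s → g * s * g⁻¹ ∈ H69.roI G ω := fun s s1 ss c =>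
    H66.RI.ro_mem_roI hS hm (fun e => s1 (by simpa using e)) (by rw [conj_mul, ss, mul_one, mul_inv_cancel])
      (c.conj g)
  have := H69.RO.roI_comm hS h2 (k a a1 sa c1) (k b b1 sb c2)
  simpa [mul_assoc] using Commute.conj this g⁻¹

theorem NDC.comm_connected {G : Type u} [Group G] [Finite G] {D : Set G} (h : NDC D) :
    IsConnectedSet (CommAdj D) D := by
  by_contra hn
  have hD := h.ri
  obtain ⟨a, ha, -⟩ := H66.RI.exists_not_cp hn 1
  obtain ⟨b, hb, h4⟩ := h.four a ha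
  have sa := ri_sq hD ha; have sb := ri_sq hD hb
  have hm := ri_four_mem hD ha hb h4
  have hDD : (D ∩ commutingProducts D).Nonempty := by
    obtain ⟨e, he, c, hae⟩ := h.exists_prod ha
    exact ⟨a * e, hae, a, ha, e, he, c.eq, ri_ne_one hD hae, rfl⟩
  obtain ⟨_, h1, h2, h3⟩ := H66.RI.quot_data hD hDD hn
  obtain ⟨H, t, Q, hS, -, h5, -⟩ := H66.RI.exists_setup (fun M a z b c d e f => H51.asch M a z b c d e f)
    H66.RI.hubSimple h1 h3 h2
  set f := QuotientGroup.mk' (twoZCore G)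
  have k : ∀ d ∈ D, f d ≠ 1 ∧ f d * f d = 1 := fun d hd =>
    ⟨ri_ne_one h1 ⟨d, hd, rfl⟩, ri_sq h1 ⟨d, hd, rfl⟩⟩
  have c := ro_comm_trans hS h5 (k a ha).1 (k a ha).2 (k _ hm).1 (k _ hm).2 (k b hb).1 (k b hb).2
    ((h4.comm_left sa sb).symm.map f) ((h4.comm_right sa sb).symm.map f)
  refine (k _ hm).1 ?_
  rw [map_mul, map_mul, map_mul, mul_assoc (f a), ← c.eq, ← mul_assoc, (k a ha).2, one_mul, (k b hb).2]

theorem NDC.prod_connected {G : Type u} [Group G] [Finite G] {D : Set G} (h : NDC D) :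
    IsConnectedSet (ProdAdj D) D := h.pp_connected h.comm_connected

end H70
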