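import Cfsg.Agent.H70.ReeSpec
import Cfsg.Agent.H30.ReeDef
import Cfsg.Agent.H10.WSpec
import Cfsg.Agent.H70.SqSS

/-! Row S3530 (the direct square of a small Ree group is determined by its element orders):
definitions and jobs.  Proofs: blueprints/RR.md. -/

set_option autoImplicit false

namespace H70.RR

open Cfsg Subgroup H24 H70.Sq H10.W

universe u

/-- The five colours: `9`, `(q-1)/2`, `(q+1)/4`, `q - r + 1`, `q + r + 1`. -/
def col (m : ℕ) : Fin 5 → ℕ :=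
  ![9, (3 ^ (2 * m + 1) - 1) / 2, (3 ^ (2 * m + 1) + 1) / 4, cM m, cP m]

/-- The maximal element orders of the Ree group. -/
def mu (m : ℕ) : Fin 6 → ℕ := ![6, 9, 2 * col m 1, 2 * col m 2, col m 3, col m 4]

/-- `n` is an element order of the direct square. -/
def Om (m n : ℕ) : Prop := ∃ i j, n ∣ Nat.lcm (mu m i) (mu m j)

/-- `p` is a prime of colour `i`. -/
def Cl (m : ℕ) (i : Fin 5) (p : ℕ) : Prop := p.Prime ∧ p ∣ col m i

def Sub (m : ℕ) (G : Type*) [Group G] : Prop := ∀ g : G, Om m (orderOf g)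

def Full (m : ℕ) (G : Type*) [Group G] : Prop :=
  ∀ i j a b, i ≠ j → Cl m i a → Cl m j b → Ord G (a * b)

/-- No element has two colours. -/
def Mono (m : ℕ) (T : Type*) [Group T] : Prop :=
  ∀ i j a b, i ≠ j → Cl m i a → Cl m j b → ¬ Ord T (a * b)

/-- Two colours other than `0` divide the order. -/
def TwoCol (m : ℕ) (T : Type*) [Group T] : Prop :=
  ∃ i j a b, i ≠ j ∧ i ≠ 0 ∧ j ≠ 0 ∧ Cl m i a ∧ Cl m j b ∧ a ∣ Nat.card T ∧ b ∣ Nat.card T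

/-- One prime for each colour other than `κ`. -/
def Ch (m : ℕ) (κ : Fin 5) (p : Fin 5 → ℕ) : Prop := ∀ i, i ≠ κ → Cl m i (p i)

/-- The six products occur in `K`. -/
def Six (K : Type*) [Group K] (κ : Fin 5) (p : Fin 5 → ℕ) : Prop :=
  ∀ i j, i ≠ κ → j ≠ κ → i ≠ j → Ord K (p i * p j)

/-- Arithmetic (RR.md N). -/
structure Num (m : ℕ) : Prop where
  ex : ∀ i, ∃ p, Cl m i p
  uniq : ∀ i j p, Cl m i p → Cl m j p → i = j
  zero : ∀ p, Cl m 0 p ↔ p = 3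
  big : ∀ i p, i ≠ 0 → Cl m i p → 7 ≤ p
  prime : ∀ s, s.Prime → Om m s → s = 2 ∨ ∃ i, Cl m i s
  three : ∀ i j k a b c, i ≠ j → i ≠ k → j ≠ k → Cl m i a → Cl m j b → Cl m k c →
    ¬ Om m (a * b * c)
  mono : ∀ i j a b k, i ≠ j → Cl m i a → Cl m j b → ¬ a * b ∣ mu m k
  no4 : ¬ Om m 4
  no27 : ¬ Om m 27
  cd : ∀ c d, Cl m 3 c → Cl m 4 d → ¬ Om m (2 * c * d)
  n18 : ∀ c, Cl m 3 c ∨ Cl m 4 c → ¬ Om m (18 * c)
  pow : ∀ s, Cl m 1 s → ∃ k, s ^ (k + 1) ∣ col m 1 ∧ ¬ Om m (s ^ (k + 1 + 1))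
  d18 : ∀ n, Om m n → (∀ s, s.Prime → s ∣ n → s = 2 ∨ s = 3) → n ∣ 18
  seven : ∃ i, i ≠ 0 ∧ i ≠ 1 ∧ Cl m i 7
  clA : ∀ s, s.Prime → s ≠ 2 → (Cl m 1 s ↔ s ∣ 3 ^ (2 * m + 1) - 1)
  clB : ∀ s, s.Prime → s ≠ 2 → (Cl m 2 s ↔ s ∣ 3 ^ (2 * m + 1) + 1)
  c13 : Om m 13 → Cl m 1 13 ∧ Cl m 2 7
  c37 : Om m 19 → Om m 37 →
    (Cl m 2 19 ∧ Cl m 2 37) ∨ ((Cl m 3 19 ∨ Cl m 4 19) ∧ (Cl m 3 37 ∨ Cl m 4 37))

/-- Arithmetic with primitive primes (RR.md N). -/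
structure Num2 (m : ℕ) : Prop where
  small : ∀ n, n < m → 2 * n + 1 ∣ 2 * m + 1 → ∀ i, i ≠ 0 → ¬ Cl m i 7 →
    ∃ s, Cl m i s ∧ ¬ s ∣ reeOrd n
  ndvd : ∀ i, i ≠ 0 → ∃ s, Cl m i s ∧ ¬ s ∣ 2 * m + 1
  div : ∀ n, Odd n → Om m ((3 ^ n - 1) / 2) → n ∣ 2 * m + 1

/-- `K` contains a non-cyclic elementary abelian `p`-subgroup. -/
def Rk {G : Type*} [Group G] (p : ℕ) (K : Subgroup G) : Prop :=
  ∃ E ≤ K, IsElementaryAbelian p E ∧ ¬ IsCyclic E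

/-- An element of order `e` acts non-trivially on a `q`-subgroup. -/
def Fr1 (T : Type*) [Group T] (e q : ℕ) : Prop :=
  ∃ (Q : Subgroup T) (x : T), IsPGroup q Q ∧ x ∈ normalizer (Q : Set T) ∧ orderOf x = e ∧
    ∃ t ∈ Q, ¬ Commute x t

/-- The same on a Sylow `2`-subgroup of order `4` (`e = 3`) or `8` (`e = 7`). -/
def NSd (T : Type*) [Group T] (e : ℕ) : Prop :=
  ∃ S : Sylow 2 T, (Nat.card S = 4 ∧ e = 3 ∨ Nat.card S = 8 ∧ e = 7) ∧
    ∃ x ∈ normalizer ((S : Subgroup T) : Set T), orderOf x = e ∧ ∃ t ∈ S, ¬ Commute x t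

/-- The Sylow `l`-subgroups form a split doubly transitive system. -/
structure TI (T : Type*) [Group T] (l : ℕ) : Prop where
  prime : l.Prime
  ti : ∀ U V : Sylow l T, U ≠ V → (U : Subgroup T) ⊓ V = ⊥
  nsyl : ∀ U : Sylow l T, Nat.card (Sylow l T) = Nat.card U + 1

/-- Facts on `L₂(l ^ n)`; `d`, `ν` are the orders of the tori. -/
structure L2D (T : Type*) [Group T] (l n d ν : ℕ) : Prop extends TI T l where
  par : (l = 2 ∧ 2 ≤ n ∧ d + 1 = l ^ n ∧ ν = l ^ n + 1) ∨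
    (l ≠ 2 ∧ 3 < l ^ n ∧ (l ^ n % 8 = 3 ∨ l ^ n % 8 = 5) ∧ 2 * d + 1 = l ^ n ∧ ν = d + 1)
  card : Nat.card T = (l ^ n + 1) * (l ^ n * d)
  syl : ∀ U : Sylow l T, Nat.card U = l ^ n
  sol : ∀ U : Sylow l T, Group.IsSolvable (normalizer ((U : Subgroup T) : Set T))
  ord : ∀ g : T, g ^ l = 1 ∨ orderOf g ∣ d ∨ orderOf g ∣ ν
  od : Ord T d
  on : Ord T ν
  cen : ∀ y : T, (orderOf y).Prime → orderOf y ≠ 2 → orderOf y ∣ ν →
    IsCyclic (centralizer ({y} : Set T)) ∧ Nat.card (centralizer ({y} : Set T)) = ν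
  fr : ∀ e, e.Prime → e ∣ d → Fr1 T e l
  ns3 : l ≠ 2 → NSd T 3
  ns7 : l ^ n = 8 → NSd T 7

/-- Facts on the Ree group over the field with `3 ^ (2 n + 1)` elements. -/
structure RG (n : ℕ) (T : Type*) [Group T] : Prop where
  card : Nat.card T = reeOrd n
  out : Nat.card (Out T) = 2 * n + 1
  sub : ∀ g : T, ∃ i, orderOf g ∣ mu n i
  full : ∀ i, Ord T (mu n i)
  fr0 : ∀ s k : ℕ, s.Prime → s ^ (k + 1) ∣ col n 1 → Fr T s k 3
  fr1 : ∀ s, Cl n 1 s → Fr1 T s 3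
  ns7 : NSd T 7
  rk3 : Rk 3 (⊤ : Subgroup T)

/-- The setting: `ψ` is the map onto the quotient by the solvable radical. -/
structure Amb (m : ℕ) {G H : Type u} [Group G] [Group H] (ψ : G →* H) : Prop where
  num : Num m
  num2 : Num2 m
  sub : Sub m G
  sj : Function.Surjective ψ
  sol : Group.IsSolvable ψ.ker

/-- A normal non-abelian simple subgroup. -/
structure NS {H : Type*} [Group H] (T : Subgroup H) : Prop where
  nT : T.Normal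
  simple : IsSimpleGroup T
  nab : ¬ IsMulCommutative T

/-- One component. -/
structure One {H : Type*} [Group H] (T : Subgroup H) : Prop extends NS T where
  cent : centralizer (T : Set H) = ⊥
  odd : Odd T.index

/-- Two components. -/
structure Two {H : Type*} [Group H] (T T' : Subgroup H) : Prop where
  l : NS T
  r : NS T'
  comm : ⁅T, T'⁆ = ⊥
  cent : centralizer (T : Set H) ⊓ centralizer (T' : Set H) = ⊥
  odd : Odd (T ⊔ T').index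

/-- The Sylow subgroups of odd order of the kernel are trivial or non-cyclic. -/
def NC {G H : Type*} [Group G] [Group H] (ψ : G →* H) : Prop :=
  ∀ r : ℕ, r.Prime → r ≠ 2 → r ∣ Nat.card ψ.ker → Rk r ψ.ker

/-- The stabiliser in `H` of the point `U`. -/
def St {H : Type*} [Group H] {T : Subgroup H} {l : ℕ} (U : Sylow l T) : Subgroup H :=
  normalizer (((U : Subgroup T).map T.subtype : Subgroup H) : Set H)

def TyAB (m : ℕ) (T : Type*) [Group T] (ν : ℕ) : Prop :=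
  (∀ s : ℕ, s.Prime → s ≠ 2 → s ∣ ν → Cl m 2 s) ∧ ∀ s, Cl m 3 s ∨ Cl m 4 s → ¬ s ∣ Nat.card T

def Ty37 (m : ℕ) (T : Type*) [Group T] (l n : ℕ) : Prop :=
  l = 37 ∧ n = 1 ∧ ∀ s, Cl m 1 s ∨ Cl m 2 s → ¬ s ∣ Nat.card T

/-- The colours `α`, `β` fill `l ^ n + 1`, and `b` is a primitive prime. -/
structure L1 (m l n : ℕ) (α β : Fin 5) (b : ℕ) : Prop where
  ne : α ≠ β
  b0 : β ≠ 0
  cl : Cl m β b
  full : ∀ i s, Cl m i s → (s ∣ l ^ n + 1 ↔ i = α ∨ i = β)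
  pm : ∀ i, 0 < i → i ≤ n → ¬ b ∣ l ^ i - 1
  pp : ∀ j, 1 ≤ j → j < n → ¬ b ∣ l ^ j + 1

/-- A statement about all settings. -/
def All (P : ∀ (_ : ℕ) (G H : Type u) [Group G] [Group H], (G →* H) → Prop) : Prop :=
  ∀ (m : ℕ) (G H : Type u) [Group G] [Finite G] [Group H] [Finite H] (ψ : G →* H),
    Amb m ψ → P m G H ψ

/-- General lemmas, part A (RR.md Kit). -/
structure KitA : Prop where
  cyc : ∀ {G : Type u} [Group G] [Finite G] {K P : Subgroup G} {p : ℕ}, p.Prime → p ≠ 2 → ¬ Rk p K →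
    P ≤ K → IsPGroup p P → IsCyclic P
  f1 : ∀ {G : Type u} [Group G] [Finite G] {K V : Subgroup G} {p r : ℕ}, p.Prime → r.Prime → p ≠ r →
    Rk p K → IsPGroup r V → V ≠ ⊥ → K ≤ normalizer (V : Set G) →
    ∃ x ∈ K, ∃ v ∈ V, orderOf x = p ∧ orderOf v = r ∧ Commute x v
  nc2 : ∀ {G : Type u} [Group G] [Finite G] {K : Subgroup G} {p r : ℕ}, p.Prime → r.Prime → p ≠ r →
    Group.IsSolvable K → Rk p K → Rk r K → Ord K (p * r)
  lift : ∀ {G H : Type u} [Group G] [Finite G] [Group H] {ψ : G →* H} {K : Subgroup G}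
    {T : Subgroup H} {p : ℕ}, p.Prime → p ≠ 2 → T ≤ K.map ψ → Rk p T → Rk p K
  top : ∀ {H : Type u} [Group H] {T : Subgroup H} {p : ℕ}, Rk p (⊤ : Subgroup T) → Rk p T
  hall : ∀ {G : Type u} [Group G] [Finite G] {K : Subgroup G} (π : Set ℕ), Group.IsSolvable K →
    ∃ L ≤ K, (∀ p : ℕ, p.Prime → (p ∣ Nat.card L ↔ p ∈ π ∧ p ∣ Nat.card K)) ∧
      (∀ X ≤ K, (∀ p : ℕ, p.Prime → p ∣ Nat.card X → p ∈ π) → ∃ k ∈ K, ∀ x ∈ X, k * x * k⁻¹ ∈ L) ∧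
      (∀ n : ℕ, (∀ p : ℕ, p.Prime → p ∣ n → p ∈ π) → Ord K n → Ord L n) ∧
      (∀ p ∈ π, p.Prime → Rk p K → Rk p L) ∧
      ∀ N : Subgroup G, K ≤ N → N ≤ normalizer (K : Set G) → N ≤ K ⊔ N ⊓ normalizer (L : Set G)
  k4 : ∀ {m : ℕ} {G : Type u} [Group G] [Finite G] {K : Subgroup G} {κ : Fin 5} {p : Fin 5 → ℕ},
    Num m → Sub m G → Group.IsSolvable K → Ch m κ p → ¬ Six K κ p

/-- General lemmas, part B (RR.md Kit). -/
structure KitB : Prop where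
  p1 : ∀ {G H : Type u} [Group G] [Finite G] [Group H] {ψ : G →* H} {K : Subgroup G}
    {T : Subgroup H} {p : ℕ} {x : G}, ⁅T, T⁆ = T → T ≤ K.map ψ → p.Prime → p ≠ 2 →
    ¬ Rk p (K ⊓ ψ.ker) → x ∈ K ⊓ ψ.ker → orderOf x = p → T ≤ (K ⊓ centralizer {x}).map ψ
  cov : ∀ {G H : Type u} [Group G] [Finite G] [Group H] {ψ : G →* H} {K A : Subgroup G}
    {T : Subgroup H}, Group.IsSolvable ψ.ker → T ≤ K.map ψ → A ≤ K →
    (Nat.card A).Coprime (Nat.card ↥(K ⊓ ψ.ker)) → A.map ψ ≤ centralizer (T : Set H) →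
    T ≤ (K ⊓ centralizer (A : Set G)).map ψ
  syl : ∀ {G : Type u} [Group G] [Finite G] {K N : Subgroup G} {r : ℕ}, r.Prime → N ≤ K →
    K ≤ normalizer (N : Set G) → r ∣ Nat.card N → ∃ P W : Subgroup G, H98.IsSyl r P N ∧ W ≤ P ∧ W ≠ ⊥ ∧
      IsElementaryAbelian r W ∧ P ≤ centralizer (W : Set G) ∧
      normalizer (P : Set G) ≤ normalizer (W : Set G) ∧ K ≤ N ⊔ K ⊓ normalizer (P : Set G)
  min : ∀ {G : Type u} [Group G] [Finite G] {K N : Subgroup G}, Group.IsSolvable N → N ≠ ⊥ →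
    K ≤ normalizer (N : Set G) → ∃ (r : ℕ) (W : Subgroup G), r.Prime ∧ W ≤ N ∧ W ≠ ⊥ ∧
      IsElementaryAbelian r W ∧ K ⊔ N ≤ normalizer (W : Set G)
  lft : ∀ {G H : Type u} [Group G] [Finite G] [Group H] {ψ : G →* H} {K : Subgroup G} {h : H},
    h ∈ K.map ψ → ∃ g ∈ K, ψ g = h ∧ ∀ p : ℕ, p.Prime → p ∣ orderOf g → p ∣ orderOf h
  cent : ∀ {G H : Type u} [Group G] [Group H] {ψ : G →* H} {K W : Subgroup G} {T : Subgroup H} {g : G},
    IsSimpleGroup T → T ≤ K.map ψ → K ≤ normalizer (W : Set G) → g ∈ K → ψ g ∈ T → ψ g ≠ 1 →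
    g ∈ centralizer (W : Set G) → T ≤ (K ⊓ centralizer (W : Set G)).map ψ
  sol : ∀ {G H : Type u} [Group G] [Group H] [Finite H] {ψ : G →* H} {M N : Subgroup H},
    Group.IsSolvable ψ.ker → N.Normal → Odd N.index → Group.IsSolvable ↥(M ⊓ N) →
    Group.IsSolvable (M.comap ψ)

/-! ### Small lemmas -/

section
variable {m : ℕ} {G : Type*} [Group G]

theorem Om.of_dvd {a b : ℕ} (h : Om m b) (hd : a ∣ b) : Om m a :=
  h.imp fun _ => Exists.imp fun _ h => hd.trans h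

theorem Sub.om (h : Sub m G) {n : ℕ} (hn : Ord G n) : Om m n := hn.elim fun g e => e ▸ h g

theorem Sub.of_surjective {G' : Type*} [Group G'] (h : Sub m G) {f : G →* G'}
    (hf : Function.Surjective f) : Sub m G' := fun x => by
  obtain ⟨g, rfl⟩ := hf x
  exact (h g).of_dvd (orderOf_map_dvd f g)

theorem Sub.sub (h : Sub m G) (K : Subgroup G) : Sub m K := fun x => orderOf_coe x ▸ h x

theorem ord_top {K : Subgroup G} {n : ℕ} (h : Ord K n) : Ord G n :=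
  h.elim fun x e => ⟨x, (orderOf_coe x).trans e⟩

theorem ord_mem {K : Subgroup G} {g : G} (h : g ∈ K) : Ord K (orderOf g) :=
  ⟨⟨g, h⟩, (orderOf_coe _).symm⟩

theorem ord_mono {K L : Subgroup G} (h : K ≤ L) {n : ℕ} (hn : Ord K n) : Ord L n :=
  hn.elim fun x e => e ▸ orderOf_coe x ▸ ord_mem (h x.2)

theorem Rk.mono {p : ℕ} {K L : Subgroup G} (h : Rk p K) (hl : K ≤ L) : Rk p L :=
  h.imp fun _ h => ⟨h.1.trans hl, h.2⟩

theorem Num.cop (h : Num m) {i j : Fin 5} {a b : ℕ} (hij : i ≠ j) (ha : Cl m i a) (hb : Cl m j b) :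
    a.Coprime b :=
  (Nat.coprime_primes ha.1 hb.1).2 fun e => hij (h.uniq i j a ha (e ▸ hb))

theorem Num.ne_two (h : Num m) {i : Fin 5} {a : ℕ} (ha : Cl m i a) : a ≠ 2 := by
  rcases eq_or_ne i 0 with rfl | hi
  · rw [(h.zero a).1 ha]; decide
  · have := h.big i a hi ha; omega

/-- An element of one colour has no element with two other colours in its centralizer. -/
theorem Num.tri (h : Num m) (hs : Sub m G) {i j k : Fin 5} {a b c : ℕ} (hij : i ≠ j) (hik : i ≠ k)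
    (hjk : j ≠ k) (ha : Cl m i a) (hb : Cl m j b) (hc : Cl m k c) {x : G} (hx : orderOf x = a) :
    ¬ Ord (centralizer ({x} : Set G)) (b * c) := fun ⟨y, hy⟩ => by
  rw [← orderOf_coe] at hy
  have := ord_of_commute (mem_centralizer_singleton_iff.1 y.2 : Commute (y : G) x).symm (by
    rw [hx, hy]; exact (h.cop hij ha hb).mul_right (h.cop hik ha hc))
  rw [hx, hy, ← mul_assoc] at this
  exact h.three i j k a b c hij hik hjk ha hb hc (hs.om this)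

theorem Num.ab2 [Finite G] (h : Num m) (hs : Sub m G) : Ab2 G :=
  (ab2_of_no_four fun k => h.no4 (hs.om k)).2

/-- An element with a conjugate image in `Y` has a conjugate in the preimage of `Y`. -/
theorem ord_comap {H : Type*} [Group H] {ψ : G →* H} (hψ : Function.Surjective ψ) {Y : Subgroup H}
    {g : G} {t : H} (h : t * ψ g * t⁻¹ ∈ Y) : Ord (Y.comap ψ) (orderOf g) := by
  obtain ⟨s, rfl⟩ := hψ t
  have := ord_mem (K := Y.comap ψ) (g := s * g * s⁻¹) (by simpa using h)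
  rwa [← MulAut.conj_apply, MulEquiv.orderOf_eq] at this

theorem NS.perf {T : Subgroup G} (h : NS T) : ⁅T, T⁆ = T := by
  have := h.simple
  rcases (inferInstance : (_root_.commutator T).Normal).eq_bot_or_eq_top with e | e
  · exact absurd ⟨⟨fun a b => commutatorElement_eq_one_iff_mul_comm.1
      (mem_bot.1 (e ▸ commutator_mem_commutator (mem_top a) (mem_top b)))⟩⟩ h.nab
  · rw [← map_subtype_commutator, e, ← MonoidHom.range_eq_map, range_subtype]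

end

/-! ### Jobs -/

def JobKitA : Prop := KitA.{u}

def JobKitB : Prop := KitB.{u}

def JobN : Prop := ∀ m, 1 ≤ m → Num m

def JobN2 : Prop := ∀ m, 1 ≤ m → Num m → Num2 m

def JobL2 : Prop := ∀ (T : Type u) [Group T], IsL2E T ∨ IsL2O T → ∃ l n d ν, L2D T l n d ν

def JobRG : Prop := ∀ n, 1 ≤ n → ∀ (T : Type u) [Group T], IsRee n T → RG.{u} n T

/-- An always fixed element. -/
def JobAF : Prop := ∀ (G H : Type u) [Group G] [Finite G] [Group H] (ψ : G →* H) (T : Subgroup H)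
  (K W : Subgroup G) (e q r : ℕ), IsSimpleGroup T → T ≤ K.map ψ → e.Prime → q.Prime → r.Prime →
  e ≠ q → e ≠ r → q ≠ r → (q = 2 → Ab2 G) → Fr1 T e q → ¬ e ∣ Nat.card ↥(K ⊓ ψ.ker) →
  IsElementaryAbelian r W → W ≠ ⊥ → K ≤ normalizer (W : Set G) →
  ∃ x ∈ K, ∃ w ∈ W, orderOf x = e ∧ ψ x ∈ T ∧ orderOf w = r ∧ Commute x w

/-- The lemma on the prime `3`. -/
def JobT : Prop := ∀ (G H : Type u) [Group G] [Finite G] [Group H] (ψ : G →* H) (T : Subgroup H)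
  (K : Subgroup G) (r : ℕ), IsSimpleGroup T → ¬ IsMulCommutative T → T ≤ K.map ψ → Ab2 G →
  Rk 3 T ∨ NSd T 3 → r.Prime → 3 < r → r ∣ Nat.card ↥(K ⊓ ψ.ker) →
  Ord K (3 * r) ∨ ∀ t : ℕ, t.Prime → t ≠ 3 → t ∣ Nat.card T → Ord K (3 * t)

/-- Coprime automorphisms with large primes fix an element of order `e`. -/
def JobNS : Prop := ∀ (H : Type u) [Group H] [Finite H] (T Y : Subgroup H) (e : ℕ), T.Normal →
  NSd T e → Group.IsSolvable Y → (Nat.card Y).Coprime (Nat.card T) →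
  (∀ p : ℕ, p.Prime → p ∣ Nat.card Y → 7 ≤ p) →
  ∃ x ∈ T, orderOf x = e ∧ x ∈ centralizer (Y : Set H)

/-- The reduction to a solvable subgroup. -/
def JobRed : Prop := All.{u} fun m G H _ _ _ => Full m G → SS H → ∀ κ p, Ch m κ p →
  ∃ L : Subgroup H, IsComponent L ∧ ∃ i j, i ≠ κ ∧ j ≠ κ ∧ i ≠ j ∧ p i ∣ Nat.card L ∧ p j ∣ Nat.card L

/-- Fixed points on the Sylow `l`-subgroups. -/
def JobFix : Prop := ∀ (H : Type u) [Group H] [Finite H] (T : Subgroup H) (l : ℕ), NS T → TI T l →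
  (∀ U V : Sylow l T, ∃ t ∈ T, ∀ g ∈ St V, t * g * t⁻¹ ∈ St U) ∧
  (∀ U : Sylow l T, T ⊔ St U = ⊤) ∧
  (∀ (w : H) (U V : Sylow l T), U ≠ V → w ∈ St U → w ∈ St V →
    (U : Subgroup T).map T.subtype ⊓ centralizer {w} = ⊥ ∨
    Nat.card ↥((U : Subgroup T).map T.subtype ⊓ centralizer {w}) + 1 ∣
      Nat.card ↥(T ⊓ centralizer {w})) ∧
  ∀ n d ν, L2D T l n d ν →
    (∀ (u v : H) (b p : ℕ), b.Prime → p.Prime → b ≠ 2 → p ≠ 2 → Commute u v → orderOf u ∣ b →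
      orderOf v ∣ p → ¬ p ∣ l ^ n + 1 → (∃ U : Sylow l T, u ∈ St U ∧ v ∈ St U) ∨
        b ∣ l ^ n + 1 ∧ (v ∈ centralizer (T : Set H) ∨ ∃ j, 1 ≤ j ∧ j < n ∧ b ∣ l ^ j + 1)) ∧
    ∀ (w : H) (U : Sylow l T), w ∈ St U → (orderOf w).Prime → orderOf w ≠ l →
      (∀ i, 0 < i → i ≤ n → ¬ orderOf w ∣ l ^ i - 1) → w ∈ centralizer (T : Set H)

/-- A component that misses three colours. -/
def JobKill : Prop := All.{u} fun m G H _ _ ψ => Full m G → NC ψ → ∀ (T : Subgroup H) e κ i₀ p,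
  NS T → NSd T e → Ch m κ p → i₀ ≠ κ → p i₀ = e →
  ∃ i, i ≠ κ ∧ i ≠ i₀ ∧ (i = 0 ∨ p i ∣ Nat.card T)

def JobK1R : Prop := All.{u} fun m G H _ _ _ => Full m G → ∀ T : Subgroup H, One T → ¬ RG.{u} m T

def JobH2 : Prop := All.{u} fun m G H _ _ _ => Full m G → ∀ (T : Subgroup H) l n d ν κ β p, One T →
  L2D T l n d ν → Ch m κ p → κ ≠ 0 → β ≠ 0 → β ≠ κ → 3 ∣ ν → p β ∣ ν →
  ∃ i, i ≠ κ ∧ i ≠ 0 ∧ i ≠ β ∧ p i ∣ Nat.card T

def JobW : Prop := All.{u} fun m G H _ _ ψ => ∀ (T : Subgroup H) l n d ν β i j k b a c, One T →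
  L2D T l n d ν → l ≠ 2 → 3 ∣ ν → [0, β, i, j, k].Nodup → Cl m β b → Cl m i l → Cl m j a → Cl m k c →
  b ∣ ν → a ∣ d → b ∣ Nat.card ψ.ker → ¬ Rk b ψ.ker → Rk c ψ.ker →
  (∃ g : G, orderOf g = b ∧ ψ g ∈ T ∧ ψ g ≠ 1) → Ord ψ.ker (b * c)

def JobK1B : Prop := All.{u} fun m G H _ _ ψ => Full m G → ∀ (T : Subgroup H) l n d ν (U : Sylow l T),
  One T → L2D T l n d ν → Group.IsSolvable ((St U).comap ψ) ∧
  (∀ i j a c, i ≠ j → Cl m i a → Cl m j c → ¬ a ∣ l ^ n + 1 → ¬ c ∣ l ^ n + 1 →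
    Ord ((St U).comap ψ) (a * c)) ∧
  ∀ α β b, L1 m l n α β b → ¬ b ∣ Nat.card (St U) ∧ ∀ i c, i ≠ α → i ≠ β → Cl m i c →
    (c ∣ Nat.card ψ.ker → Rk c ψ.ker) ∧ (Ord ((St U).comap ψ) (b * c) ∨
      Rk c ψ.ker ∧ ∃ g : G, orderOf g = b * c ∧ orderOf (ψ g) = b ∧ ψ g ∈ T)

def JobK1C : Prop := All.{u} fun m G H _ _ ψ => Full m G → ∀ (T : Subgroup H) l n d ν α β b, One T →
  L2D T l n d ν → L1 m l n α β b → b ∣ Nat.card ψ.ker → Rk b ψ.ker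

def JobK1L : Prop := All.{u} fun m G H _ _ _ => Full m G → ∀ (T : Subgroup H) l n d ν, One T →
  ¬ L2D T l n d ν

def JobMono : Prop := ∀ m, Num m → Num2 m → ∀ (T : Type u) [Group T] [Finite T] l n d ν,
  L2D T l n d ν → Sub m T → Mono m T →
  (l = 2 → l ^ n = 8) ∧ (l ≠ 2 → TwoCol m T → TyAB m T ν ∨ Ty37 m T l n)

def JobK2L : Prop := All.{u} fun m G H _ _ ψ => Full m G → NC ψ →
  ∀ (T T' : Subgroup H) l n d ν l' n' d' ν', Two T T' → L2D T l n d ν → L2D T' l' n' d' ν' →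
  l ≠ 2 → l' ≠ 2 → TyAB m T ν ∨ Ty37 m T l n → TyAB m T' ν' ∨ Ty37 m T' l' n' → False

def JobK2R : Prop := All.{u} fun m _ H _ _ ψ => ∀ T T' : Subgroup H, Two T T' → RG.{u} m T' →
  Rk 3 T ∨ NSd T 3 → TwoCol m T → ∀ r : ℕ, r.Prime → r ∣ Nat.card ψ.ker → r = 2 ∨ r = 3

/-- Automorphisms of the Ree group. -/
def JobAut : Prop := ∀ (K : Type) [Field K] (m : ℕ) (T : Type u) [Group T] (R : H30.Ree K m T),
  1 ≤ m → IsSimpleGroup T →
  (∀ α : MulAut T, ∃ (g : T) (τ : K ≃+* K),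
    (∀ t a v, g * α (R.x t a v) * g⁻¹ = R.x (τ t) (τ a) (τ v)) ∧
    ∀ κ : Kˣ, g * α (R.h κ) * g⁻¹ = R.h (Units.map (τ : K →* K) κ)) ∧
  ∀ β : MulAut T, (∀ t a v, β (R.x t a v) = R.x t a v) → (∀ κ, β (R.h κ) = R.h κ) → β = 1

def JobOut : Prop := ∀ m, 1 ≤ m → Num m → ∀ (H : Type u) [Group H] [Finite H] (T T' : Subgroup H),
  Sub m H → Two T T' → IsRee m T → IsRee m T' → T ⊔ T' = ⊤

def JobFin : Prop := All.{u} fun m G H _ _ ψ => ∀ (T T' : Subgroup H) (r : ℕ), Two T T' →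
  T ⊔ T' = ⊤ → RG.{u} m T → RG.{u} m T' → r = 2 ∨ r = 3 → IsElementaryAbelian r ψ.ker →
  (∀ N : Subgroup G, N.Normal → N ≤ ψ.ker → N = ⊥ ∨ N = ψ.ker) → ψ.ker = ⊥

end H70.RR
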