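import Cfsg.Agent.H53.KUSpec

/-! Tower KU (S2196), item Red. -/

set_option autoImplicit false

namespace H70.KURed

open Subgroup H53.KU

theorem mem_zpowers_of_pow {C : Type*} [CommGroup C] [Finite C] [IsCyclic C] {x y : C}
    (h : y ^ orderOf x = 1) : y ∈ zpowers x := by
  classical
  have := Fintype.ofFinite C
  have h0 := orderOf_pos x
  have h1 : (Finset.univ.filter (· ∈ zpowers x)) ⊆ Finset.univ.filter fun a : C => a ^ orderOf x = 1 :=
    fun a ha => by
      obtain ⟨k, rfl⟩ := (Finset.mem_filter.1 ha).2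
      exact Finset.mem_filter.2 ⟨Finset.mem_univ _, by
        rw [← zpow_natCast, ← zpow_mul, mul_comm, zpow_mul, zpow_natCast, pow_orderOf_eq_one,
          one_zpow]⟩
  have h2 : (Finset.univ.filter (· ∈ zpowers x)).card = orderOf x := by
    rw [← Nat.card_zpowers, Nat.card_eq_fintype_card, Fintype.card_subtype]
  have h3 := Finset.eq_of_subset_of_card_le h1 ((IsCyclic.card_pow_eq_one_le h0).trans h2.ge)
  have h4 : y ∈ Finset.univ.filter fun a : C => a ^ orderOf x = 1 :=
    Finset.mem_filter.2 ⟨Finset.mem_univ _, h⟩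
  rw [← h3] at h4
  exact (Finset.mem_filter.1 h4).2

theorem jobRed : JobRed := by
  intro F _ _ A _ D α ρ h
  obtain ⟨⟨_, d0, hd0, rfl⟩, hg⟩ := IsCyclic.exists_generator (α := D.map α)
  have h1 : ρ d0 ∈ zpowers (α d0) := mem_zpowers_of_pow (by
    rw [← map_pow]
    exact h _ (D.pow_mem hd0 _) (by rw [map_pow, pow_orderOf_eq_one]))
  obtain ⟨k, hk⟩ := h1
  change α d0 ^ k = ρ d0 at hk
  refine ⟨ρ / α ^ k, fun d hd => ?_, fun a ha => ?_⟩
  · obtain ⟨t, ht⟩ := hg ⟨α d, d, hd, rfl⟩
    have ht' : α d0 ^ t = α d := congrArg Subtype.val ht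
    have h2 := h (d / d0 ^ t) (D.div_mem hd (D.zpow_mem hd0 t)) (by
      rw [map_div, map_zpow, ht', div_self'])
    rw [map_div, map_zpow, div_eq_one] at h2
    change ρ d / α d ^ k = 1
    rw [h2, ← ht', ← hk, ← zpow_mul, ← zpow_mul, mul_comm, div_self']
  · change ρ a / α a ^ k = ρ a
    rw [ha, one_zpow, div_one]

end H70.KURed
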