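import Cfsg.Agent.H70.Sq
import Cfsg.Agent.H74.J1Spec
import Cfsg.Agent.H52.ReeW
import Cfsg.Agent.H9.ZModProd
import Cfsg.Agent.H21.Multiplier
import Cfsg.Agent.H56.OutGrp
import Cfsg.Agent.H5.ThompsonFpf
import Cfsg.Agent.H24.Socle
import Cfsg.Agent.S1159
import Cfsg.Agent.S2039
import Cfsg.Agent.S2065

/-! Team ord, part 2, jobs B2 and B3: `J₁ × J₁`. -/

set_option autoImplicit false

namespace H70.Sq

open Cfsg Subgroup H24 H98 H14 H10.W

universe u

theorem fr_of {L : Type*} [Group L] [Finite L] {p q : ℕ} (hp : p.Prime) {Q : Subgroup L}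
    (hQ : IsPGroup q Q) (hd : p ∣ Nat.card (normalizer (Q : Set L))) {t : L} (ht : t ∈ Q)
    (h : ∀ x, orderOf x = p → ¬ Commute x t) : Fr L p 0 q := by
  obtain ⟨x, hx⟩ := ord_of_prime hp hd
  rw [← orderOf_coe] at hx
  exact ⟨Q, x, hQ, x.2, ⟨1, by rw [pow_one, ← hx, pow_orderOf_eq_one]⟩, t, ht, by
    simpa using h x hx⟩

/-- `n` is an element order of `J₁`. -/
abbrev OJ (n : ℕ) : Prop := n ∈ [1, 2, 3, 5, 6, 7, 10, 11, 15, 19]

/-- `n` is an element order of `J₁ × J₁`. -/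
def DJ (n : ℕ) : Prop := ∃ m ∈ muJ, n ∣ m

instance : DecidablePred DJ := fun _ => inferInstanceAs (Decidable (∃ m ∈ muJ, _))

theorem ord_J1 {T : Type*} [Group T] (h : Spor.IsoJ1 T) (n : ℕ) : Ord T n ↔ OJ n := by
  obtain ⟨e⟩ := h
  change n ∈ Set.range (orderOf : T → ℕ) ↔ _
  rw [show (orderOf : T → ℕ) = orderOf ∘ e from funext fun g => (e.orderOf_eq g).symm,
    e.surjective.range_comp, H74.JK.range_orderOf_J1]
  simp

theorem fr_J : Fr H74.J1.J 2 0 11 ∧ Fr H74.J1.J 3 0 7 ∧ Fr H74.J1.J 5 0 11 ∧ Fr H74.J1.J 7 0 2 := by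
  have c := H74.J1.card
  have no : ∀ {a b : ℕ} {t : H74.J1.J}, orderOf t = b → a.Coprime b → ¬ OJ (a * b) →
      ∀ x, orderOf x = a → ¬ Commute x t := by
    rintro _ _ t rfl k h x rfl e
    exact h ((ord_J1 ⟨H74.J1.equivJ1⟩ _).1 (ord_of_commute e k))
  have pg : ∀ {p : ℕ} {x : H74.J1.J}, orderOf x = p → IsPGroup p (zpowers x) := fun o =>
    isPGroup_zpowers (k := 1) (by rw [pow_one, ← o, pow_orderOf_eq_one])
  obtain ⟨x, o⟩ := ord_of_prime (G := H74.J1.J) (p := 11) (by norm_num) (by rw [c]; norm_num)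
  have h0 := H74.JK.jh_J.1.cent_prime c (Or.inr (Or.inl rfl)) o
  obtain ⟨n, e, k, h1, h2, h3, h4, h5, h6⟩ := H74.JK.cent_data (p := 11) (by norm_num)
    (by rw [c]; norm_num) (by rw [c]; norm_num) o
  obtain rfl : k = 1 := by omega
  obtain rfl : e = 10 := by
    have := Nat.le_of_dvd (by norm_num) h3
    rw [c] at h4
    interval_cases e <;> omega
  obtain ⟨t, ot⟩ := ord_of_prime (G := H74.J1.J) Nat.prime_two (by rw [c]; norm_num)
  have it : H74.JK.I2 t := ⟨by rw [← pow_two, ← ot, pow_orderOf_eq_one], by rintro rfl; simp at ot⟩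
  obtain ⟨P, hP⟩ := (pg ot).exists_le_sylow
  have hN := H74.JK.jh_J.1.card_norm H74.JK.jh_J.2 it P
  obtain ⟨g, og⟩ := ord_of_prime (G := normalizer ((P : Subgroup H74.J1.J) : Set H74.J1.J)) (p := 7)
    (by norm_num) (by rw [hN]; norm_num)
  rw [← orderOf_coe] at og
  obtain ⟨r, -, or, hr⟩ := H74.JK.exists_r7 hN g.2 og
  exact ⟨fr_of Nat.prime_two (pg o) (by rw [h6]; norm_num) (mem_zpowers x)
      (no o (by norm_num) (by decide)),
    fr_of Nat.prime_three (pg og) (or ▸ orderOf_dvd_natCard _ hr) (mem_zpowers _)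
      (no og (by norm_num) (by decide)),
    fr_of Nat.prime_five (pg o) (by rw [h6]; norm_num) (mem_zpowers x)
      (no o (by norm_num) (by decide)),
    fr_of (by norm_num) P.isPGroup' (by rw [hN]; norm_num) (hP (mem_zpowers t))
      (no ot (by norm_num) (by decide))⟩

theorem fr_J1 {T : Type*} [Group T] (h : Spor.IsoJ1 T) :
    Fr T 2 0 11 ∧ Fr T 3 0 7 ∧ Fr T 5 0 11 ∧ Fr T 7 0 2 :=
  have e := H74.J1.equivJ1.trans h.some.symm
  ⟨fr_J.1.of_equiv e, fr_J.2.1.of_equiv e, fr_J.2.2.1.of_equiv e, fr_J.2.2.2.of_equiv e⟩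

theorem out_J1 {T : Type*} [Group T] (h : Spor.IsoJ1 T) : Nat.card (Out T) = 1 :=
  (Nat.card_congr (H56.outCongr h.some).toEquiv).trans Cfsg.Agent.S2065.result

theorem noEx_zero {p q : ℕ} (h : ∀ k, k < p → 1 ≤ k → p ≠ q ^ k + 1) (hq : 1 < q) : NoEx p 0 q :=
  fun l k hl hk e => by
    obtain rfl : l = 0 := by omega
    rw [zero_add, pow_one] at e
    exact h k (by have := Nat.lt_pow_self (n := k) hq; omega) hk e

theorem DJ.of_dvd {a b : ℕ} (h : DJ b) (hd : a ∣ b) : DJ a := h.imp fun _ h => ⟨h.1, hd.trans h.2⟩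

theorem DJ.le {n : ℕ} (h : DJ n) : n < 286 := by
  obtain ⟨m, hm, hd⟩ := h
  exact (Nat.le_of_dvd ((by decide : ∀ m ∈ muJ, 0 < m) m hm) hd).trans_lt
    ((by decide : ∀ m ∈ muJ, m < 286) m hm)

theorem DJ.prime {r : ℕ} (h : DJ r) (hr : r.Prime) : r ∈ [2, 3, 5, 7, 11, 19] :=
  (by decide +kernel : ∀ r < 286, DJ r → r.Prime → r ∈ [2, 3, 5, 7, 11, 19]) r h.le h hr

variable {G : Type u} [Group G] [Finite G]

omit [Finite G] in
theorem SubJ.dj (h : SubJ G) {n : ℕ} (hn : Ord G n) : DJ n := hn.elim fun g e => e ▸ h g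

omit [Finite G] in
theorem SubJ.of_surjective {G' : Type*} [Group G'] (h : SubJ G) {f : G →* G'}
    (hf : Function.Surjective f) : SubJ G' := fun x => by
  obtain ⟨g, rfl⟩ := hf x
  exact DJ.of_dvd (h g) (orderOf_map_dvd f g)

omit [Finite G] in
theorem SubJ.subgroup (h : SubJ G) (K : Subgroup G) : SubJ K := fun x => orderOf_coe x ▸ h x

theorem SubJ.exp (h : SubJ G) {r : ℕ} (hr : r ∈ [2, 3, 5, 7, 11, 19]) : Exp G r 1 :=
  exp_of_not_ord ((by decide : ∀ r ∈ [2, 3, 5, 7, 11, 19], r.Prime) r hr) fun e =>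
    (by decide : ∀ r ∈ [2, 3, 5, 7, 11, 19], ¬ DJ (r ^ (1 + 1))) r hr (h.dj e)

theorem SubJ.fr (h : SubJ G) {T : Type*} [Group T] (hT : Spor.IsoJ1 T) {r : ℕ} (hr : r.Prime)
    (hd : r ∣ Nat.card G) (h1 : ¬ (r = 11 ∨ r = 19)) : ∃ n q : ℕ, q.Prime ∧ q ≠ r ∧ Fr T r n q ∧
      Exp G r (n + 1) ∧ NoEx r n q := by
  have h2 := (h.dj (ord_of_prime hr hd)).prime hr
  have h3 := h.exp h2
  obtain ⟨a, b, c, d⟩ := fr_J1 hT
  simp only [List.mem_cons, List.not_mem_nil, or_false] at h2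
  rcases h2 with rfl | rfl | rfl | rfl | h2
  · exact ⟨0, 11, by norm_num, by norm_num, a, h3, noEx_zero (by decide) (by norm_num)⟩
  · exact ⟨0, 7, by norm_num, by norm_num, b, h3, noEx_zero (by decide) (by norm_num)⟩
  · exact ⟨0, 11, by norm_num, by norm_num, c, h3, noEx_zero (by decide) (by norm_num)⟩
  · exact ⟨0, 2, by norm_num, by norm_num, d, h3, noEx_zero (by decide) (by norm_num)⟩
  · exact absurd h2 h1

theorem top_false {H : Type*} [Group H] {ψ : G →* H} {J V : Subgroup G} {T : Subgroup H} {r : ℕ}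
    (h : Top ψ J T V r) (hr : r = 11 ∨ r = 19) (hT : Spor.IsoJ1 T) (hS : SubJ G) (o1 : Ord G 105)
    (o2 : Ord G 42) (o3 : Ord G 30) : False := by
  obtain ⟨-, f3, -, f7⟩ := fr_J1 hT
  have fp : ∀ y ∈ cx ψ T, orderOf y ∈ [2, 3, 5, 7] → V ⊓ centralizer {y} = ⊥ := fun y hy ho => by
    by_contra h0
    have hc : (orderOf y).Coprime r :=
      (by decide : ∀ b ∈ [2, 3, 5, 7], ∀ r ∈ [11, 19], b.Coprime r) _ ho r (by simpa using hr)
    by_cases e : orderOf y = 7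
    · have := hS.dj (h.fix hy hc h0 Nat.prime_three (q := 7) (by norm_num) (by omega) (by norm_num)
        (by omega) (by rw [e]; norm_num) f3 (hS.exp (by decide)) (noEx_zero (by decide) (by norm_num)))
      rw [e] at this
      rcases hr with rfl | rfl <;> exact absurd this (by decide)
    · exact (by decide : ∀ b ∈ [2, 3, 5, 7], ∀ r ∈ [11, 19], ¬ DJ (b * r * 7 ^ (0 + 1))) _ ho r
        (by simpa using hr) (hS.dj (h.fix hy hc h0 (p := 7) (by norm_num) Nat.prime_two (by omega)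
        (by norm_num) (by omega) ((by decide : ∀ b ∈ [2, 3, 5, 7], b ≠ 7 → b.Coprime 7) _ ho e) f7
        (hS.exp (by decide)) (noEx_zero (by decide) (by norm_num))))
  have ex : ∀ n, Ord G n → ∃ d, OJ d ∧ d ∣ n ∧ Ord (cx ψ T) (n / d) := fun n hn => by
    obtain ⟨d, e, h1, h2, rfl⟩ := h.exists_ord' hn (by rw [out_J1 hT]; exact Nat.coprime_one_right _)
    have h3 := (ord_J1 hT d).1 h1
    exact ⟨d, h3, dvd_mul_right _ _, by
      rwa [Nat.mul_div_cancel_left _ ((by decide : ∀ d, OJ d → 0 < d) d h3)]⟩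
  have no : ∀ e n, OJ n → e.Coprime 11 → e.Coprime 19 → e.Coprime n → ¬ DJ (e * n) →
      ¬ Ord (cx ψ T) e := fun e n h1 h2 h3 h4 h5 h6 => h5 (hS.dj
    (h.comm h6 (by rcases hr with rfl | rfl <;> assumption) ((ord_J1 hT n).2 h1) h4))
  have fp' : ∀ m, (∀ b ∈ (2 * m).divisors, b.Prime → b ∈ [2, 3, 5, 7]) → m ≠ 0 → ∀ y ∈ cx ψ T,
      (orderOf y).Prime → orderOf y ∣ 2 * m → V ⊓ centralizer {y} = ⊥ := fun m k m0 y hy h1 h2 =>
    fp y hy (k _ (Nat.mem_divisors.2 ⟨h2, by omega⟩) h1)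
  by_cases h2 : Ord (cx ψ T) 2
  · obtain ⟨d, h1, h3, h4⟩ := ex _ o1
    rcases (by decide : ∀ d, OJ d → d ∣ 105 → 7 ∣ 105 / d ∨ 15 ∣ 105 / d) d h1 h3 with e | e
    · exact no 14 11 (by decide) (by decide) (by decide) (by decide) (by decide)
        (h.two (m := 7) (by decide) (fp' 7 (by decide) (by decide)) h2 (h4.of_dvd e))
    · exact no 30 7 (by decide) (by decide) (by decide) (by decide) (by decide)
        (h.two (m := 15) (by decide) (fp' 15 (by decide) (by decide)) h2 (h4.of_dvd e))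
  have hs := H42.odd_order (G := cx ψ T) (Nat.not_even_iff_odd.1 fun e =>
    h2 (ord_of_prime Nat.prime_two e.two_dvd))
  obtain ⟨d, h1, h3, h4⟩ := ex _ o2
  have o7 := h4.of_dvd (((by decide : ∀ d, OJ d → d ∣ 42 → 2 ∣ 42 / d ∨ 7 ∣ 42 / d) d h1
    h3).resolve_left fun e => h2 (h4.of_dvd e))
  obtain ⟨d, h1, h3, h4⟩ := ex _ o3
  rcases (by decide : ∀ d, OJ d → d ∣ 30 → 2 ∣ 30 / d ∨ 3 ∣ 30 / d ∨ 5 ∣ 30 / d) d h1 h3 with e | e | e
  · exact h2 (h4.of_dvd e)
  · exact no 21 11 (by decide) (by decide) (by decide) (by decide) (by decide)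
      (h.solv hs (a := 7) (b := 3) (by norm_num) (by norm_num) (by norm_num) o7 (h4.of_dvd e)
        fun y hy e => fp y hy (by rcases e with e | e <;> simp [e]))
  · exact no 35 11 (by decide) (by decide) (by decide) (by decide) (by decide)
      (h.solv hs (a := 7) (b := 5) (by norm_num) (by norm_num) (by norm_num) o7 (h4.of_dvd e)
        fun y hy e => fp y hy (by rcases e with e | e <;> simp [e]))

theorem jobJD : JobJD.{u} := fun G H _ _ _ ψ J T h hT hS hF => by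
  by_contra hD
  have hπ := h.pi (fun r => r = 11 ∨ r = 19) fun r hr hd h1 =>
    hS.fr hT hr (hd.trans (card_subgroup_dvd_card _)) h1
  obtain ⟨G', _, _, f, ψ', r, hf, hk, -, hr, ht⟩ := h.top hD
  have key : ∀ n ∈ muJ, n.Coprime 11 → n.Coprime 19 → Ord G' n := fun n hn h1 h2 =>
    ord_of_coprime_ker f (hF n hn) (Nat.Coprime.symm (Nat.coprime_of_dvd fun k hp h3 h4 => by
      rcases hπ k hp (h3.trans (card_dvd_of_le hk)) with rfl | rfl
      · exact absurd (Nat.eq_one_of_dvd_coprimes h1 h4 dvd_rfl) (by norm_num)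
      · exact absurd (Nat.eq_one_of_dvd_coprimes h2 h4 dvd_rfl) (by norm_num)))
  exact top_false ht (hπ r ht.prime hr) hT (hS.of_surjective hf)
    (key _ (by decide) (by decide) (by decide)) (key _ (by decide) (by decide) (by decide))
    (key _ (by decide) (by decide) (by decide))

omit [Finite G] in
theorem Cov.inf_ker {H Q : Type*} [Group H] [Group Q] {ψ : G →* H} {J : Subgroup G} {T : Subgroup H}
    (h : Cov ψ J T) (hD : ⁅ψ.ker, J⁆ = ⊥) (e : T ≃* Q) (hQ : HasCyclicSchurMultiplier Q 1) :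
    Nonempty (J ≃* Q) := by
  obtain rfl := h.map
  let τ : J →* Q := e.toMonoidHom.comp (ψ.subgroupMap J)
  have hs : Function.Surjective τ := e.surjective.comp (ψ.subgroupMap_surjective J)
  refine ⟨MulEquiv.ofBijective τ ⟨(MonoidHom.ker_eq_bot_iff τ).1
    (H21.ker_eq_bot_of_trivialMultiplier hQ τ ⟨hs, fun x hx => ?_, ?_⟩), hs⟩⟩
  · have : ψ x = 1 := congrArg Subtype.val (e.map_eq_one_iff.1 hx)
    exact mem_center_iff.2 fun y => Subtype.ext (commutator_eq_bot_iff_comm.1 hD x this y y.2).symm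
  · exact le_top.trans (isPerfect_iff.2 h.perf).1.ge

omit [Finite G] in
theorem split_J1 {J : Subgroup G} [J.Normal] (hJ : Spor.IsoJ1 J) :
    J ⊓ centralizer (J : Set G) = ⊥ ∧ J ⊔ centralizer (J : Set G) = ⊤ := by
  have : IsSimpleGroup J := hJ.some.isSimpleGroup
  refine ⟨inf_cent_eq_bot fun e => ?_, eq_top_iff.2 fun g _ =>
    mem_sup_of_out (by rw [out_J1 hJ]; exact Nat.coprime_one_right _)⟩
  obtain ⟨a, ha⟩ := (ord_J1 hJ 7).2 (by decide)
  obtain ⟨b, hb⟩ := (ord_J1 hJ 11).2 (by decide)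
  have := ord_of_commute (e.is_comm.comm a b) (by rw [ha, hb]; norm_num)
  rw [ha, hb, ord_J1 hJ] at this
  exact absurd this (by decide)

theorem not_dvd_rad (hs : ¬ Group.IsSolvable G) (h4 : ¬ Ord G 4) {c : ℕ} (hc : c.Prime) (c2 : c ≠ 2)
    (h : ¬ Ord G (2 * c)) : ¬ c ∣ Nat.card (solvableRadical G) := fun hd => by
  have := Fact.mk hc
  obtain ⟨P, hP⟩ := exists_isSyl c (solvableRadical G)
  have h1 : ¬ Group.IsSolvable (normalizer (P : Set G)) := fun e => hs (by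
    have := H23.isSolvable_sup (solvableRadical G) (normalizer (P : Set G))
    rw [sup_comm, ← top_inf_eq (normalizer _), hP.frattini le_top le_normalizer_of_normal] at this
    exact H2.isSolvable_of_mulEquiv topEquiv)
  obtain ⟨Q, hQ⟩ := Sylow.exists_subgroup_card_pow_prime 2 (n := 2) (four_dvd_of_not_solvable h1)
  have hQ' : Nat.card (Q.map (normalizer (P : Set G)).subtype) = 2 ^ 2 :=
    (card_map_of_injective (subtype_injective _)).trans hQ
  have := IsPGroup.isMulCommutative_of_card_eq_prime_sq hQ'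
  obtain ⟨k, hk⟩ := IsPGroup.iff_card.1 hP.isPGroup
  refine hP.eq_bot_iff.not.2 (not_not.2 hd) (le_bot_iff.1 (H1.le_of_noncyclic_centralizer_le
    (A := Q.map (normalizer (P : Set G)).subtype) (fun e => h4 ?_) (map_subtype_le _)
    (by rw [hQ', hk]; exact Nat.coprime_pow_primes _ _ Nat.prime_two hc c2.symm) ⊥
    fun a ha a1 v hv => by_contra fun v1 => h ?_))
  · obtain ⟨g, hg⟩ := e.exists_ofOrder_eq_natCard
    exact ⟨g, (orderOf_coe g).trans (hg.trans hQ')⟩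
  · obtain ⟨a', ha', e⟩ := H5.exists_prime_pow_mem a1
    obtain ⟨v', hv', e'⟩ := H5.exists_prime_pow_mem v1
    have e1 := (Nat.prime_dvd_prime_iff_eq e Nat.prime_two).1 (e.dvd_of_dvd_pow
      (hQ' ▸ orderOf_dvd_natCard _ (zpowers_le_of_mem ha ha')))
    have e2 := (Nat.prime_dvd_prime_iff_eq e' hc).1 (e'.dvd_of_dvd_pow
      (hk ▸ orderOf_dvd_natCard _ (zpowers_le_of_mem hv.1 hv')))
    exact H5.adj_of_commute Nat.prime_two hc c2.symm e1 e2
      (H5.commute_of_mem_zpowers (mem_centralizer_singleton_iff.1 hv.2).symm ha' hv')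

/-- An isolated prime divides the order of a component. -/
theorem SS.exists_cmp_of_iso (h : SS G) {c : ℕ} (hc : c.Prime) (hd : c ∣ Nat.card G)
    (hi : ∀ s : ℕ, s.Prime → s ≠ c → ¬ Ord G (c * s)) :
    ∃ L : Subgroup G, IsComponent L ∧ c ∣ Nat.card L := by
  by_contra hn
  obtain ⟨x, hx⟩ := ord_of_prime hc hd
  have h1 := H5.isNilpotent_of_fpf_elem (K := layer G) (x := x) (hx ▸ hc)
    (le_normalizer_of_normal (mem_top x)) (eq_bot_iff.2 fun v hv => by_contra fun v1 => by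
      obtain ⟨v', hv', e⟩ := H5.exists_prime_pow_mem v1
      have k : orderOf v' ≠ c := fun e' => by
        obtain ⟨L, hL, -, e⟩ := h.dvd_cmp (Normal.isSubnormal inferInstance) le_rfl hc
          (e' ▸ orderOf_dvd_natCard _ (zpowers_le_of_mem hv.1 hv'))
        exact hn ⟨L, hL, e⟩
      exact hi _ e k (H5.adj_of_commute hc e k.symm hx rfl (H5.commute_of_mem_zpowers
        (mem_centralizer_singleton_iff.1 hv.2).symm (mem_zpowers x) hv')))
  rw [h.eq_one (g := x) fun L hL => absurd (le_bot_iff.1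
    ((comp_le_layer hL).trans (h.eq_bot (Normal.isSubnormal inferInstance) inferInstance).le))
    (comp_ne_bot hL), orderOf_one] at hx
  exact hc.one_lt.ne hx

theorem SubJ.isoJ1 [IsSimpleGroup G] (h : SubJ G) (hG : ¬ IsMulCommutative G)
    (hd : 7 ∣ Nat.card G ∨ 19 ∣ Nat.card G) : Spor.IsoJ1 G := by
  rcases H52.RB.walter' G hG (ab2_of_no_four fun e => absurd (h.dj e) (by decide)).2 with
    ⟨n, hn, hL⟩ | ⟨q, hq, h8, hL⟩ | hJ | ⟨K, _, _, m, hm, hK, ⟨e⟩⟩
  · obtain ⟨h1, h2, h3⟩ := L2.facts hL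
    have e : Nat.gcd 2 (2 ^ n - 1) = 1 := Nat.coprime_two_left.2
      (Nat.Even.sub_odd Nat.one_le_two_pow (Nat.even_pow.2 ⟨even_two, by omega⟩) odd_one)
    rw [e, Nat.div_one] at h1 h2 h3
    have h4 : n < 9 := by
      by_contra h5
      have := Nat.pow_le_pow_right two_pos (not_lt.1 h5)
      have := (h.dj h3).le
      omega
    have h5 := (by decide : ∀ n < 9, 2 ≤ n → DJ (2 ^ n - 1) → DJ (2 ^ n + 1) → n = 2) n h4 hn
      (h.dj h2) (h.dj h3)
    subst h5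
    rw [h1] at hd
    norm_num at hd
  · obtain ⟨h1, h2, h3⟩ := L2.facts hL
    obtain ⟨k, rfl⟩ : ∃ k, q = 2 * k + 1 := ⟨q / 2, by omega⟩
    rw [Nat.add_sub_cancel, Nat.gcd_eq_left (dvd_mul_right 2 k)] at h1 h2 h3
    rw [Nat.mul_div_cancel_left _ two_pos] at h1 h2
    rw [show (2 * k + 1 + 1) / 2 = k + 1 by omega] at h3
    have h5 := (by decide +kernel : ∀ k < 286, 1 < k ∧ DJ k ∧ DJ (k + 1) →
      k ∈ [2, 5, 6, 10, 14, 21]) k (h.dj h2).le ⟨by omega, h.dj h2, h.dj h3⟩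
    have h6 : ∀ p : ℕ, p.Prime → p ∣ 2 * k + 1 → DJ p := fun p hp e =>
      h.dj (ord_of_prime hp (h1 ▸ (e.mul_right _).mul_left _))
    simp only [List.mem_cons, List.not_mem_nil, or_false] at h5
    rcases h5 with rfl | rfl | rfl | rfl | rfl | rfl
    · rw [h1] at hd; norm_num at hd
    · rw [h1] at hd; norm_num at hd
    · exact absurd (h6 13 (by norm_num) dvd_rfl) (by decide)
    · obtain ⟨F, _, _, hF, -⟩ := hL
      exact absurd (hF ▸ FiniteField.isPrimePow_card F) (by decide +kernel)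
    · exact absurd (h6 29 (by norm_num) dvd_rfl) (by decide)
    · exact absurd (h6 43 (by norm_num) dvd_rfl) (by decide)
  · exact hJ
  · obtain ⟨g, hg⟩ := (Cfsg.Agent.S1159.result hm hK 9).2 (Or.inr (Or.inl dvd_rfl))
    exact absurd (h.dj ⟨e.symm g, (e.symm.orderOf_eq g).trans hg⟩) (by decide)

theorem isoJ1_of_iso (h : SubJ G) (hs : ¬ Group.IsSolvable G)
    (hi : ∀ c ∈ [7, 11, 19], ∀ s : ℕ, s.Prime → s ≠ c → ¬ Ord G (c * s))
    (hd : Ord G 7 ∨ Ord G 19) : Spor.IsoJ1 G := by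
  have hf := QuotientGroup.mk'_surjective (solvableRadical G)
  have h1 : ∀ c ∈ [7, 11, 19], ¬ c ∣ Nat.card (solvableRadical G) := fun c hc =>
    have k := (by decide : ∀ c ∈ [7, 11, 19], c.Prime ∧ c ≠ 2) c hc
    not_dvd_rad hs (fun e => absurd (h.dj e) (by decide)) k.1 k.2
      (mul_comm c 2 ▸ hi c hc 2 Nat.prime_two k.2.symm)
  obtain ⟨c, hc, oc⟩ : ∃ c, (c = 7 ∨ c = 19) ∧ Ord G c := hd.elim (⟨_, .inl rfl, ·⟩) (⟨_, .inr rfl, ·⟩)
  have c1 : c ∈ [7, 11, 19] := by rcases hc with rfl | rfl <;> decide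
  have c2 : c.Prime := by rcases hc with rfl | rfl <;> norm_num
  obtain ⟨x, hx⟩ := ord_of_coprime_ker (QuotientGroup.mk' (solvableRadical G)) oc
    (by rw [QuotientGroup.ker_mk']; exact c2.coprime_iff_not_dvd.2 (h1 c c1))
  obtain ⟨T, hT, hd⟩ := (ss_quot G).exists_cmp_of_iso c2 (hx ▸ orderOf_dvd_natCard x)
    fun s a b e => hi c c1 s a b (Ord.of_surjective hf e)
  obtain ⟨t1, t2⟩ := (ss_quot G).simple hT
  have hJ := ((h.of_surjective hf).subgroup T).isoJ1 t2 (by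
    rcases hc with rfl | rfl; exacts [.inl hd, .inr hd])
  obtain ⟨J, hC⟩ := Cov.exists_rad ((ss_quot G).normal_of hT ((ord_J1 hJ 7).2 (by decide))
    ((ord_J1 hJ 11).2 (by decide)) ((ord_J1 hJ 19).2 (by decide)) (by norm_num) (by norm_num)
    (by norm_num) (fun e => absurd ((h.of_surjective hf).dj e) (by decide))
    (Or.inl ((h.of_surjective hf).exp (by decide)))) t1 t2
  have hJ' : Spor.IsoJ1 J := hC.inf_ker (hC.D_eq_bot fun r hr hd => h.fr hJ hr
    (hd.trans (card_subgroup_dvd_card _)) fun e => h1 r (by rcases e with rfl | rfl <;> decide)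
      (by rwa [QuotientGroup.ker_mk'] at hd)) hJ.some Cfsg.Agent.S2039.result
  have := hC.nJ
  have h2 : centralizer (J : Set G) = ⊥ := eq_bot_iff.2 fun v hv => by_contra fun v1 => by
    obtain ⟨v', hv', e⟩ := H5.exists_prime_pow_mem v1
    obtain ⟨c, c1, c2, c3, c4⟩ : ∃ c ∈ [7, 11, 19], c.Prime ∧ OJ c ∧ orderOf v' ≠ c := by
      by_cases e : orderOf v' = 7
      · exact ⟨11, by decide, by norm_num, by decide, by omega⟩
      · exact ⟨7, by decide, by norm_num, by decide, e⟩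
    obtain ⟨y, hy⟩ := (ord_J1 hJ' c).2 c3
    exact hi c c1 _ e c4 (H5.adj_of_commute c2 e c4.symm ((orderOf_coe y).trans hy) rfl
      (zpowers_le_of_mem hv hv' y y.2))
  have h3 := (split_J1 hJ').2
  rw [h2, sup_bot_eq] at h3
  exact ⟨(topEquiv.symm.trans (MulEquiv.subgroupCongr h3.symm)).trans hJ'.some⟩

theorem jobJX : JobJX.{u} := fun G H _ _ _ ψ J T h hT hS hF hD => by
  have hJ : Spor.IsoJ1 J := h.inf_ker hD hT.some Cfsg.Agent.S2039.result
  have := h.nJ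
  obtain ⟨h1, h2⟩ := split_J1 hJ
  have ex : ∀ n ∈ muJ, ∃ d, OJ d ∧ d ∣ n ∧ Ord (centralizer (J : Set G)) (n / d) := fun n hn => by
    obtain ⟨d, e, h1, h2, rfl⟩ := h.exists_ord' (hF n hn)
      (by rw [out_J1 hT]; exact Nat.coprime_one_right _)
    have h3 := (ord_J1 hT d).1 h1
    exact ⟨d, h3, dvd_mul_right _ _, by
      rwa [Nat.mul_div_cancel_left _ ((by decide : ∀ d, OJ d → 0 < d) d h3), ← h.cx_eq hD]⟩
  have hi : ∀ c ∈ [7, 11, 19], ∀ s : ℕ, s.Prime → s ≠ c →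
      ¬ Ord (centralizer (J : Set G)) (c * s) := fun c hc s hs hsc ⟨y, hy⟩ => by
    have k := (hS.dj (Ord.of_dvd ⟨y, (orderOf_coe y).trans hy⟩ (dvd_mul_left _ _))).prime hs
    obtain ⟨d, d1, d2, d3⟩ := (by decide : ∀ c ∈ [7, 11, 19], ∀ s ∈ [2, 3, 5, 7, 11, 19], s ≠ c →
      ∃ d, OJ d ∧ d.Coprime (c * s) ∧ ¬ DJ (d * (c * s))) c hc s k hsc
    obtain ⟨x, hx⟩ := (ord_J1 hJ d).2 d1
    rw [← hx, ← hy, ← orderOf_coe, ← orderOf_coe y] at d2 d3
    exact d3 (hS.dj (ord_of_commute (y.2 x x.2) d2))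
  have two : ∀ n ∈ muJ, ∀ a b, (∀ d, OJ d → d ∣ n → a ∣ n / d ∨ b ∣ n / d) →
      Ord (centralizer (J : Set G)) a ∨ Ord (centralizer (J : Set G)) b := fun n hn a b k =>
    have ⟨d, h1, h2, h3⟩ := ex n hn
    (k d h1 h2).imp h3.of_dvd h3.of_dvd
  have hs : ¬ Group.IsSolvable (centralizer (J : Set G)) := fun e => by
    obtain ⟨c, c1, c', c2, c3, o1, o2⟩ : ∃ c ∈ [7, 11, 19], ∃ c' ∈ [7, 11, 19], c' ≠ c ∧
        Ord (centralizer (J : Set G)) c ∧ Ord (centralizer (J : Set G)) c' := by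
      rcases two 77 (by decide) 7 11 (by decide) with a | a
      · rcases two 209 (by decide) 11 19 (by decide) with b | b
        exacts [⟨7, by decide, 11, by decide, by decide, a, b⟩,
          ⟨7, by decide, 19, by decide, by decide, a, b⟩]
      · rcases two 133 (by decide) 7 19 (by decide) with b | b
        exacts [⟨11, by decide, 7, by decide, by decide, a, b⟩,
          ⟨11, by decide, 19, by decide, by decide, a, b⟩]
    obtain ⟨b, b1, o3⟩ : ∃ b ∈ [2, 3, 5], Ord (centralizer (J : Set G)) b := by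
      obtain ⟨d, h1, h2, h3⟩ := ex 30 (by decide)
      obtain ⟨b, b1, b2⟩ := (by decide : ∀ d, OJ d → d ∣ 30 → ∃ b ∈ [2, 3, 5], b ∣ 30 / d) d h1 h2
      exact ⟨b, b1, h3.of_dvd b2⟩
    have p1 : ∀ c ∈ [7, 11, 19], c.Prime := by decide
    have p2 : ∀ b ∈ [2, 3, 5], b.Prime ∧ ∀ c ∈ [7, 11, 19], b ≠ c := by decide
    have dv : ∀ {n}, Ord (centralizer (J : Set G)) n → n ∣ Nat.card (centralizer (J : Set G)) :=
      fun ⟨g, e⟩ => e ▸ orderOf_dvd_natCard g
    rcases H5.three_primes (p1 c c1) (p1 c' c2) (p2 b b1).1 c3.symm ((p2 b b1).2 c c1).symm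
      ((p2 b b1).2 c' c2).symm (dv o1) (dv o2) (dv o3) with k | k | k
    · exact hi c c1 c' (p1 c' c2) c3 k
    · exact hi c c1 b (p2 b b1).1 ((p2 b b1).2 c c1) k
    · exact hi c' c2 b (p2 b b1).1 ((p2 b b1).2 c' c2) k
  have hX := isoJ1_of_iso (hS.subgroup _) hs hi (two 133 (by decide) 7 19 (by decide))
  exact ⟨(H9.nonempty_equiv_prod (fun x hx y hy => mem_centralizer_iff.1 hy x hx) h1 h2).some.trans
    (hJ.some.prodCongr hX.some)⟩

theorem s3531 (hC : JobJC.{u})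
    (h : Set.range (orderOf : G → ℕ) = Set.range (orderOf : Spor.J1 × Spor.J1 → ℕ)) :
    Nonempty (G ≃* Spor.J1 × Spor.J1) := by
  have e : Spor.IsoJ1 Spor.J1 := ⟨MulEquiv.refl _⟩
  have hS : SubJ G := fun g => by
    obtain ⟨⟨a, b⟩, k⟩ := h.le ⟨g, rfl⟩
    rw [← k, Prod.orderOf]
    exact (by decide : ∀ a, OJ a → ∀ b, OJ b → DJ (a.lcm b)) _ ((ord_J1 e _).1 ⟨a, rfl⟩) _
      ((ord_J1 e _).1 ⟨b, rfl⟩)
  have hF : FullJ G := fun n hn => by
    obtain ⟨a, ha, b, hb, rfl⟩ := (by decide : ∀ n ∈ muJ, ∃ a, OJ a ∧ ∃ b, OJ b ∧ a.lcm b = n) n hn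
    obtain ⟨x, rfl⟩ := (ord_J1 e _).2 ha
    obtain ⟨y, rfl⟩ := (ord_J1 e _).2 hb
    exact h.ge ⟨(x, y), Prod.orderOf _⟩
  obtain ⟨T, nT, hT⟩ := hC G hS hF
  have : IsSimpleGroup T := hT.some.isSimpleGroup
  obtain ⟨J, hJ⟩ := Cov.exists_rad nT this fun k => by
    obtain ⟨a, ha⟩ := (ord_J1 hT 7).2 (by decide)
    obtain ⟨b, hb⟩ := (ord_J1 hT 11).2 (by decide)
    have := ord_of_commute (k.is_comm.comm a b) (by rw [ha, hb]; norm_num)
    rw [ha, hb, ord_J1 hT] at this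
    exact absurd this (by decide)
  exact jobJX G _ _ J T hJ hT hS hF (jobJD G _ _ J T hJ hT hS hF)

end H70.Sq
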