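/- S3550, part 3: a group of rank at least `m + 1 ≥ 3` with a regular abelian subgroup `R` that is
the centraliser of each of its nontrivial elements has degree at least `(m + 1) ^ 2` -/
import Cfsg.Agent.H28.Degree
import Cfsg.Agent.H28.GenChar
import Cfsg.Agent.H33.PermChar

set_option autoImplicit false
set_option linter.unusedSectionVars false

namespace H70.Der
open Cfsg H28 Finset
open scoped ComplexConjugate

theorem comb {I J : Type*} [Fintype I] [Fintype J] (i0 : I) (j0 : J) (M : I → J → ℕ) (p : I → ℕ)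
    {m : ℕ} (hm : 2 ≤ m) (h1 : ∀ l, ∑ i, p i * M i l = 1) (h2 : M i0 j0 = 1)
    (h2' : ∀ l ≠ j0, M i0 l = 0) (hp0 : p i0 = 1) (h3 : m + 1 ≤ ∑ i, p i ^ 2)
    (h4 : ∀ l ≠ j0, ∀ u ≠ j0, ∑ i, ((M i l : ℤ) - M i u) ^ 2 ≤ 2)
    (h5 : ∀ i ≠ i0, ∃ l ≠ j0, M i l ≠ 0)
    (h6 : ∀ i ≠ i0, p i ≠ 0 → ∃ nn : I → ℕ, nn i0 ≤ 1 ∧
      ∑ k, nn k * ∑ l, M k l = (∑ l, M i l) ^ 2 ∧ ∑ k, nn k * M k j0 = ∑ l, M i l ^ 2 ∧
      2 ≤ ∑ l, M i l ∧ ∃ k ≠ i0, p k ≠ 0 ∧ nn k ≠ 0) :
    (m + 1) ^ 2 ≤ Fintype.card J := by
  classical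
  let P : Finset I := univ.filter fun i => i ≠ i0 ∧ p i ≠ 0
  have mP : ∀ i, i ∈ P ↔ i ≠ i0 ∧ p i ≠ 0 := fun i => by simp [P]
  have t1 : ∀ i l, p i * M i l ≤ 1 := fun i l =>
    h1 l ▸ single_le_sum (f := fun i => p i * M i l) (fun _ _ => Nat.zero_le _) (mem_univ i)
  have t2 : ∀ i k l, i ≠ k → p i * M i l + p k * M k l ≤ 1 := fun i k l h => by
    rw [← h1 l, ← sum_pair (f := fun i => p i * M i l) h]
    exact sum_le_sum_of_subset (subset_univ _)
  have p1 : ∀ i ∈ P, p i = 1 := fun i hi => by
    obtain ⟨l, -, hl⟩ := h5 i ((mP i).1 hi).1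
    have := t1 i l
    have h0 := ((mP i).1 hi).2
    have := Nat.le_mul_of_pos_right (p i) (Nat.pos_of_ne_zero hl)
    omega
  have m0 : ∀ i ∈ P, M i j0 = 0 := fun i hi => by
    have := t2 i i0 j0 ((mP i).1 hi).1
    rw [p1 i hi, hp0, h2] at this
    omega
  have sP : ∀ f : I → ℕ, ∑ i, p i * f i = f i0 + ∑ i ∈ P, f i := fun f => by
    have hi0 : i0 ∉ P := fun h => ((mP _).1 h).1 rfl
    rw [← sum_insert hi0, ← sum_subset (subset_univ (insert i0 P))]
    · refine sum_congr rfl fun i hi => ?_
      rcases mem_insert.1 hi with rfl | hi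
      · rw [hp0, one_mul]
      · rw [p1 i hi, one_mul]
    · intro i _ hi
      have : p i = 0 := by
        by_contra h
        exact hi (mem_insert.2 ((em (i = i0)).imp_right fun e => (mP i).2 ⟨e, h⟩))
      rw [this, zero_mul]
  have cP : m ≤ P.card := by
    simp only [sq] at h3
    rw [sP, hp0, sum_congr rfl p1] at h3
    simp only [sum_const, smul_eq_mul, mul_one] at h3
    omega
  have sD : ∑ i ∈ P, ∑ l, M i l + 1 = Fintype.card J := by
    have : ∑ l, ∑ i, p i * M i l = Fintype.card J := by simp [h1]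
    have e0 : ∑ l, M i0 l = 1 := by
      rw [← add_sum_erase _ _ (mem_univ j0), h2,
        sum_eq_zero fun l hl => h2' l (ne_of_mem_erase hl), add_zero]
    rw [← this, sum_comm (s := univ) (t := univ)]
    simp only [← mul_sum]
    rw [sP, add_comm, e0]
  obtain ⟨χ, hχ, hmin⟩ := P.exists_min_image (fun i => ∑ l, M i l) (card_pos.1 (by omega))
  set d := ∑ l, M χ l with hd
  have hPd : P.card * d ≤ ∑ i ∈ P, ∑ l, M i l := card_nsmul_le_sum P _ d hmin
  have own : ∀ l ≠ j0, ∃ i ∈ P, M i l = 1 := fun l hl => by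
    have := h1 l
    rw [sP, h2' l hl, zero_add] at this
    obtain ⟨i, hi, h⟩ := exists_ne_zero_of_sum_ne_zero (s := P) (f := fun i => M i l) (by omega)
    have h' := t1 i l
    rw [p1 i hi] at h'
    exact ⟨i, hi, by omega⟩
  have excl : ∀ i ∈ P, ∀ k ∈ P, i ≠ k → ∀ l, M i l = 1 → M k l = 0 := fun i hi k hk h l hl => by
    have := t2 i k l h
    rw [p1 i hi, p1 k hk] at this
    omega
  have c1 : ∀ k ∉ P, ∀ i ∈ P, ∀ i' ∈ P, i ≠ i' → ∀ l ≠ j0, ∀ u ≠ j0, M i l = 1 → M i' u = 1 →
      M k l = M k u := fun k hk i hi i' hi' h l hl u hu e e' => by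
    have hki : k ≠ i := fun e => hk (e ▸ hi)
    have hki' : k ≠ i' := fun e => hk (e ▸ hi')
    have := (sum_le_sum_of_subset_of_nonneg (subset_univ ({k, i, i'} : Finset I))
      fun _ _ _ => sq_nonneg _).trans (h4 l hl u hu)
    rw [sum_insert (by simp [hki, hki']), sum_pair h, e, e', excl i hi i' hi' h l e,
      excl i' hi' i hi h.symm u e'] at this
    have h0 : ((M k l : ℤ) - M k u) ^ 2 ≤ 0 := by push_cast at this; linarith
    have := pow_eq_zero_iff (n := 2) (by omega) |>.1 (le_antisymm h0 (sq_nonneg _))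
    omega
  have c2 : ∀ k ∉ P, ∀ l ≠ j0, ∀ u ≠ j0, M k l = M k u := fun k hk l hl u hu => by
    obtain ⟨i, hi, e⟩ := own l hl
    obtain ⟨i', hi', e'⟩ := own u hu
    by_cases h : i = i'
    · subst h
      obtain ⟨t, ht, hti⟩ := exists_mem_ne (s := P) (by omega) i
      obtain ⟨v, hv, h⟩ := h5 t ((mP t).1 ht).1
      have h' := t1 t v
      rw [p1 t ht] at h'
      rw [c1 k hk i hi t ht hti.symm l hl v hv e (by omega),
        c1 k hk i hi t ht hti.symm u hu v hv e' (by omega)]
    · exact c1 k hk i hi i' hi' h l hl u hu e e'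
  obtain ⟨nn, n0, n1, n2, d2, k1, hk1, hk1', hk1''⟩ := h6 χ ((mP _).1 hχ).1 ((mP _).1 hχ).2
  have n3 : ∑ l, M χ l ^ 2 = d := sum_congr rfl fun l _ => by
    have h' := t1 χ l
    rw [p1 χ hχ] at h'
    have : M χ l = 0 ∨ M χ l = 1 := by omega
    rcases this with h | h <;> rw [h] <;> rfl
  rw [n3] at n2
  obtain ⟨k0, hk0, hk0'⟩ : ∃ k0 ∈ univ.erase i0, nn k0 * M k0 j0 ≠ 0 := by
    refine exists_ne_zero_of_sum_ne_zero ?_
    rw [← add_sum_erase _ _ (mem_univ i0), h2] at n2
    omega
  have k0P : k0 ∉ P := fun h => hk0' (by rw [m0 k0 h, mul_zero])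
  have k1P : k1 ∈ P := (mP _).2 ⟨hk1, hk1'⟩
  have e1 : ∀ k, ∑ l, M k l = M k j0 + ∑ l ∈ univ.erase j0, M k l := fun k =>
    (add_sum_erase _ _ (mem_univ j0)).symm
  have b0 : Fintype.card J - 1 ≤ ∑ l ∈ univ.erase j0, M k0 l := by
    obtain ⟨l, hl, h⟩ := h5 k0 (ne_of_mem_erase hk0)
    have := card_nsmul_le_sum (univ.erase j0) (M k0) 1 fun u hu => by
      rw [← c2 k0 k0P l hl u (ne_of_mem_erase hu)]; omega
    rwa [card_erase_of_mem (mem_univ _), card_univ, smul_eq_mul, mul_one] at this
  have b1 : d ≤ ∑ l ∈ univ.erase j0, M k1 l := by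
    have := hmin k1 k1P
    rwa [e1 k1, m0 k1 k1P, zero_add] at this
  have b2 : d + (Fintype.card J - 1 + d) ≤ d ^ 2 := by
    rw [← n1]
    simp only [e1, mul_add, sum_add_distrib, n2]
    refine Nat.add_le_add_left (le_trans ?_ (sum_le_sum_of_subset (subset_univ {k0, k1}))) d
    rw [sum_pair (fun e : k0 = k1 => k0P (e ▸ k1P))]
    refine Nat.add_le_add (b0.trans (Nat.le_mul_of_pos_left _ (Nat.pos_of_ne_zero ?_)))
      (b1.trans (Nat.le_mul_of_pos_left _ (Nat.pos_of_ne_zero hk1'')))
    exact left_ne_zero_of_mul hk0'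
  have b3 : m * d ≤ Fintype.card J - 1 := by
    have := Nat.mul_le_mul_right d cP
    omega
  have b4 : m + 2 ≤ d := by
    refine Nat.le_of_mul_le_mul_right (c := d) ?_ (by omega)
    rw [add_mul, ← sq]
    omega
  have b5 : m * (m + 2) ≤ m * d := Nat.mul_le_mul_left m b4
  have : (m + 1) ^ 2 = m * (m + 2) + 1 := by ring
  omega

variable {T : Type*} [Group T] [Fintype T] {R : Subgroup T} [Fintype R]

theorem norm_le_two (hab : ∀ a b : R, a * b = b * a)
    (hC : ∀ y ∈ R, y ≠ 1 → ∀ x, x * y = y * x → x ∈ R) {l u : R → ℂ} (hl : IsIrrCharacter R l)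
    (hu : IsIrrCharacter R u) (l1 : l ≠ fun _ => 1) (u1 : u ≠ fun _ => 1) :
    (classInner (indFun R (l - u)) (indFun R (l - u))).re ≤ 2 := by
  classical
  have one : ∀ {l : R → ℂ}, IsIrrCharacter R l → l 1 = 1 := fun h => h.apply_one_of_comm hab
  let f : T → R → ℂ := fun x y => extendByZero R (l - u) (x⁻¹ * y * x)
  have e1 : (fun y : R => indFun R (l - u) y) = (Nat.card R : ℂ)⁻¹ • ∑ x, f x := by
    funext y
    simp [H33.indFun_apply, f, Finset.sum_apply]
  have nn : ∀ {a b : R → ℂ}, IsIrrCharacter R a → IsIrrCharacter R b →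
      0 ≤ (classInner a b).re ∧ (classInner a b).re ≤ 1 := fun ha hb => by
    rw [ha.classInner_eq hb]
    split_ifs <;> simp
  have hf : ∀ x, (classInner (l - u) (f x)).re ≤ if x ∈ R then 2 else 0 := fun x => by
    by_cases hx : ∀ y ∈ R, x⁻¹ * y * x ∈ R
    · let c : R →* R :=
        { toFun := fun y => ⟨x⁻¹ * y * x, hx y y.2⟩
          map_one' := Subtype.ext (by simp)
          map_mul' := fun a b => Subtype.ext (by simp [mul_assoc]) }
      have hc : Function.Surjective c := Finite.surjective_of_injective fun a b e => by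
        have := congrArg Subtype.val e
        exact Subtype.ext (by simpa [c] using this)
      have e2 : f x = (fun y => l (c y)) - fun y => u (c y) := by
        funext y
        exact H33.ext0_of_mem R _ (hx y y.2)
      have hl' := hl.comp_surjective c hc
      have hu' := hu.comp_surjective c hc
      rw [e2, classInner_sub_left, classInner_sub_right, classInner_sub_right]
      simp only [Complex.sub_re]
      have a1 := nn hl hl'
      have a2 := nn hl hu'
      have a3 := nn hu hl'
      have a4 := nn hu hu'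
      split_ifs with hxR
      · linarith [a1.2, a2.1, a3.1, a4.2]
      · have key : ∀ {a : R → ℂ}, IsIrrCharacter R a → (a ≠ fun _ => 1) →
            a ≠ fun y => a (c y) := fun {a} ha a1 e => a1 (by
          have hi : Function.Injective fun y : R => c y * y⁻¹ := fun y y' h => by
            have h1 : c (y'⁻¹ * y) = y'⁻¹ * y := by
              have h' : c y * y⁻¹ = c y' * y'⁻¹ := h
              rw [map_mul, map_inv, mul_inv_eq_iff_eq_mul.1 h', ← mul_assoc, ← mul_assoc,
                inv_mul_cancel, one_mul]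
            by_contra hne
            refine hxR (hC _ (y'⁻¹ * y).2 (fun h => hne ?_) x ?_)
            · exact (inv_mul_eq_one.1 (Subtype.ext h : y'⁻¹ * y = 1)).symm
            · have h2 : x⁻¹ * (y'⁻¹ * y : R) * x = (y'⁻¹ * y : R) := congrArg Subtype.val h1
              rw [mul_assoc, inv_mul_eq_iff_eq_mul] at h2
              exact h2.symm
          funext z
          obtain ⟨y, rfl⟩ := Finite.surjective_of_injective hi z
          have hm := ha.isCharacter.map_mul_of_degree_one (one ha)
          change a (c y * y⁻¹) = 1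
          rw [hm, ← congrFun e y, ← hm, mul_inv_cancel, one ha])
        rw [hl.classInner_of_ne hl' (key hl l1), hu.classInner_of_ne hu' (key hu u1)]
        simp only [Complex.zero_re]
        linarith [a2.1, a3.1]
    · have hxR : x ∉ R := fun h => hx fun y hy => mul_mem (mul_mem (inv_mem h) hy) h
      have : f x = 0 := by
        funext y
        by_cases hy : x⁻¹ * y * x ∈ R
        · have y1 : y = 1 := by
            by_contra y1
            refine hx fun y' hy' => hC _ hy (fun h => y1 (Subtype.ext ?_)) _ ?_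
            · calc (y : T) = x * (x⁻¹ * y * x) * x⁻¹ := by group
                _ = 1 := by rw [h]; simp
            · have h2 : y' * y = y * y' := congrArg Subtype.val (hab ⟨y', hy'⟩ y)
              calc x⁻¹ * y' * x * (x⁻¹ * y * x) = x⁻¹ * (y' * y) * x := by group
                _ = _ := by rw [h2]; group
          subst y1
          have h3 : x⁻¹ * (1 : R) * x = 1 := by simp
          change extendByZero R (l - u) _ = 0
          rw [h3, H33.ext0_of_mem R _ R.one_mem]
          change l 1 - u 1 = 0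
          rw [one hl, one hu, sub_self]
        · exact H33.ext0_of_not_mem R _ hy
      rw [this, classInner_zero_right, if_neg hxR]
      rfl
  rw [H33.classInner_indFun_left R _ (H33.indFun_isClassFunction R _), e1, classInner_smul_right,
    classInner_sum_right]
  have e3 : conj ((Nat.card R : ℂ)⁻¹) = (((Nat.card R : ℝ)⁻¹ : ℝ) : ℂ) := by simp
  rw [e3, Complex.re_ofReal_mul, Complex.re_sum]
  have h0 : (0 : ℝ) < Nat.card R := by exact_mod_cast Nat.card_pos
  rw [inv_mul_le_iff₀ h0]
  refine (sum_le_sum fun x _ => hf x).trans (le_of_eq ?_)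
  rw [← sum_filter, sum_const, nsmul_eq_mul, Nat.card_eq_fintype_card, Fintype.card_subtype]

theorem inner_nat {f g : T → ℂ} (hf : IsCharacter T f) {a b : IrrCharacter T → ℕ}
    (ha : ∀ ψ : IrrCharacter T, classInner f ψ = a ψ)
    (hb : ∀ ψ : IrrCharacter T, classInner g ψ = b ψ) :
    classInner f g = (∑ ψ, a ψ * b ψ : ℕ) := by
  rw [hf.isClassFunction.classInner_eq_sum_irr]
  push_cast
  exact sum_congr rfl fun ψ _ => by rw [ha, classInner_comm_of_nat (hb ψ)]

theorem char_main {Ω : Type*} [MulAction T Ω] [Finite Ω] [MulAction.IsPretransitive T Ω] (α : Ω)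
    (hab : ∀ a b : R, a * b = b * a) (hC : ∀ y ∈ R, y ≠ 1 → ∀ x, x * y = y * x → x ∈ R)
    (hreg : ∀ y ∈ R, y ≠ 1 → ∀ ω : Ω, y • ω ≠ ω) (hn : Nat.card R = Nat.card Ω)
    (hgen : ∀ K : Subgroup T, K.Normal → R ≤ K → K = ⊤) (hcom : R ≤ commutator T) {m : ℕ}
    (hm : 2 ≤ m)
    (hrk : (m + 1) * Nat.card T ≤ ∑ x : T, Nat.card (MulAction.fixedBy Ω x) ^ 2) :
    (m + 1) ^ 2 ≤ Nat.card Ω := by
  classical
  let π : T → ℂ := fun g => (Nat.card (MulAction.fixedBy Ω g) : ℂ)
  have hπ : IsCharacter T π := isCharacter_perm Ω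
  have one : ∀ l : IrrCharacter R, l.1 1 = 1 := fun l => l.2.apply_one_of_comm hab
  choose M hM using fun (ψ : IrrCharacter T) (l : IrrCharacter R) =>
    (ψ.2.isCharacter.restrict R).classInner_nat l.2.isCharacter
  choose p hp using fun ψ : IrrCharacter T => hπ.classInner_nat ψ.2.isCharacter
  let i0 : IrrCharacter T := ⟨fun _ => 1, isIrrCharacter_one⟩
  let j0 : IrrCharacter R := ⟨fun _ => 1, isIrrCharacter_one⟩
  have res : ∀ {f : T → ℂ}, IsCharacter T f → ∀ {a : IrrCharacter T → ℕ},
      (∀ ψ : IrrCharacter T, classInner f ψ = a ψ) → ∀ l : IrrCharacter R,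
      classInner (fun y : R => f y) l = (∑ ψ, a ψ * M ψ l : ℕ) := fun {f} hf {a} ha l => by
    have : (fun y : R => f y) = ∑ ψ : IrrCharacter T, (a ψ : ℂ) • fun y : R => ψ.1 y := by
      funext y
      rw [hf.isClassFunction.apply_eq_sum_irr y]
      simp [ha, Finset.sum_apply]
    rw [this, classInner_sum_left]
    simp [classInner_smul_left, hM]
  have val : ∀ (ψ : IrrCharacter T) (y : R), ψ.1 y = ∑ l, (M ψ l : ℂ) * l.1 y := fun ψ y => by
    rw [(ψ.2.isCharacter.restrict R).isClassFunction.apply_eq_sum_irr y]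
    simp only [hM]
  have deg : ∀ ψ : IrrCharacter T, ψ.1 1 = (∑ l, M ψ l : ℕ) := fun ψ => by
    have := val ψ 1
    simpa [one] using this
  have ker : ∀ ψ : IrrCharacter T, R ≤ charKer ψ.1 → ψ = i0 := fun ψ h =>
    Subtype.ext (ψ.2.charKer_eq_top_iff.1 (hgen _ ψ.2.charKer_normal h))
  have hind := H33.permChar_eq_indFun (G := T) Ω α
  have hst : ∀ {f : T → ℂ}, IsCharacter T f →
      classInner π f = classInner (fun _ : MulAction.stabilizer T α => 1) fun y => f y :=
    fun hf => by rw [show π = _ from hind, H33.classInner_indFun_left _ _ hf.isClassFunction]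
  have h2 : ∀ l, (M i0 l : ℂ) = if j0 = l then 1 else 0 := fun l => by
    rw [← hM]; exact classInner_irr j0 l
  rw [← hn, ← card_irr_of_comm hab, Nat.card_eq_fintype_card]
  refine comb i0 j0 M p hm (fun l => ?_) ?_ (fun l hl => ?_) ?_ ?_ (fun l hl u hu => ?_)
    (fun ψ hψ => ?_) fun χ hχ hpχ => ?_
  · have e : (fun y : R => π y) = regChar R := by
      funext y
      by_cases hy : y = 1
      · subst hy
        rw [regChar_one, hn]
        simp [π]
      · rw [regChar_of_ne hy]
        have : IsEmpty (MulAction.fixedBy Ω (y : T)) :=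
          ⟨fun ω => hreg y y.2 (fun h => hy (Subtype.ext h)) ω ω.2⟩
        simp only [π, Nat.card_of_isEmpty, Nat.cast_zero]
    have := res hπ hp l
    rw [e, classInner_regChar_left, one, map_one] at this
    exact_mod_cast this.symm
  · have := h2 j0
    rw [if_pos rfl] at this
    exact_mod_cast this
  · have := h2 l
    rw [if_neg hl.symm] at this
    exact_mod_cast this
  · have := hp i0
    rw [hst isCharacter_one, classInner_one_one] at this
    exact_mod_cast this.symm
  · have h1 := card_mul_classInner π π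
    rw [inner_nat hπ hp hp] at h1
    have h3 : Nat.card T * ∑ ψ, p ψ * p ψ = ∑ x : T, Nat.card (MulAction.fixedBy Ω x) ^ 2 := by
      have : ∀ x, π x * conj (π x) = (Nat.card (MulAction.fixedBy Ω x) ^ 2 : ℕ) := fun x => by
        simp [π, pow_two]
      simp only [this] at h1
      exact_mod_cast h1
    rw [← h3, mul_comm] at hrk
    simp only [pow_two]
    exact Nat.le_of_mul_le_mul_left hrk Nat.card_pos
  · have hg : IsGeneralizedCharacter T (indFun R (l.1 - u.1)) :=
      H28.Cfsg.IsGeneralizedCharacter.indFun ⟨_, _, l.2.isCharacter, u.2.isCharacter, rfl⟩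
    have h1 := hg.classInner_self_eq_sum_sq (a := fun ψ => (M ψ l : ℤ) - M ψ u) fun ψ => by
      rw [H33.classInner_indFun_left _ _ ψ.2.isClassFunction, classInner_sub_left,
        classInner_comm_of_nat (hM ψ l), classInner_comm_of_nat (hM ψ u)]
      simp
    have h3 := norm_le_two hab hC l.2 u.2 (fun e => hl (Subtype.ext e)) fun e => hu (Subtype.ext e)
    rw [h1, Complex.intCast_re] at h3
    exact_mod_cast h3
  · by_contra h
    push Not at h
    refine hψ (ker ψ (ψ.2.isCharacter.le_charKer_iff.2 fun y hy => ?_))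
    have e : ∀ y : R, ψ.1 y = M ψ j0 := fun y => by
      rw [val, sum_eq_single j0 (fun l _ hl => by rw [h l hl]; simp) (by simp)]
      simp [j0]
    rw [e ⟨y, hy⟩, ← e 1]
    rfl
  · let f : T → ℂ := χ.1 * fun g => conj (χ.1 g)
    have hf : IsCharacter T f := χ.2.isCharacter.mul χ.2.isCharacter.conj
    choose nn hnn using fun ψ : IrrCharacter T => hf.classInner_nat ψ.2.isCharacter
    have n0 : nn i0 = 1 := by
      have := hnn i0
      rw [show classInner f i0.1 = classInner χ.1 χ.1 from (classInner_eq_mul_one _ _).symm,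
        χ.2.classInner_self] at this
      exact_mod_cast this.symm
    have d2 : 2 ≤ ∑ l, M χ l := by
      have h0 := χ.2.apply_one_ne_zero
      have h1 : χ.1 1 ≠ 1 := fun e =>
        hχ (ker χ (hcom.trans (χ.2.isCharacter.commutator_le_charKer e)))
      rw [deg] at h0 h1
      have h0' : ∑ l, M χ l ≠ 0 := by exact_mod_cast h0
      have h1' : ∑ l, M χ l ≠ 1 := by exact_mod_cast h1
      omega
    refine ⟨nn, n0.le, ?_, ?_, d2, ?_⟩
    · have := hf.isClassFunction.apply_eq_sum_irr 1
      simp only [hnn, deg, f, Pi.mul_apply, map_natCast] at this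
      rw [pow_two]
      exact_mod_cast this.symm
    · have h1 := res hf hnn j0
      have h3 := inner_nat (χ.2.isCharacter.restrict R) (hM χ) (hM χ)
      rw [classInner_eq_mul_one] at h3
      have h4 := h1.symm.trans h3
      simp only [pow_two]
      exact_mod_cast h4
    · by_contra h
      push Not at h
      have h1 := inner_nat hπ hp hnn
      rw [sum_eq_single i0 (fun k _ hk => by
        by_cases e : p k = 0
        · rw [e, zero_mul]
        · rw [h k hk e, mul_zero]) (by simp), n0, mul_one, ← hp, hst hf, hst isCharacter_one,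
        classInner_one_one] at h1
      set S := MulAction.stabilizer T α
      have hr := χ.2.isCharacter.restrict S
      have h3 : classInner (fun y : S => χ.1 y) (fun y : S => χ.1 y) = 1 := by
        rw [classInner_eq_mul_one]
        exact_mod_cast classInner_comm_of_nat (n := 1) (by exact_mod_cast h1)
      have h4 := (isIrrCharacter_one (G := S)).eq_of_classInner_ne_zero (hr.irr_of_norm_one h3) (by
        rw [← hst χ.2.isCharacter, hp]
        exact_mod_cast hpχ)
      have h5 : (1 : ℂ) = χ.1 1 := congrFun h4 1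
      rw [deg] at h5
      have : 1 = ∑ l, M χ l := by exact_mod_cast h5
      omega

end H70.Der
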