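/- S3550, part 1: counting lemmas for a group acting on an abelian group so that the elements
outside a subgroup `Y` have no nontrivial fixed points -/
import Cfsg.Agent.Base

set_option autoImplicit false
set_option linter.unusedSectionVars false

namespace H70.Der
open Subgroup MulAction

theorem index_dvd_card {K X : Type*} [Group K] [MulAction K X] [Finite X] (Y : Subgroup K)
    (h : ∀ x : X, stabilizer K x ≤ Y) : Y.index ∣ Nat.card X := by
  classical
  have : Finite (orbitRel.Quotient K X) := Quotient.finite _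
  have := Fintype.ofFinite (orbitRel.Quotient K X)
  rw [Nat.card_congr (selfEquivSigmaOrbits K X), Nat.card_sigma]
  refine Finset.dvd_sum fun q _ => ?_
  rw [Nat.card_coe_set_eq, ← index_stabilizer]
  exact index_dvd_of_le (h _)

theorem index_dvd_ncard {K X : Type*} [Group K] [MulAction K X] [Finite X] (Y : Subgroup K)
    (U : Set X) (hU : ∀ k : K, ∀ x ∈ U, k • x ∈ U) (h : ∀ x ∈ U, ∀ k : K, k • x = x → k ∈ Y) :
    Y.index ∣ U.ncard := by
  let V : SubMulAction K X := ⟨U, fun k {x} hx => hU k x hx⟩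
  have := index_dvd_card (X := V) Y fun x k hk => h x x.2 k (congrArg Subtype.val hk)
  rwa [← Nat.card_coe_set_eq]

/-- the numerical step: two numbers `≡ 1 mod m`, one a proper divisor of the other -/
theorem sq_le_of_dvd {m a n : ℕ} (h1 : 1 < a) (hn : a < n) (hd : a ∣ n) (ha : m ∣ a - 1)
    (hm : m ∣ n - 1) : (m + 1) ^ 2 ≤ n := by
  obtain ⟨k, rfl⟩ := hd
  have hk : 1 < k := by
    by_contra h
    have : k = 0 ∨ k = 1 := by omega
    rcases this with rfl | rfl <;> omega
  obtain ⟨a', rfl⟩ : ∃ a', a = a' + 1 := ⟨a - 1, by omega⟩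
  obtain ⟨k', rfl⟩ : ∃ k', k = k' + 1 := ⟨k - 1, by omega⟩
  have e : (a' + 1) * (k' + 1) - 1 = a' * (k' + 1) + k' := by
    rw [add_mul, one_mul, ← add_assoc, Nat.add_sub_cancel]
  rw [Nat.add_sub_cancel] at ha
  rw [e] at hm
  have hk' : m ∣ k' := (Nat.dvd_add_right (ha.mul_right _)).1 hm
  have l1 := Nat.le_of_dvd (by omega) ha
  have l2 := Nat.le_of_dvd (by omega) hk'
  rw [sq]
  exact Nat.mul_le_mul (by omega) (by omega)

theorem bern {m j x : ℕ} (hj : 2 ≤ j) (h : 2 * m ≤ j * x) : (m + 1) ^ 2 ≤ (x + 1) ^ j := by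
  have b : ∀ i : ℕ, 1 + i * x ≤ (x + 1) ^ i := fun i => by
    induction i with
    | zero => simp
    | succ i ih => rw [pow_succ]; nlinarith [Nat.zero_le (i * x * x)]
  rcases Nat.even_or_odd' j with ⟨i, rfl | rfl⟩
  · rw [mul_comm 2 i, pow_mul]
    refine Nat.pow_le_pow_left ?_ 2
    have := b i
    nlinarith
  · have hi : 1 ≤ i := by omega
    have h1 : (1 + i * x) ^ 2 * (x + 1) ≤ (x + 1) ^ (2 * i + 1) := by
      rw [pow_succ (x + 1) (2 * i), mul_comm 2 i, pow_mul]
      exact Nat.mul_le_mul_right _ (Nat.pow_le_pow_left (b i) 2)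
    refine le_trans ?_ h1
    have h2 : 2 * (m + 1) ≤ 2 * (1 + i * x) + x := by nlinarith
    have h3 : (2 * (m + 1)) ^ 2 ≤ (2 * (1 + i * x) + x) ^ 2 := Nat.pow_le_pow_left h2 2
    have h4 : x ≤ i * x := Nat.le_mul_of_pos_left x hi
    have h5 : x * x ≤ x * (i * x) := Nat.mul_le_mul_left x h4
    nlinarith [Nat.zero_le (x * (i * x) * (i * x)), Nat.zero_le (x * (i * x))]

variable {H : Type*} (R : Type*) [Group H] [CommGroup R] [MulDistribMulAction H R]

/-- the fixed points of a set -/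
def Fx (B : Set H) : Subgroup R where
  carrier := {y | ∀ b ∈ B, b • y = y}
  one_mem' b _ := smul_one b
  mul_mem' {x y} hx hy b hb := by rw [smul_mul', hx b hb, hy b hb]
  inv_mem' {x} hx b hb := by rw [smul_inv', hx b hb]

variable {R}

theorem mem_Fx {B : Set H} {y : R} : y ∈ Fx R B ↔ ∀ b ∈ B, b • y = y := Iff.rfl

theorem mem_Fx1 {b : H} {y : R} : y ∈ Fx R {b} ↔ b • y = y := by simp [mem_Fx]

theorem card_Fx_le {B C : Set H} [Finite R] (h : H) (hB : ∀ c ∈ C, h⁻¹ * c * h ∈ B) :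
    Nat.card (Fx R B) ≤ Nat.card (Fx R C) := by
  refine Nat.card_le_card_of_injective (fun y : Fx R B => (⟨h • y.1, fun c hc => ?_⟩ : Fx R C)) ?_
  · have := y.2 _ (hB c hc)
    rw [mul_smul, mul_smul, inv_smul_eq_iff] at this
    exact this
  · intro y y' e
    exact Subtype.ext (smul_left_cancel h (congrArg Subtype.val e))

theorem indep {ι : Type*} (W : ι → Subgroup R) (b : ι → ι → H)
    (hW : ∀ i k j, ∀ y ∈ W j, b i k • y ∈ W j) (h1 : ∀ i k, ∀ y ∈ W i, b i k • y = y)
    (h2 : ∀ i k, i ≠ k → ∀ y ∈ W k, b i k • y = y → y = 1) (s : Finset ι) :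
    ∀ y : ι → R, (∀ i, y i ∈ W i) → ∏ i ∈ s, y i = 1 → ∀ i ∈ s, y i = 1 := by
  classical
  induction s using Finset.induction_on with
  | empty => simp
  | insert i s hi ih =>
    intro y hy hp
    rw [Finset.prod_insert hi] at hp
    have hs : ∀ k ∈ s, y k = 1 := fun k hk => by
      have hik : i ≠ k := fun e => hi (e ▸ hk)
      have := ih (fun j => b i k • y j / y j) (fun j => div_mem (hW _ _ _ _ (hy j)) (hy j)) (by
        rw [Finset.prod_div_distrib, ← Finset.smul_prod', eq_inv_of_mul_eq_one_right hp, smul_inv',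
          h1 _ _ _ (hy i), div_self']) k hk
      exact h2 i k hik _ (hy k) (div_eq_one.1 this)
    intro k hk
    rcases Finset.mem_insert.1 hk with rfl | hk
    · rwa [Finset.prod_eq_one hs, mul_one] at hp
    · exact hs k hk

theorem prod_le [Finite R] {ι : Type*} [Fintype ι] (W : ι → Subgroup R) (b : ι → ι → H)
    (hW : ∀ i k j, ∀ y ∈ W j, b i k • y ∈ W j) (h1 : ∀ i k, ∀ y ∈ W i, b i k • y = y)
    (h2 : ∀ i k, i ≠ k → ∀ y ∈ W k, b i k • y = y → y = 1) :
    ∏ i, Nat.card (W i) ≤ Nat.card R := by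
  rw [← Nat.card_pi]
  refine Nat.card_le_card_of_injective (fun f : ∀ i, W i => ∏ i, (f i : R)) fun f g e => ?_
  funext i
  have := indep W b hW h1 h2 Finset.univ (fun j => f j / g j) (fun j => div_mem (f j).2 (g j).2)
    (by rw [Finset.prod_div_distrib, div_eq_one]; exact e) i (Finset.mem_univ i)
  exact Subtype.ext (div_eq_one.1 this)

/-- the action is faithful and the elements outside `Y` have no nontrivial fixed point -/
structure Ctx (R : Type*) [CommGroup R] [MulDistribMulAction H R] (Y : Subgroup H) : Prop where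
  faith : ∀ h : H, (∀ y : R, h • y = y) → h = 1
  out : ∀ (h : H) (y : R), h • y = y → y ≠ 1 → h ∈ Y

theorem smul_ne_one' (h : H) {y : R} (hy : y ≠ 1) : h • y ≠ 1 := fun e =>
  hy (by rw [← inv_smul_smul h y, e, smul_one])

variable [Finite H] [Finite R] {Y : Subgroup H}

theorem Ctx.dvd (c : Ctx R Y) (W : Subgroup R) (hW : ∀ h : H, ∀ y ∈ W, h • y ∈ W) :
    Y.index ∣ Nat.card W - 1 := by
  have := index_dvd_ncard Y ((W : Set R) \ {1})
    (fun h y hy => ⟨hW h y hy.1, smul_ne_one' h hy.2⟩) fun y hy h e => c.out h y e hy.2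
  rwa [Set.ncard_diff_singleton_of_mem W.one_mem, ← Nat.card_coe_set_eq] at this

theorem Ctx.inv (c : Ctx R Y) (W : Subgroup R) (hW : ∀ h : H, ∀ y ∈ W, h • y ∈ W) (h1 : W ≠ ⊥)
    (h2 : W ≠ ⊤) : (Y.index + 1) ^ 2 ≤ Nat.card R := by
  have := c.dvd ⊤ fun _ _ _ => mem_top _
  rw [card_top] at this
  refine sq_le_of_dvd (W.one_lt_card_iff_ne_bot.2 h1) ?_ W.card_subgroup_dvd_card (c.dvd W hW) this
  exact lt_of_le_of_ne W.card_le_card_group fun e => h2 (W.eq_top_of_card_eq e)

/-- the fixed points of a nontrivial normal subgroup -/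
theorem Ctx.inv_fx (c : Ctx R Y) (B : Subgroup H) [hB : B.Normal] (h1 : B ≠ ⊥) {y : R}
    (hy : y ≠ 1) (hyB : ∀ b ∈ B, b • y = y) : (Y.index + 1) ^ 2 ≤ Nat.card R := by
  refine c.inv (Fx R (B : Set H)) (fun h x hx b hb => ?_)
    (fun e => hy (mem_bot.1 (e.le (show y ∈ Fx R (B : Set H) from hyB)))) fun e => h1 ?_
  · have := hx _ (hB.conj_mem' b hb h)
    rw [mul_smul, mul_smul, inv_smul_eq_iff] at this
    exact this
  · refine eq_bot_iff.2 fun b hb => mem_bot.2 (c.faith b fun x => ?_)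
    exact (e.ge (mem_top x) : x ∈ Fx R (B : Set H)) b hb

theorem Ctx.orb (c : Ctx R Y) {E : Subgroup H} (hE : E ≤ Y) {y : R} (hy : y ≠ 1) :
    Y.index * Nat.card E ≤ (orbit H y).ncard * Nat.card ↥(E ⊓ stabilizer H y) := by
  have hs : stabilizer H y ≤ Y := fun h hh => c.out h y hh hy
  rw [← index_stabilizer, ← relIndex_mul_index hs]
  have h1 : (stabilizer H y).relIndex E ≤ (stabilizer H y).relIndex Y :=
    relIndex_le_of_le_right hE (Finite.card_pos (α := Y ⧸ _)).ne'
  have h2 : (stabilizer H y).relIndex E * Nat.card ↥(E ⊓ stabilizer H y) = Nat.card E := by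
    rw [← inf_relIndex_left, relIndex, ← Nat.card_congr (subgroupOfEquivOfLe
      (inf_le_left : E ⊓ stabilizer H y ≤ E)).toEquiv, index_mul_card]
  rw [← h2]
  calc _ = (stabilizer H y).relIndex E * Y.index * Nat.card ↥(E ⊓ stabilizer H y) := by ring
    _ ≤ _ := by gcongr

theorem card_st_le (E : Subgroup H) [hE : E.Normal] (h : H) (y : R) :
    Nat.card ↥(E ⊓ stabilizer H y) ≤ Nat.card ↥(E ⊓ stabilizer H (h • y)) := by
  refine Nat.card_le_card_of_injective (fun x : ↥(E ⊓ stabilizer H y) =>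
    (⟨h * x.1 * h⁻¹, hE.conj_mem _ x.2.1 h, ?_⟩ : ↥(E ⊓ stabilizer H (h • y)))) ?_
  · have : x.1 • y = y := x.2.2
    change _ • _ = _
    rw [mul_smul, mul_smul, inv_smul_smul, this]
  · intro x x' e
    have := congrArg Subtype.val e
    exact Subtype.ext (by simpa using this)

theorem card_st (E : Subgroup H) [hE : E.Normal] (h : H) (y : R) :
    Nat.card ↥(E ⊓ stabilizer H (h • y)) = Nat.card ↥(E ⊓ stabilizer H y) := by
  refine le_antisymm ?_ (card_st_le E h y)
  have := card_st_le E h⁻¹ (h • y)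
  rwa [inv_smul_smul] at this

/-- an abelian normal subgroup that is not semiregular gives the bound -/
theorem Ctx.ab (c : Ctx R Y) (A : Subgroup H) [hA : A.Normal] (hAY : A ≤ Y)
    (hc : ∀ a ∈ A, ∀ b ∈ A, a * b = b * a) {a : H} (ha : a ∈ A) (ha1 : a ≠ 1) {y : R}
    (hy : y ≠ 1) (hay : a • y = y) : (Y.index + 1) ^ 2 ≤ Nat.card R := by
  classical
  obtain ⟨y0, hy0, hmax⟩ := Set.exists_max_image {y : R | y ≠ 1}
    (fun y => Nat.card ↥(A ⊓ stabilizer H y)) (Set.toFinite _) ⟨y, hy⟩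
  replace hy0 : y0 ≠ 1 := hy0
  set B : H → Subgroup H := fun h => A ⊓ stabilizer H (h • y0) with hB
  have cB : ∀ h, Nat.card (B h) = Nat.card ↥(A ⊓ stabilizer H y0) := fun h => card_st A h y0
  have conjB : ∀ h k, ∀ x ∈ B k, h * x * h⁻¹ ∈ B (h * k) := fun h k x hx =>
    ⟨hA.conj_mem _ hx.1 h, by
      have : x • k • y0 = k • y0 := hx.2
      change _ • _ = _
      rw [mul_smul h k, mul_smul, mul_smul, inv_smul_smul, this]⟩
  have hb0 : 1 < Nat.card ↥(A ⊓ stabilizer H y0) := by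
    refine lt_of_lt_of_le ?_ (hmax y hy)
    exact (one_lt_card_iff_ne_bot _).2 fun e =>
      ha1 (mem_bot.1 (e ▸ (⟨ha, hay⟩ : a ∈ A ⊓ stabilizer H y)))
  by_cases hj : ∀ h, B h = B 1
  · have hn : (B 1).Normal := ⟨fun x hx h => by
      have := conjB h 1 x hx
      rwa [hj] at this⟩
    refine c.inv_fx (B 1) ?_ hy0 fun b hb => ?_
    · rw [← one_lt_card_iff_ne_bot, cB]; exact hb0
    · have : b • (1 : H) • y0 = (1 : H) • y0 := hb.2
      rwa [one_smul] at this
  push Not at hj
  obtain ⟨h0, hh0⟩ := hj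
  have hne : ∀ h k, B h ≠ B k → ∃ b ∈ B h, b ∉ B k := fun h k e => by
    by_contra h'
    push Not at h'
    exact e (eq_of_le_of_card_ge h' (by rw [cB, cB]))
  have hfix : ∀ k, ∀ y ∈ Fx R (B k : Set H), y ≠ 1 → ∀ b ∈ A, b • y = y → b ∈ B k := by
    intro k y hy hy1 b hb e
    have : B k = A ⊓ stabilizer H y :=
      eq_of_le_of_card_ge (fun x hx => ⟨hx.1, mem_Fx.1 hy x hx⟩) (by rw [cB]; exact hmax y hy1)
    rw [this]
    exact ⟨hb, e⟩
  set w := Nat.card (Fx R (B 1 : Set H)) with hw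
  have cW : ∀ h, Nat.card (Fx R (B h : Set H)) = w := fun h => by
    refine le_antisymm (card_Fx_le h⁻¹ fun x hx => ?_) (card_Fx_le h fun x hx => ?_)
    · have := conjB h 1 x hx
      rw [mul_one] at this
      rw [inv_inv]
      exact this
    · have := conjB h⁻¹ h x hx
      rwa [inv_mul_cancel, inv_inv] at this
  have := Fintype.ofFinite H
  let S : Finset (Subgroup H) := Finset.univ.image B
  have hS : ∀ C : S, ∃ h, B h = C := fun C => by
    obtain ⟨h, -, e⟩ := Finset.mem_image.1 C.2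
    exact ⟨h, e⟩
  choose r hr using hS
  have hex : ∀ C D : S, ∃ b ∈ B (r C), C ≠ D → b ∉ B (r D) := fun C D => by
    by_cases e : C = D
    · exact ⟨1, one_mem _, fun h => absurd e h⟩
    · obtain ⟨b, hb, hb'⟩ := hne (r C) (r D) (by rw [hr, hr]; exact fun h => e (Subtype.ext h))
      exact ⟨b, hb, fun _ => hb'⟩
  choose b hb hb' using hex
  have hp := prod_le (fun C : S => Fx R (B (r C) : Set H)) b
    (fun i k j y hy x hx => by rw [← mul_smul, hc x hx.1 _ (hb i k).1, mul_smul, hy x hx])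
    (fun i k y hy => hy _ (hb i k))
    (fun i k hik y hy e => by
      by_contra h1
      exact hb' i k hik (hfix _ y hy h1 _ (hb i k).1 e))
  simp only [cW, Finset.prod_const, Finset.card_univ, Fintype.card_coe] at hp
  have hj : 2 ≤ S.card := Finset.one_lt_card.2
    ⟨B h0, by simp [S], B 1, by simp [S], hh0⟩
  -- the orbit lies in the union
  have ho : (orbit H y0).ncard ≤ S.card * (w - 1) := by
    have := Fintype.ofFinite R
    have h1 : (orbit H y0).toFinset ⊆
        S.biUnion fun C => ((Fx R (C : Set H) : Set R) \ {1}).toFinset := fun x hx => by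
      obtain ⟨h, rfl⟩ := Set.mem_toFinset.1 hx
      refine Finset.mem_biUnion.2 ⟨B h, by simp [S], Set.mem_toFinset.2 ⟨fun x hx => hx.2, ?_⟩⟩
      exact smul_ne_one' h hy0
    rw [Set.ncard_eq_toFinset_card']
    refine (Finset.card_le_card h1).trans (Finset.card_biUnion_le_card_mul _ _ _ fun C hC => ?_)
    obtain ⟨h, -, rfl⟩ := Finset.mem_image.1 hC
    rw [← Set.ncard_eq_toFinset_card', Set.ncard_diff_singleton_of_mem (Fx R _).one_mem,
      ← Nat.card_coe_set_eq, ← cW h]
    rfl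
  have hlt : 2 * Nat.card ↥(A ⊓ stabilizer H y0) ≤ Nat.card A := by
    obtain ⟨k, hk⟩ := card_dvd_of_le (inf_le_left : A ⊓ stabilizer H y0 ≤ A)
    have hk0 : k ≠ 0 := by rintro rfl; exact Nat.card_pos.ne' hk
    have hk1 : k ≠ 1 := by
      rintro rfl
      have e : ∀ h, B h = A := fun h => eq_of_le_of_card_ge inf_le_left (by rw [cB, hk, mul_one])
      exact hh0 (by rw [e, e])
    rw [hk, mul_comm]
    exact Nat.mul_le_mul_left _ (by omega)
  have h1 := c.orb hAY hy0
  have h2 : 2 * Y.index ≤ (orbit H y0).ncard := by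
    refine Nat.le_of_mul_le_mul_right (le_trans ?_ h1) (by omega)
    calc _ = Y.index * (2 * Nat.card ↥(A ⊓ stabilizer H y0)) := by ring
      _ ≤ _ := by gcongr
  have hw0 : 0 < w := Nat.card_pos
  have := bern hj (h2.trans ho)
  rw [Nat.sub_add_cancel hw0] at this
  exact this.trans hp

end H70.Der
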