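/- S3550, part 2: if `H` acts faithfully and coprimely on the abelian group `R`, the elements
outside the normal subgroup `Y` have no nontrivial fixed point and some nontrivial element has one,
then `(|H : Y| + 1) ^ 2 ≤ |R|` -/
import Cfsg.Agent.H70.DerL1
import Cfsg.Agent.H3.NormalRankOne
import Cfsg.Agent.H47.Rank2
import Cfsg.Agent.S3380

set_option autoImplicit false
set_option linter.unusedSectionVars false

namespace H70.Der
open Subgroup MulAction

theorem num_gen {m e a i w u v : ℕ} (h : m * e * (a - 1) ≤ a * i * w) (he : 0 < e) (ha : 0 < a)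
    (hi : v * i ≤ u * e) {c d : ℕ} (hc : c * u * a ≤ d * v * (a - 1)) (hu : 0 < u) :
    c * m ≤ d * w := by
  have h1 : v * (m * e * (a - 1)) ≤ a * (u * e) * w :=
    calc _ ≤ v * (a * i * w) := by gcongr
      _ = a * (v * i) * w := by ring
      _ ≤ _ := by gcongr
  have h2 : (c * m) * (u * a * e) ≤ (d * w) * (u * a * e) :=
    calc _ = (c * u * a) * (m * e) := by ring
      _ ≤ (d * v * (a - 1)) * (m * e) := by gcongr
      _ = d * (v * (m * e * (a - 1))) := by ring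
      _ ≤ d * (a * (u * e) * w) := by gcongr
      _ = _ := by ring
  exact Nat.le_of_mul_le_mul_right h2 (by positivity)

theorem num3 {m w : ℕ} (h : 2 * m ≤ 3 * w) : (m + 1) ^ 2 ≤ (w + 1) ^ 3 := by
  have h1 : (2 * (m + 1)) ^ 2 ≤ (3 * w + 2) ^ 2 := Nat.pow_le_pow_left (by omega) 2
  nlinarith [Nat.zero_le (w * w * w), Nat.zero_le (w * w)]

/-- a 2-group with a self-centralising cyclic subgroup of index two -/
theorem two_cyc {S : Type*} [Group S] [Finite S] (hS : IsPGroup 2 S) {a : S}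
    (ha : (zpowers a).index = 2) (t : S) (ht : t ∈ zpowers a) (h1 : t ≠ 1) :
    ∃ k : ℕ, orderOf (t ^ k) = 2 ∧ t ^ k ∈ center S := by
  classical
  have : Fact (Nat.Prime 2) := ⟨Nat.prime_two⟩
  have hn := normal_of_index_eq_two ha
  obtain ⟨j, hj⟩ := (IsPGroup.iff_orderOf.1 hS) t
  have hj0 : j ≠ 0 := by rintro rfl; exact h1 (orderOf_eq_one_iff.1 hj)
  have ho : orderOf (t ^ (orderOf t / 2)) = 2 :=
    orderOf_pow_orderOf_div (orderOf_pos t).ne' (hj ▸ dvd_pow_self 2 hj0)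
  refine ⟨_, ho, mem_center_iff.2 fun x => ?_⟩
  set u := t ^ (orderOf t / 2)
  have hu : u ∈ zpowers a := pow_mem ht _
  have hu2 : u ^ 2 = 1 := ho ▸ pow_orderOf_eq_one u
  have h2 := H3.mem_zpowers_of_isCyclic_subgroup (inferInstance : IsCyclic (zpowers a))
    (hn.conj_mem u hu x) hu (by rw [conj_pow, hu2]; simp) ho
  rw [← mem_powers_iff_mem_zpowers, (isOfFinOrder_of_finite u).mem_powers_iff_mem_range_orderOf,
    ho] at h2
  obtain ⟨i, hi, e⟩ := Finset.mem_image.1 h2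
  have : i = 0 ∨ i = 1 := by have := Finset.mem_range.1 hi; omega
  rcases this with rfl | rfl
  · have : u = 1 := by simpa using e.symm
    rw [this, mul_one, one_mul]
  · rw [pow_one] at e
    exact mul_inv_eq_iff_eq_mul.1 e.symm

variable {H : Type*} {R : Type*} [Group H] [CommGroup R] [MulDistribMulAction H R]

/-- the elements of exponent `s` in the centre of `S` -/
def Om (s : ℕ) (S : Subgroup H) : Subgroup H where
  carrier := {x | x ∈ S ∧ x ^ s = 1 ∧ ∀ g ∈ S, g * x = x * g}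
  one_mem' := ⟨one_mem _, one_pow _, fun g _ => by rw [mul_one, one_mul]⟩
  mul_mem' {x y} hx hy := ⟨mul_mem hx.1 hy.1, by
    rw [Commute.mul_pow (hy.2.2 x hx.1), hx.2.1, hy.2.1, one_mul], fun g hg => by
    rw [← mul_assoc, hx.2.2 g hg, mul_assoc, hy.2.2 g hg, mul_assoc]⟩
  inv_mem' {x} hx := ⟨inv_mem hx.1, by rw [inv_pow, hx.2.1, inv_one], fun g hg =>
    (Commute.inv_right (hx.2.2 g hg)).eq⟩

theorem mem_Om {s : ℕ} {S : Subgroup H} {x : H} :
    x ∈ Om s S ↔ x ∈ S ∧ x ^ s = 1 ∧ ∀ g ∈ S, g * x = x * g := Iff.rfl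

instance Om_normal (s : ℕ) (S : Subgroup H) [hS : S.Normal] : (Om s S).Normal :=
  ⟨fun x hx h => ⟨hS.conj_mem x hx.1 h, by rw [conj_pow, hx.2.1]; simp, fun g hg => by
    have := hx.2.2 _ (hS.conj_mem' g hg h)
    calc g * (h * x * h⁻¹) = h * (h⁻¹ * g * h * x) * h⁻¹ := by group
      _ = _ := by rw [this]; group⟩⟩

variable [Finite H] [Finite R] {Y : Subgroup H}

theorem pw {s : ℕ} {z e x : H} (hz : orderOf z = s)
    (hf : ∀ t ∈ zpowers z, t ≠ 1 → ∀ y : R, t • y = y → y = 1) (hze : z * e = e * z)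
    (hzx : x * z = z * x) (hx : x * e * x⁻¹ = z * e) :
    Nat.card (Fx R {e}) ^ s ≤ Nat.card R := by
  have hc : ∀ i : ℕ, Nat.card (Fx R {e}) ≤ Nat.card (Fx R {z ^ i * e}) := fun i => by
    induction i with
    | zero => simp
    | succ i ih =>
      refine ih.trans (card_Fx_le x fun c hc => ?_)
      rw [Set.mem_singleton_iff] at hc ⊢
      have h1 : Commute x (z ^ i) := Commute.pow_right hzx i
      rw [hc, pow_succ, mul_assoc (z ^ i), ← hx, ← mul_assoc, ← mul_assoc, ← mul_assoc,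
        h1.inv_left.eq]
      group
  have hze' : Commute z e := hze
  have hp := prod_le (fun i : Fin s => Fx R {z ^ (i : ℕ) * e}) (fun i _ => z ^ (i : ℕ) * e)
    (fun i k j y hy => by
      have h1 : Commute (z ^ (j : ℕ) * e) (z ^ (i : ℕ) * e) :=
        ((Commute.pow_pow_self z _ _).mul_right (hze'.pow_left _)).mul_left
          ((hze'.pow_left _).symm.mul_right (Commute.refl e))
      rw [mem_Fx1] at hy ⊢
      rw [← mul_smul, h1.eq, mul_smul, hy])
    (fun i k y hy => mem_Fx1.1 hy)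
    (fun i k hik y hy h => by
      rw [mem_Fx1] at hy
      refine hf (z ^ (i : ℕ) * (z ^ (k : ℕ))⁻¹)
        (mul_mem (pow_mem (mem_zpowers z) _) (inv_mem (pow_mem (mem_zpowers z) _))) ?_ y ?_
      · intro e1
        refine hik (Fin.ext (pow_injOn_Iio_orderOf ?_ ?_ (mul_inv_eq_one.1 e1)))
        · rw [hz]; exact i.2
        · rw [hz]; exact k.2
      · have : z ^ (i : ℕ) * (z ^ (k : ℕ))⁻¹ = z ^ (i : ℕ) * e * (z ^ (k : ℕ) * e)⁻¹ := by group
        rw [this, mul_smul, inv_smul_eq_iff.2 hy.symm, h])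
  refine le_trans ?_ hp
  calc _ = ∏ _i : Fin s, Nat.card (Fx R {e}) := by simp
    _ ≤ _ := Finset.prod_le_prod' fun i _ => hc i

theorem Ctx.ct (c : Ctx R Y) (E : Subgroup H) [E.Normal] (hE : E ≤ Y) {y0 : R} (hy0 : y0 ≠ 1)
    {s : ℕ} (hp : ∀ e ∈ E, e ≠ 1 → ∀ y : R, y ≠ 1 → e • y = y → Nat.card (Fx R {e}) ^ s ≤ Nat.card R)
    (I : Set H) (hI : ∀ e ∈ E, e ≠ 1 → ∀ y : R, y ≠ 1 → e • y = y → e ∈ I)
    (ha : 1 < Nat.card ↥(E ⊓ stabilizer H y0)) :
    ∃ w, (w + 1) ^ s ≤ Nat.card R ∧ Y.index * Nat.card E * (Nat.card ↥(E ⊓ stabilizer H y0) - 1) ≤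
      Nat.card ↥(E ⊓ stabilizer H y0) * I.ncard * w := by
  classical
  have := Fintype.ofFinite H
  have := Fintype.ofFinite R
  let J : Finset H := Finset.univ.filter fun e => e ∈ E ∧ e ≠ 1 ∧ ∃ y : R, y ≠ 1 ∧ e • y = y
  have mJ : ∀ e, e ∈ J ↔ e ∈ E ∧ e ≠ 1 ∧ ∃ y : R, y ≠ 1 ∧ e • y = y := fun e => by simp [J]
  obtain ⟨e1, he1, h1⟩ := (Subgroup.bot_or_exists_ne_one _).resolve_left
    ((one_lt_card_iff_ne_bot _).1 ha)
  obtain ⟨e0, he0, hmax⟩ := J.exists_max_image (fun e => Nat.card (Fx R {e}))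
    ⟨e1, (mJ _).2 ⟨he1.1, h1, y0, hy0, he1.2⟩⟩
  obtain ⟨h2, h3, y, hy, h4⟩ := (mJ _).1 he0
  have hw0 : 0 < Nat.card (Fx R {e0}) := Nat.card_pos
  refine ⟨Nat.card (Fx R {e0}) - 1, by rw [Nat.sub_add_cancel hw0]; exact hp e0 h2 h3 y hy h4, ?_⟩
  set a := Nat.card ↥(E ⊓ stabilizer H y0)
  have hd : (orbit H y0).toFinset.card * (a - 1) ≤ J.card * (Nat.card (Fx R {e0}) - 1) := by
    refine Finset.card_mul_le_card_mul (fun y e => e • y = y) (fun x hx => ?_) fun e he => ?_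
    · obtain ⟨h, rfl⟩ := Set.mem_toFinset.1 hx
      have e1 : a - 1 = (((E ⊓ stabilizer H (h • y0) : Subgroup H) : Set H) \ {1}).toFinset.card := by
        rw [← Set.ncard_eq_toFinset_card', Set.ncard_diff_singleton_of_mem (one_mem _),
          ← Nat.card_coe_set_eq]
        exact congrArg (· - 1) (card_st E h y0).symm
      rw [e1]
      refine Finset.card_le_card fun e he => ?_
      obtain ⟨h5, h6⟩ := Set.mem_toFinset.1 he
      exact (Finset.mem_bipartiteAbove _).2 ⟨(mJ _).2 ⟨h5.1, h6, _, smul_ne_one' h hy0, h5.2⟩, h5.2⟩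
    · refine le_trans ?_ (Nat.sub_le_sub_right (hmax e he) 1)
      have e1 : Nat.card (Fx R {e}) - 1 = ((Fx R {e} : Set R) \ {1}).toFinset.card := by
        rw [← Set.ncard_eq_toFinset_card', Set.ncard_diff_singleton_of_mem (one_mem _),
          ← Nat.card_coe_set_eq]
        rfl
      rw [e1]
      refine Finset.card_le_card fun x hx => ?_
      obtain ⟨h5, h6⟩ := (Finset.mem_bipartiteBelow _).1 hx
      obtain ⟨h, rfl⟩ := Set.mem_toFinset.1 h5
      exact Set.mem_toFinset.2 ⟨mem_Fx1.2 h6, smul_ne_one' h hy0⟩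
  have hJ : J.card ≤ I.ncard := by
    rw [← Set.ncard_coe_finset]
    refine Set.ncard_le_ncard fun e he => ?_
    obtain ⟨h5, h6, y, h7, h8⟩ := (mJ _).1 he
    exact hI e h5 h6 y h7 h8
  have ho := c.orb hE hy0
  rw [Set.ncard_eq_toFinset_card'] at ho
  calc _ ≤ (orbit H y0).toFinset.card * a * (a - 1) := by gcongr
    _ = a * ((orbit H y0).toFinset.card * (a - 1)) := by ring
    _ ≤ a * (J.card * (Nat.card (Fx R {e0}) - 1)) := by gcongr
    _ ≤ a * (I.ncard * (Nat.card (Fx R {e0}) - 1)) := by gcongr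
    _ = _ := by ring

theorem two_le_st {E : Subgroup H} {e : H} {y : R} (he : e ∈ E) (h1 : e ≠ 1) (h : e • y = y) :
    1 < Nat.card ↥(E ⊓ stabilizer H y) :=
  (one_lt_card_iff_ne_bot _).2 fun e' => h1 (mem_bot.1 (e'.le (⟨he, h⟩ : e ∈ E ⊓ stabilizer H y)))

theorem four_le {K : Subgroup H} {a b : H} (ha : a ∈ K) (hb : b ∈ K) (a1 : a ≠ 1) (b1 : b ≠ 1)
    (hab : a ≠ b) (a2 : a * a = 1) : 4 ≤ Nat.card K := by
  have h1 : 2 ∣ Nat.card K := by
    have : Fact (Nat.Prime 2) := ⟨Nat.prime_two⟩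
    rw [← orderOf_eq_prime (p := 2) (by rw [sq, a2]) a1]
    exact K.orderOf_dvd_natCard ha
  have h2 : 2 < (K : Set H).ncard := (Set.two_lt_ncard_iff (Set.toFinite _)).2
    ⟨1, a, b, one_mem _, ha, hb, a1.symm, b1.symm, hab⟩
  rw [← Nat.card_coe_set_eq] at h2
  change 2 < Nat.card K at h2
  omega

/-- the case of a 2-group `E` with commutators in `⟨z⟩` of order two -/
theorem Ctx.two (c : Ctx R Y) (E : Subgroup H) [E.Normal] (hE : E ≤ Y) {z e1 x0 : H} (hz : z ∈ E)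
    (z1 : z ≠ 1) (zz : z * z = 1) (zi : ∀ y : R, z • y = y⁻¹) (zf : ∀ y : R, z • y = y → y = 1)
    (zc : ∀ x ∈ E, x * z = z * x)
    (hcm : ∀ x ∈ E, ∀ e ∈ E, x * e * x⁻¹ = e ∨ x * e * x⁻¹ = z * e)
    (hp : ∀ e ∈ E, e ≠ 1 → ∀ y : R, y ≠ 1 → e • y = y →
      e * e = 1 ∧ Nat.card (Fx R {e}) ^ 2 ≤ Nat.card R)
    (he1 : e1 ∈ E) (h1 : e1 ≠ 1) {y : R} (hy : y ≠ 1) (hy1 : e1 • y = y) (hx0 : x0 ∈ E)
    (hx : x0 * e1 ≠ e1 * x0) : (Y.index + 1) ^ 2 ≤ Nat.card R := by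
  let I : Set H := {e | e ∈ E ∧ e * e = 1 ∧ e ≠ 1 ∧ e ≠ z}
  have hI : ∀ e ∈ E, e ≠ 1 → ∀ y : R, y ≠ 1 → e • y = y → e ∈ I := fun e he h1 y hy h =>
    ⟨he, (hp e he h1 y hy h).1, h1, fun e' => hy (zf y (e' ▸ h))⟩
  have hE0 : 0 < Nat.card E := Nat.card_pos
  have ee := (hp e1 he1 h1 y hy hy1).1
  have e1z : e1 ≠ z := (hI e1 he1 h1 y hy hy1).2.2.2
  have fin : ∀ w, (w + 1) ^ 2 ≤ Nat.card R → 1 * Y.index ≤ 1 * w →
      (Y.index + 1) ^ 2 ≤ Nat.card R := fun w h h' =>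
    le_trans (Nat.pow_le_pow_left (by omega) 2) h
  by_cases h2 : 2 * I.ncard ≤ 1 * Nat.card E
  · have ha := two_le_st he1 h1 hy1
    obtain ⟨w, hw, h⟩ := c.ct E hE hy (fun e he h1 y hy h => (hp e he h1 y hy h).2) I hI ha
    exact fin w hw (num_gen h hE0 (by omega) h2 (by omega) one_pos)
  let C : Subgroup H := E ⊓ centralizer {e1}
  have mC : ∀ x, x ∈ C ↔ x ∈ E ∧ x * e1 = e1 * x := fun x => by
    simp only [C, mem_inf, mem_centralizer_singleton_iff]
  have hout : ∀ x ∈ E, x ∉ C → x * e1 * x⁻¹ = z * e1 := fun x hx h =>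
    (hcm x hx e1 he1).resolve_left fun e => h ((mC x).2 ⟨hx, mul_inv_eq_iff_eq_mul.1 e⟩)
  have x0C : x0 ∉ C := fun h => hx ((mC _).1 h).2
  have c4 : 4 ≤ (C : Set H).ncard := by
    rw [← Nat.card_coe_set_eq]
    exact four_le ((mC _).2 ⟨hz, (zc e1 he1).symm⟩) ((mC _).2 ⟨he1, rfl⟩) z1 h1 e1z.symm zz
  have k1 : ((E : Set H) \ C).ncard + (C : Set H).ncard = Nat.card E := by
    rw [Set.ncard_diff_add_ncard_of_subset (fun x hx => hx.1), ← Nat.card_coe_set_eq]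
    rfl
  have k2 : ((E : Set H) \ C).ncard ≤ (C : Set H).ncard := by
    refine Set.ncard_le_ncard_of_injOn (fun x => x0 * x) (fun x hx => ?_)
      fun x _ x' _ e => mul_left_cancel e
    refine (mC _).2 ⟨mul_mem hx0 hx.1, mul_inv_eq_iff_eq_mul.1 ?_⟩
    calc x0 * x * e1 * (x0 * x)⁻¹ = x0 * (x * e1 * x⁻¹) * x0⁻¹ := by group
      _ = z * (x0 * e1 * x0⁻¹) := by
        rw [hout x hx.1 hx.2, ← mul_assoc, zc x0 hx0]; group
      _ = e1 := by rw [hout x0 hx0 x0C, ← mul_assoc, zz, one_mul]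
  have k3 : (C : Set H).ncard ≤ ((E : Set H) \ C).ncard := by
    refine Set.ncard_le_ncard_of_injOn (fun x => x0 * x) (fun x hx => ⟨mul_mem hx0 hx.1, fun h => ?_⟩)
      fun x _ x' _ e => mul_left_cancel e
    exact x0C ((C.mul_mem_cancel_right hx).1 h)
  have k4 : (I \ C).ncard ≤ (((E : Set H) \ C) \ I).ncard := by
    refine Set.ncard_le_ncard_of_injOn (fun x => x * e1) (fun x hx => ⟨⟨mul_mem hx.1.1 he1, fun h => ?_⟩,
      fun h => z1 ?_⟩) fun x _ x' _ e => mul_right_cancel e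
    · exact hx.2 ((C.mul_mem_cancel_right ((mC _).2 ⟨he1, rfl⟩)).1 h)
    · calc z = (x * e1 * x⁻¹) * (x * x) * e1 := by
            rw [hout x hx.1.1 hx.2, hx.1.2.1, mul_one, mul_assoc, ee, mul_one]
        _ = x * e1 * (x * e1) := by group
        _ = 1 := h.2.1
  have k5 : (((E : Set H) \ C) \ I).ncard + (I \ C).ncard = ((E : Set H) \ C).ncard := by
    have : ((E : Set H) \ C) \ I = ((E : Set H) \ C) \ (I \ C) := by
      ext x
      simp only [Set.mem_diff]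
      tauto
    rw [this]
    exact Set.ncard_diff_add_ncard_of_subset fun x hx => ⟨hx.1.1, hx.2⟩
  have k6 : (I ∩ C).ncard + (I \ C).ncard = I.ncard := Set.ncard_inter_add_ncard_diff_eq_ncard _ _
  have k7 : (I ∩ C).ncard ≤ (C : Set H).ncard := Set.ncard_le_ncard Set.inter_subset_right
  obtain ⟨e2, he2, h3, h4⟩ : ∃ e2 ∈ I ∩ C, e2 ≠ e1 ∧ e2 ≠ z * e1 := by
    by_contra h
    push Not at h
    have : (I ∩ C).ncard ≤ ({e1, z * e1} : Set H).ncard :=
      Set.ncard_le_ncard fun x hx => by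
        by_cases e : x = e1
        · exact Or.inl e
        · exact Or.inr (h x hx e)
    have h5 := Set.ncard_insert_le e1 ({z * e1} : Set H)
    rw [Set.ncard_singleton] at h5
    omega
  obtain ⟨y0, hy0, e3, he3, h5, h6, h7, h8⟩ :
      ∃ y0 : R, y0 ≠ 1 ∧ ∃ e3 ∈ E, e3 ≠ 1 ∧ e1 ≠ e3 ∧ e1 • y0 = y0 ∧ e3 • y0 = y0 := by
    by_cases h : y * e2 • y = 1
    · refine ⟨y, hy, z * e2, mul_mem hz he2.1.1, fun e => he2.1.2.2.2 ?_, fun e => h4 ?_, hy1, ?_⟩
      · rw [← one_mul e2, ← zz, mul_assoc, e, mul_one]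
      · rw [e, ← mul_assoc, zz, one_mul]
      · rw [mul_smul, eq_inv_of_mul_eq_one_right h, zi, inv_inv]
    · refine ⟨_, h, e2, he2.1.1, he2.1.2.2.1, h3.symm, ?_, ?_⟩
      · rw [smul_mul', ← mul_smul, ← ((mC _).1 he2.2).2, mul_smul, hy1]
      · rw [smul_mul', ← mul_smul, he2.1.2.1, one_smul, mul_comm]
  have ha : 4 ≤ Nat.card ↥(E ⊓ stabilizer H y0) := four_le ⟨he1, h7⟩ ⟨he3, h8⟩ h1 h5 h6 ee
  obtain ⟨w, hw, h⟩ := c.ct E hE hy0 (fun e he h1 y hy h => (hp e he h1 y hy h).2) I hI (by omega)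
  exact fin w hw (num_gen (u := 3) (v := 4) h hE0 (by omega) (by omega) (by omega) (by omega))

theorem Ctx.core (c : Ctx R Y) {s : ℕ} (hs : s.Prime) (S : Subgroup H) [S.Normal] (hSY : S ≤ Y)
    (hS : IsPGroup s S) (hcop : ¬ s ∣ Nat.card R) {g : H} (hg : g ∈ S) (g1 : g ≠ 1) {y : R}
    (hy : y ≠ 1) (hgy : g • y = y) : (Y.index + 1) ^ 2 ≤ Nat.card R := by
  have : Fact s.Prime := ⟨hs⟩
  by_contra hn
  have hsr : ∀ A : Subgroup H, A.Normal → A ≤ S → (∀ a ∈ A, ∀ b ∈ A, a * b = b * a) →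
      ∀ a ∈ A, a ≠ 1 → ∀ y : R, a • y = y → y = 1 := fun A _ hA hc a ha a1 y h => by
    by_contra hy
    exact hn (c.ab A (hA.trans hSY) hc ha a1 hy h)
  have hOm : ∀ E : Subgroup H, E.Normal → E ≤ S → ∀ a ∈ Om s E, a ≠ 1 → ∀ y : R, a • y = y → y = 1 :=
    fun E _ hE => hsr _ inferInstance (fun x hx => hE hx.1) fun a ha b hb => hb.2.2 a ha.1
  have hZ := hOm S inferInstance le_rfl
  have hnc : ¬ IsCyclic S := fun h => hy (hsr S inferInstance le_rfl (fun a ha b hb =>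
    congrArg Subtype.val (h.isMulCommutative.is_comm.comm (⟨a, ha⟩ : S) ⟨b, hb⟩)) g hg g1 y hgy)
  have hpw : ∀ e ∈ S, ∀ x ∈ S, x * e * x⁻¹ * e⁻¹ ∈ Om s S → x * e ≠ e * x →
      Nat.card (Fx R {e}) ^ s ≤ Nat.card R := fun e he x hx hz h => by
    have h1 : x * e * x⁻¹ * e⁻¹ ≠ 1 := fun e' => h (mul_inv_eq_iff_eq_mul.1 (mul_inv_eq_one.1 e'))
    refine pw (x := x) (orderOf_eq_prime hz.2.1 h1) (fun t ht => hZ t (zpowers_le.2 hz ht))
      (hz.2.2 e he).symm (hz.2.2 x hx) (by group)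
  have hE0 : ∀ E : Subgroup H, 0 < Nat.card E := fun E => Nat.card_pos
  by_cases hA : ∀ A : Subgroup S, A.Normal → IsMulCommutative A → IsCyclic A
  · have h2 : s = 2 := by
      by_contra h
      exact hnc (H3.isCyclic_of_normal_abelian_cyclic_odd h hS hA)
    subst h2
    obtain ⟨a, ha, hself⟩ := H3.exists_zpowers_index_two_of_normal_abelian_cyclic hS hA hnc
    have hN := normal_of_index_eq_two ha
    have hc : ∀ t : S, orderOf t = 2 → t ∈ center S → (t : H) ∈ Om 2 S := fun t h1 h2 =>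
      ⟨t.2, by rw [← coe_pow, ← h1, pow_orderOf_eq_one, coe_one], fun x hx =>
        congrArg Subtype.val (mem_center_iff.1 h2 ⟨x, hx⟩)⟩
    have hM : ∀ e : S, (e : H) ≠ 1 → ∀ y : R, y ≠ 1 → (e : H) • y = y → e ∉ zpowers a :=
      fun e e1 y hy h he => by
        obtain ⟨k, h1, h2⟩ := two_cyc hS ha e he fun e' => e1 (congrArg Subtype.val e')
        refine hy (hZ _ (hc _ h1 h2) (fun e' => ?_) y ?_)
        · rw [show e ^ k = 1 from Subtype.ext e', orderOf_one] at h1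
          exact absurd h1 (by decide)
        · exact pow_mem (show (e : H) ∈ stabilizer H y from h) k
    let M : Subgroup H := (zpowers a).map S.subtype
    obtain ⟨w, hw, h⟩ := c.ct S hSY hy (s := 2) (fun e he e1 y hy h => by
      have h1 := hM ⟨e, he⟩ e1 y hy h
      set f : S := ⟨e, he⟩
      have h2 : f * a⁻¹ * f⁻¹ ∈ zpowers a := hN.conj_mem _ (inv_mem (mem_zpowers a)) f
      have h3 : a * (f * a⁻¹ * f⁻¹) ≠ 1 := fun e' => h1 (hself f (by
        calc f * a = a * (f * a⁻¹ * f⁻¹) * f * a := by rw [e', one_mul]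
          _ = a * f := by group))
      obtain ⟨k, h4, h5⟩ := two_cyc hS ha _ (mul_mem (mem_zpowers a) h2) h3
      have h6 : Commute a (f * a⁻¹ * f⁻¹) := by
        obtain ⟨j, hj⟩ := h2
        rw [← hj]
        exact Commute.zpow_right (Commute.refl a) j
      have h7 : (a * (f * a⁻¹ * f⁻¹)) ^ k = a ^ k * f * (a ^ k)⁻¹ * f⁻¹ := by
        rw [h6.mul_pow, conj_pow, inv_pow]; group
      rw [h7] at h4 h5
      refine hpw e he (a ^ k : S) (a ^ k).2 (hc _ h4 h5) fun e' => ?_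
      have h8 : a ^ k * f = f * a ^ k := Subtype.ext e'
      rw [h8] at h4
      simp at h4) ((S : Set H) \ M) (fun e he e1 y hy h => ⟨he, fun h' => by
        obtain ⟨f, hf, rfl⟩ := h'
        exact hM f e1 y hy h hf⟩) (two_le_st hg g1 hgy)
    have k1 : ((S : Set H) \ M).ncard + (M : Set H).ncard = Nat.card S := by
      rw [Set.ncard_diff_add_ncard_of_subset (map_subtype_le _), ← Nat.card_coe_set_eq]
      rfl
    have k2 : 2 * (M : Set H).ncard = Nat.card S := by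
      rw [← Nat.card_coe_set_eq, ← ha, ← index_mul_card (zpowers a)]
      congr 1
      exact card_map_of_injective S.subtype_injective
    have ha := two_le_st hg g1 hgy
    have := num_gen (u := 1) (v := 2) (c := 1) (d := 1) h (hE0 S) (by omega) (by omega) (by omega)
      one_pos
    exact hn (le_trans (Nat.pow_le_pow_left (by omega) 2) hw)
  push Not at hA
  obtain ⟨A, hA, hAc, hAn⟩ := hA
  obtain ⟨z, a, hzc, hzo, has, haz, hcm⟩ := Cfsg.Agent.S3380.exists_pair hS A hAc hAn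
  have hzZ : (z : H) ∈ Om s S := ⟨z.2, by rw [← coe_pow, ← hzo, pow_orderOf_eq_one, coe_one],
    fun x hx => congrArg Subtype.val (mem_center_iff.1 hzc ⟨x, hx⟩)⟩
  have z1 : (z : H) ≠ 1 := fun e => hs.one_lt.ne' (by
    rw [← hzo, show z = 1 from Subtype.ext e, orderOf_one])
  let π := QuotientGroup.mk' (Om s S)
  let E : Subgroup H := (Om s (S.map π)).comap π
  have hmn : (S.map π).Normal := Normal.map inferInstance π (QuotientGroup.mk'_surjective _)
  have hEn : E.Normal := Normal.comap inferInstance π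
  have hk : ∀ x, π x = 1 ↔ x ∈ Om s S := fun x => QuotientGroup.eq_one_iff x
  have mE : ∀ x, x ∈ E ↔ x ∈ S ∧ x ^ s ∈ Om s S ∧ ∀ g ∈ S, g * x * g⁻¹ * x⁻¹ ∈ Om s S := fun x => by
    constructor
    · rintro ⟨⟨u, hu, e⟩, h2, h3⟩
      refine ⟨?_, (hk _).1 (by rw [map_pow]; exact h2), fun g hg => (hk _).1 ?_⟩
      · have : u⁻¹ * x ∈ Om s S := (hk _).1 (by rw [map_mul, map_inv, e, inv_mul_cancel])
        exact (S.mul_mem_cancel_left (inv_mem hu)).1 this.1
      · rw [map_mul, map_mul, map_mul, h3 _ (mem_map_of_mem π hg), map_inv, map_inv]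
        group
    · rintro ⟨h1, h2, h3⟩
      refine ⟨mem_map_of_mem π h1, by rw [← map_pow]; exact (hk _).2 h2, ?_⟩
      rintro _ ⟨g, hg, rfl⟩
      have := (hk _).2 (h3 g hg)
      rw [map_mul, map_mul, map_mul, map_inv, map_inv] at this
      exact mul_inv_eq_iff_eq_mul.1 (mul_inv_eq_one.1 this)
  have hES : E ≤ S := fun x hx => ((mE x).1 hx).1
  have hZE : Om s S ≤ E := fun x hx => (mE x).2 ⟨hx.1, pow_mem hx s, fun g hg => by
    rw [hx.2.2 g hg]; simp⟩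
  have haE : (a : H) ∈ E := (mE _).2 ⟨a.2, by rw [← coe_pow, has]; exact one_mem _, fun g hg => by
    obtain ⟨k, hk⟩ := hcm ⟨g, hg⟩
    have : (z : H) ^ k = g * a * g⁻¹ * (a : H)⁻¹ := congrArg Subtype.val hk
    rw [← this]
    exact zpow_mem hzZ k⟩
  have hp : ∀ e ∈ E, e ≠ 1 → ∀ y : R, y ≠ 1 → e • y = y →
      e ^ s = 1 ∧ (∃ x ∈ E, x * e ≠ e * x) ∧ Nat.card (Fx R {e}) ^ s ≤ Nat.card R := by
    intro e he e1 y hy h
    have h1 : e ^ s = 1 := by
      by_contra h1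
      exact hy (hZ _ ((mE e).1 he).2.1 h1 y (pow_mem (show e ∈ stabilizer H y from h) s))
    have h2 : ∃ x ∈ E, x * e ≠ e * x := by
      by_contra h2
      push Not at h2
      exact hy (hOm E hEn hES e ⟨he, h1, h2⟩ e1 y h)
    obtain ⟨x, hx, h3⟩ := h2
    exact ⟨h1, ⟨x, hx, h3⟩, hpw e (hES he) x (hES hx) (((mE e).1 he).2.2 x (hES hx)) h3⟩
  obtain ⟨i, y0, hy0, h0⟩ : ∃ (i : ℕ) (y0 : R), y0 ≠ 1 ∧ ((z : H) ^ i * a) • y0 = y0 := by
    by_contra h
    push Not at h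
    have h1 := H47.pow_eq_one_of_rank_two_fpf (MulDistribMulAction.toMulAut H R) hs hzZ.2.1
      (b := a) (by rw [← coe_pow, has, coe_one]) (hzZ.2.2 a a.2).symm (fun w => hZ _ hzZ z1 w)
      (fun i w e => by by_contra hw; exact h i w hw e) y
    exact hcop (orderOf_eq_prime h1 hy ▸ orderOf_dvd_natCard y)
  have he1 : (z : H) ^ i * a ∈ E := mul_mem (pow_mem (hZE hzZ) i) haE
  have e1 : (z : H) ^ i * a ≠ 1 := fun e => haz (by
    have : z ^ i * a = 1 := Subtype.ext e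
    rw [eq_inv_of_mul_eq_one_right this]
    exact inv_mem (pow_mem (mem_zpowers z) i))
  by_cases h2 : s = 2
  · subst h2
    have hi : ∀ t ∈ Om 2 S, t ≠ 1 → ∀ y : R, t • y = y⁻¹ := fun t ht t1 y =>
      eq_inv_of_mul_eq_one_right (hZ t ht t1 _ (by
        rw [smul_mul', ← mul_smul, ← sq, ht.2.1, one_smul, mul_comm]))
    obtain ⟨-, ⟨x0, hx0, hx⟩, -⟩ := hp _ he1 e1 y0 hy0 h0
    refine hn (c.two E (hES.trans hSY) (hZE hzZ) z1 (by rw [← sq]; exact hzZ.2.1) (hi _ hzZ z1)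
      (hZ _ hzZ z1) (fun x hx => hzZ.2.2 x (hES hx)) (fun x hx e he => ?_)
      (fun e he e1 y hy h => ⟨by rw [← sq]; exact (hp e he e1 y hy h).1, (hp e he e1 y hy h).2.2⟩)
      he1 e1 hy0 h0 hx0 hx)
    have h3 := ((mE e).1 he).2.2 x (hES hx)
    by_cases h4 : x * e * x⁻¹ * e⁻¹ = 1
    · exact Or.inl (mul_inv_eq_one.1 h4)
    · refine Or.inr (mul_inv_eq_iff_eq_mul.1 (eq_of_inv_mul_eq_one (c.faith _ fun y => ?_)))
      rw [mul_smul, inv_smul_eq_iff, hi _ hzZ z1, hi _ h3 h4]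
  have h3 : 3 ≤ s := by have := hs.two_le; omega
  have ha : s ≤ Nat.card ↥(E ⊓ stabilizer H y0) := by
    refine Nat.le_of_dvd (hE0 _) ?_
    rw [← orderOf_eq_prime (hp _ he1 e1 y0 hy0 h0).1 e1]
    exact orderOf_dvd_natCard _ (⟨he1, h0⟩ : _ ∈ E ⊓ stabilizer H y0)
  obtain ⟨w, hw, h⟩ := c.ct E (hES.trans hSY) hy0 (fun e he e1 y hy h => (hp e he e1 y hy h).2.2) E
    (fun e he _ _ _ _ => he) (by omega)
  have h4 := num_gen (u := 1) (v := 1) (c := 2) (d := 3) h (hE0 E) (by omega)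
    (by rw [← Nat.card_coe_set_eq]; rfl) (by omega) one_pos
  exact hn ((num3 h4).trans ((Nat.pow_le_pow_right (by omega) h3).trans hw))

theorem Ctx.main (c : Ctx R Y) [Y.Normal] (hcop : (Nat.card H).Coprime (Nat.card R)) {g : H}
    (g1 : g ≠ 1) {y : R} (hy : y ≠ 1) (hgy : g • y = y) : (Y.index + 1) ^ 2 ≤ Nat.card R := by
  obtain ⟨s, hs, hd⟩ := Nat.exists_prime_and_dvd (fun e => g1 (orderOf_eq_one_iff.1 e))
  have : Fact s.Prime := ⟨hs⟩
  have ho : orderOf (g ^ (orderOf g / s)) = s := orderOf_pow_orderOf_div (orderOf_pos g).ne' hd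
  have hf : g ^ (orderOf g / s) • y = y := pow_mem (show g ∈ stabilizer H y from hgy) _
  set u := g ^ (orderOf g / s)
  have huY : u ∈ Y := c.out u y hf hy
  have hP : IsPGroup s (zpowers (⟨u, huY⟩ : Y)) :=
    IsPGroup.of_card (n := 1) (by rw [Nat.card_zpowers, ← orderOf_coe, pow_one]; exact ho)
  obtain ⟨P, hPu⟩ := hP.exists_le_sylow
  have hF := Sylow.normalizer_sup_eq_top P
  set S : Subgroup H := (P : Subgroup Y).map Y.subtype
  set N := normalizer (S : Set H)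
  have huS : u ∈ S := mem_map_of_mem Y.subtype (hPu (mem_zpowers _))
  have c' : Ctx R (Y.subgroupOf N) :=
    ⟨fun h hh => Subtype.ext (c.faith h hh), fun h y e hy => c.out h y e hy⟩
  have hi : (Y.subgroupOf N).index = Y.index := by
    change Y.relIndex N = _
    rw [← relIndex_sup_right, hF, relIndex_top_right]
  rw [← hi]
  refine c'.core hs (S.subgroupOf N) (fun x hx => map_subtype_le (P : Subgroup Y) hx)
    ((P.isPGroup'.map _).comap_subtype) (fun h => ?_) (g := ⟨u, le_normalizer huS⟩) huS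
    (fun e => hs.one_lt.ne' ?_) hy hf
  · exact hs.one_lt.ne' (Nat.eq_one_of_dvd_coprimes hcop (hd.trans (orderOf_dvd_natCard g)) h)
  · rw [← ho, show u = 1 from congrArg Subtype.val e, orderOf_one]

end H70.Der
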