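/- S3550, part 4: a normal transitive subgroup `D` containing all two-point stabilisers; either
`(|G : D| + 1) ^ 2 ≤ n` or a Sylow subgroup is regular -/
import Cfsg.Agent.H70.DerL2
import Cfsg.Agent.H70.DerC
import Cfsg.Agent.H89.Derange

set_option autoImplicit false
set_option linter.unusedSectionVars false

namespace H70.Der
open Subgroup MulAction

variable {G : Type*} [Group G] [Finite G]

theorem exists_relIndex_pow {r : ℕ} [Fact r.Prime] {P : Subgroup G} (hP : IsPGroup r P)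
    (D : Subgroup G) : ∃ k, D.relIndex P = r ^ k := hP.index _

theorem relIndex_one {r : ℕ} [Fact r.Prime] {P D : Subgroup G} (hP : IsPGroup r P) {n : ℕ}
    (h : D.relIndex P ∣ n) (hn : ¬ r ∣ n) : P ≤ D := by
  obtain ⟨k, hk⟩ := exists_relIndex_pow hP D
  rcases k with _ | k
  · exact relIndex_eq_one.1 hk
  · exact absurd ((hk ▸ dvd_pow_self r k.succ_ne_zero).trans h) hn

theorem le_of_not_dvd {r : ℕ} [Fact r.Prime] {P D : Subgroup G} [D.Normal] (hP : IsPGroup r P)
    (hD : ¬ r ∣ D.index) : P ≤ D := relIndex_one hP (relIndex_dvd_index_of_normal D P) hD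

theorem exists_syl {r : ℕ} [Fact r.Prime] (K : Subgroup G) {Q : Subgroup G} (hQ : Q ≤ K)
    (hQp : IsPGroup r Q) : ∃ P, Q ≤ P ∧ P ≤ K ∧ IsPGroup r P ∧ ¬ r ∣ P.relIndex K := by
  obtain ⟨P, hP⟩ := (hQp.comap_subtype (K := K)).exists_le_sylow
  refine ⟨(P : Subgroup K).map K.subtype, fun x hx => ⟨⟨x, hQ hx⟩, hP hx, rfl⟩, map_subtype_le _,
    P.isPGroup'.map _, ?_⟩
  rw [relIndex, subgroupOf, comap_map_eq_self_of_injective K.subtype_injective]
  exact P.not_dvd_index

theorem frattini {r : ℕ} [Fact r.Prime] {K P D : Subgroup G} [D.Normal] (hPK : P ≤ K)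
    (hP : IsPGroup r P) (hi : ¬ r ∣ P.relIndex K) (hD : ¬ r ∣ D.index) (hK : K ⊔ D = ⊤) :
    (K ⊓ normalizer (P : Set G)) ⊔ D = ⊤ := by
  have h := Sylow.normalizer_sup_eq_top' (N := D.subgroupOf K)
    ((hP.comap_subtype (K := K)).toSylow hi) fun x hx => le_of_not_dvd hP hD hx
  change normalizer ((P.subgroupOf K : Subgroup K) : Set K) ⊔ _ = ⊤ at h
  rw [← subgroupOf_normalizer_eq hPK] at h
  refine top_le_iff.1 (hK.ge.trans (sup_le (fun k hk => ?_) le_sup_right))
  have h1 : (⟨k, hk⟩ : K) ∈ (normalizer (P : Set G)).subgroupOf K ⊔ D.subgroupOf K := h ▸ mem_top _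
  have h2 := mem_map_of_mem K.subtype h1
  rw [Subgroup.map_sup, subgroupOf_map_subtype, subgroupOf_map_subtype] at h2
  exact (sup_le_sup (inf_comm _ _).le inf_le_left :
    normalizer (P : Set G) ⊓ K ⊔ D ⊓ K ≤ K ⊓ normalizer (P : Set G) ⊔ D) h2

theorem relIndex_of_cov {K D : Subgroup G} [D.Normal] (h : K ⊔ D = ⊤) : D.relIndex K = D.index := by
  rw [← relIndex_sup_right, h, relIndex_top_right]

variable {Ω : Type*} [MulAction G Ω] [Finite Ω]

/-- `D` is transitive and contains every element with two fixed points -/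
structure PC (Ω : Type*) [MulAction G Ω] (D : Subgroup G) : Prop where
  tr : IsPretransitive D Ω
  two : ∀ (g : G) (a b : Ω), g • a = a → g • b = b → a ≠ b → g ∈ D

variable {D : Subgroup G}

theorem PC.dvd (c : PC Ω D) (K : Subgroup G) {a : Ω} (ha : ∀ k ∈ K, k • a = a) {U : Set Ω}
    (haU : a ∈ U) (hU : ∀ k ∈ K, ∀ x ∈ U, k • x ∈ U) : D.relIndex K ∣ U.ncard - 1 := by
  have := index_dvd_ncard (D.subgroupOf K) (U \ {a})
    (fun k x hx => ⟨hU k k.2 x hx.1, fun e => hx.2 (smul_left_cancel (k : G)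
      ((show (k : G) • x = a from e).trans (ha k k.2).symm))⟩)
    fun x hx k e => c.two k x a e (ha k k.2) hx.2
  rwa [Set.ncard_diff_singleton_of_mem haU] at this

theorem PC.cov (c : PC Ω D) (a : Ω) : stabilizer G a ⊔ D = ⊤ := by
  refine top_le_iff.1 fun g _ => ?_
  obtain ⟨d, hd⟩ := c.tr.exists_smul_eq a (g • a)
  have : g = d * ((d : G)⁻¹ * g) := by group
  rw [this]
  refine mul_mem (mem_sup_right d.2) (mem_sup_left ?_)
  rw [mem_stabilizer_iff, mul_smul, inv_smul_eq_iff]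
  exact hd.symm

theorem PC.trG (c : PC Ω D) : IsPretransitive G Ω :=
  ⟨fun a b => (c.tr.exists_smul_eq a b).elim fun d hd => ⟨d, hd⟩⟩

theorem ncard_orbit (R : Subgroup G) (a : Ω) : (orbit R a).ncard = (stabilizer G a).relIndex R := by
  rw [← index_stabilizer]
  rfl

theorem PC.dvd_card [D.Normal] (c : PC Ω D) (a : Ω) : D.index ∣ Nat.card Ω - 1 := by
  have := c.dvd (stabilizer G a) (fun k hk => hk) (Set.mem_univ a) fun _ _ _ _ => Set.mem_univ _
  rwa [relIndex_of_cov (c.cov a), Set.ncard_univ] at this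

theorem PC.step1 [FaithfulSMul G Ω] [D.Normal] (c : PC Ω D) (hn : 2 ≤ Nat.card Ω) :
    (D.index + 1) ^ 2 ≤ Nat.card Ω ∨ ∃ r : ℕ, r.Prime ∧ ¬ r ∣ D.index ∧ ∃ R : Subgroup G,
      IsPGroup r R ∧ ¬ r ∣ R.index ∧ Nat.card R = Nat.card Ω ∧
        ∀ y ∈ R, ∀ ω : Ω, y • ω = ω → y = 1 := by
  have := c.trG
  obtain ⟨r, hr, hrn⟩ := Nat.exists_prime_and_dvd (show Nat.card Ω ≠ 1 by omega)
  have : Fact r.Prime := ⟨hr⟩
  obtain ⟨α⟩ : Nonempty Ω := (Nat.card_pos_iff.1 (by omega)).1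
  have hm := c.dvd_card α
  have hrm : ¬ r ∣ D.index := fun h => hr.one_lt.ne' (Nat.dvd_one.1 (by
    have := Nat.dvd_sub hrn (h.trans hm)
    rwa [Nat.sub_sub_self (by omega)] at this))
  obtain ⟨S, -, hSα, hS, hSi⟩ := exists_syl (stabilizer G α) bot_le (IsPGroup.of_bot (p := r))
  have cH := frattini hSα hS hSi hrm (c.cov α)
  let F : Set Ω := {ω | ∀ s ∈ S, s • ω = ω}
  have hF : ∀ k ∈ normalizer (S : Set G), ∀ x ∈ F, k • x ∈ F := fun k hk x hx s hs => by
    have := hx _ ((mem_normalizer_iff''.1 hk s).1 hs)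
    rwa [mul_smul, mul_smul, inv_smul_eq_iff] at this
  have αF : α ∈ F := fun s hs => hSα hs
  have mF : D.index ∣ F.ncard - 1 := by
    have := c.dvd (stabilizer G α ⊓ normalizer (S : Set G)) (fun k hk => hk.1) αF
      fun k hk => hF k hk.2
    rwa [relIndex_of_cov cH] at this
  have cN : normalizer (S : Set G) ⊔ D = ⊤ :=
    top_le_iff.1 (cH.ge.trans (sup_le_sup_right inf_le_right D))
  obtain ⟨R, hSR, hRN, hR, hRi⟩ := exists_syl (normalizer (S : Set G)) le_normalizer hS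
  have hidx : ∀ ω ∈ F, S.relIndex (stabilizer G ω) * Nat.card Ω = S.index := fun ω hω => by
    rw [← index_stabilizer_of_transitive G ω]
    exact relIndex_mul_index fun s hs => hω s hs
  have hst : ∀ ω ∈ F, R ⊓ stabilizer G ω = S := fun ω hω => by
    refine le_antisymm (relIndex_one (hR.to_le inf_le_left) (n := S.relIndex (stabilizer G α)) ?_ hSi)
      (le_inf hSR fun s hs => hω s hs)
    rw [← Nat.eq_of_mul_eq_mul_right (by omega) ((hidx ω hω).trans (hidx α αF).symm),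
      ← relIndex_mul_relIndex S (R ⊓ stabilizer G ω) (stabilizer G ω)
        (le_inf hSR fun s hs => hω s hs) inf_le_right]
    exact dvd_mul_right _ _
  have horb : ∀ ω ∈ F, (orbit R ω).ncard = S.relIndex R := fun ω hω => by
    rw [ncard_orbit, ← inf_relIndex_left, hst ω hω]
  obtain ⟨k, hk⟩ := exists_relIndex_pow hR S
  have h1 : 1 < S.relIndex R := by
    obtain ⟨j, hj⟩ := IsPGroup.iff_card.1 hS
    have h1 : S.relIndex (normalizer (S : Set G)) ≡ S.index [MOD r] :=
      Sylow.card_quotient_normalizer_modEq_card_quotient hj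
    have h2 : r ∣ S.relIndex (normalizer (S : Set G)) :=
      (h1.dvd_iff dvd_rfl).2 (hidx α αF ▸ hrn.mul_left _)
    rw [← relIndex_mul_relIndex S R _ hSR hRN] at h2
    exact lt_of_lt_of_le hr.one_lt (Nat.le_of_dvd (hk ▸ pow_pos hr.pos k)
      ((hr.dvd_mul.1 h2).resolve_right hRi))
  have h2 : S.relIndex R ∣ Nat.card Ω := by
    have := relIndex_dvd_index_of_le hSR
    rw [← hidx α αF, hk] at this
    rw [hk]
    exact (Nat.Coprime.pow_left k ((Nat.Prime.coprime_iff_not_dvd hr).2 hSi)).dvd_of_dvd_mul_left this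
  have h3 : D.index ∣ S.relIndex R - 1 := by
    refine (Nat.dvd_iff_prime_pow_dvd_dvd _ _).2 fun p a hp ha => ?_
    rcases a with _ | a
    · simp
    have : Fact p.Prime := ⟨hp⟩
    have cX := frattini hRN hR hRi hrm cN
    set X := normalizer (S : Set G) ⊓ normalizer (R : Set G)
    obtain ⟨P, -, hPX, hP, hPi⟩ := exists_syl X bot_le (IsPGroup.of_bot (p := p))
    let V : SubMulAction P Ω := ⟨F, fun k {x} hx => hF k (hPX k.2).1 x hx⟩
    obtain ⟨ω, hω⟩ := hP.nonempty_fixed_point_of_prime_not_dvd_card V (fun h => by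
      have h' : p ∣ F.ncard := by rwa [← Nat.card_coe_set_eq]
      have h0 : 0 < F.ncard := (Set.ncard_pos (Set.toFinite _)).2 ⟨α, αF⟩
      have := Nat.dvd_sub h' (((dvd_pow_self p a.succ_ne_zero).trans ha).trans mF)
      rw [Nat.sub_sub_self h0] at this
      exact hp.one_lt.ne' (Nat.dvd_one.1 this))
    have hfix : ∀ k ∈ P, k • (ω : Ω) = ω := fun k hk => congrArg Subtype.val (hω ⟨k, hk⟩)
    have h4 := c.dvd P hfix (mem_orbit_self (M := R) (ω : Ω)) fun k hk x hx => by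
      obtain ⟨y, rfl⟩ := hx
      refine ⟨⟨k * y * k⁻¹, (mem_normalizer_iff.1 (hPX hk).2 y).1 y.2⟩, ?_⟩
      change (k * y * k⁻¹) • (ω : Ω) = k • (y : G) • (ω : Ω)
      rw [mul_smul, mul_smul, hfix _ (inv_mem hk)]
    rw [horb ω ω.2] at h4
    refine dvd_trans ?_ h4
    have h5 : D.relIndex X ∣ D.relIndex P * P.relIndex X := by
      rw [← inf_relIndex_right D P, relIndex_mul_relIndex _ _ _ inf_le_right hPX]
      exact relIndex_dvd_of_le_left X inf_le_left
    rw [relIndex_of_cov cX] at h5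
    exact (Nat.Coprime.pow_left _ ((Nat.Prime.coprime_iff_not_dvd hp).2 hPi)).dvd_of_dvd_mul_right
      (ha.trans h5)
  rcases (Nat.le_of_dvd (by omega) h2).lt_or_eq with h | h
  · exact Or.inl (sq_le_of_dvd h1 h h2 h3 hm)
  have hu : orbit R α = Set.univ := by
    refine Set.eq_of_subset_of_ncard_le (Set.subset_univ _) ?_
    rw [horb α αF, h, Set.ncard_univ]
  have hF' : ∀ ω, ω ∈ F := fun ω => by
    obtain ⟨y, rfl⟩ : ω ∈ orbit R α := hu ▸ Set.mem_univ ω
    exact hF y (hRN y.2) α αF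
  have hb : S = ⊥ := eq_bot_iff.2 fun s hs => mem_bot.2
    (eq_of_smul_eq_smul (α := Ω) fun ω => by rw [hF' ω s hs, one_smul])
  subst hb
  refine Or.inr ⟨r, hr, hrm, R, hR, ?_, by rw [← h, relIndex_bot_left], fun y hy ω e => ?_⟩
  · rwa [normalizer_eq_top, relIndex_top_right] at hRi
  · exact mem_bot.1 ((hst ω (hF' ω)).le ⟨hy, e⟩)

theorem normal_cop_bot [FaithfulSMul G Ω] [IsPretransitive G Ω] {r k : ℕ} (hr : r.Prime)
    (hn : Nat.card Ω = r ^ k) (K : Subgroup G) [K.Normal] (hK : ¬ r ∣ Nat.card K) : K = ⊥ := by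
  refine eq_bot_iff.2 fun s hs => mem_bot.2 (eq_of_smul_eq_smul (α := Ω) fun ω => ?_)
  have h1 := (IsBlock.orbit_of_normal (G := G) (N := K) ω).ncard_dvd_card ⟨ω, mem_orbit_self ω⟩
  rw [ncard_orbit, hn] at h1
  have h2 : (stabilizer G ω).relIndex K = 1 := Nat.eq_one_of_dvd_coprimes
    (Nat.Coprime.pow_left k ((Nat.Prime.coprime_iff_not_dvd hr).2 hK)) h1 (relIndex_dvd_card _ _)
  rw [one_smul]
  exact relIndex_eq_one.1 h2 hs

theorem PC.rank [D.Normal] (c : PC Ω D) {T : Subgroup G} [Fintype T] (hT : T ≤ D) {α β : Ω}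
    (h : α ≠ β) :
    (D.index + 1) * Nat.card T ≤ ∑ x : T, Nat.card (fixedBy Ω x) ^ 2 := by
  have e : ∀ x : T, Nat.card (fixedBy Ω x) ^ 2 = Nat.card (fixedBy (Ω × Ω) x) := fun x => by
    rw [sq, ← Nat.card_prod]
    exact Nat.card_congr
      { toFun := fun u => ⟨(u.1, u.2), Prod.ext u.1.2 u.2.2⟩
        invFun := fun u => (⟨u.1.1, congrArg Prod.fst u.2⟩, ⟨u.1.2, congrArg Prod.snd u.2⟩)
        left_inv := fun _ => rfl
        right_inv := fun _ => rfl }
  simp only [e]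
  rw [H89.sum_card_fixedBy]
  refine Nat.mul_le_mul_right _ ?_
  have : Finite (orbitRel.Quotient T (Ω × Ω)) := Quotient.finite _
  rw [index, ← Finite.card_option]
  refine Nat.card_le_card_of_injective (fun o : Option (G ⧸ D) =>
    (Quotient.mk _ (o.elim (α, α) fun q => (q.out • α, q.out • β)) : orbitRel.Quotient T (Ω × Ω))) ?_
  intro o o' e
  obtain ⟨t, ht⟩ : o.elim (α, α) (fun q => (q.out • α, q.out • β)) ∈
    orbit T (o'.elim (α, α) fun q => (q.out • α, q.out • β)) := Quotient.exact e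
  have h1 := congrArg Prod.fst ht
  have h2 := congrArg Prod.snd ht
  rcases o with _ | q <;> rcases o' with _ | q'
  · rfl
  · exact absurd (smul_left_cancel _ (smul_left_cancel t (h1.trans h2.symm))) h
  · exact absurd (smul_left_cancel _ (h1.symm.trans h2)) h
  · have h3 : q.out⁻¹ * t * q'.out ∈ D := c.two _ α β
      (by rw [mul_smul, mul_smul, inv_smul_eq_iff]; exact h1)
      (by rw [mul_smul, mul_smul, inv_smul_eq_iff]; exact h2) h
    have h4 : q.out⁻¹ * q'.out ∈ D := by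
      have : q.out⁻¹ * q'.out = q.out⁻¹ * t * q'.out * (q'.out⁻¹ * (t : G)⁻¹ * q'.out) := by group
      rw [this]
      exact mul_mem h3 (Normal.conj_mem' inferInstance _ (inv_mem (hT t.2)) _)
    exact congrArg some (q.out_eq'.symm.trans ((QuotientGroup.eq.2 h4).trans q'.out_eq'))

end H70.Der
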