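/- S3550, part 5: the case of a regular Sylow subgroup, and the main theorem -/
import Cfsg.Agent.H70.DerP

set_option autoImplicit false
set_option linter.unusedSectionVars false

namespace H70.Der
open Subgroup MulAction

variable {G : Type*} [Group G] [Finite G] {Ω : Type*} [MulAction G Ω] [Finite Ω]
  [FaithfulSMul G Ω] {D R : Subgroup G}

theorem trans_of_reg (hc : Nat.card R = Nat.card Ω) (hreg : ∀ y ∈ R, ∀ ω : Ω, y • ω = ω → y = 1)
    (a b : Ω) : ∃ y ∈ R, y • a = b := by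
  have hu : orbit R a = Set.univ := by
    refine Set.eq_of_subset_of_ncard_le (Set.subset_univ _) ?_
    have : R ⊓ stabilizer G a = ⊥ := eq_bot_iff.2 fun y hy => mem_bot.2 (hreg y hy.1 a hy.2)
    rw [ncard_orbit, ← inf_relIndex_left, this, relIndex_bot_left, hc, Set.ncard_univ]
  obtain ⟨y, e⟩ : b ∈ orbit R a := hu ▸ Set.mem_univ b
  exact ⟨y, y.2, e⟩

/-- centralisers of the elements of the regular abelian Sylow subgroup -/
theorem cent_le {r : ℕ} [hr : Fact r.Prime] (hR : IsPGroup r R) (hi : ¬ r ∣ R.index)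
    (hc : Nat.card R = Nat.card Ω) (hreg : ∀ y ∈ R, ∀ ω : Ω, y • ω = ω → y = 1)
    (hab : ∀ a ∈ R, ∀ b ∈ R, a * b = b * a) (α : Ω)
    (hsr : ∀ h ∈ normalizer (R : Set G), h • α = α → ∀ y ∈ R, y ≠ 1 → h * y = y * h → h = 1) :
    ∀ y ∈ R, y ≠ 1 → ∀ x, x * y = y * x → x ∈ R := by
  intro y hy y1 x hx
  let C := centralizer ({y} : Set G)
  have mC : ∀ x, x ∈ C ↔ x * y = y * x := fun x => mem_centralizer_singleton_iff
  have hRC : R ≤ C := fun a ha => (mC a).2 (hab a ha y hy)
  let P : Sylow r C := (hR.comap_subtype (K := C)).toSylow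
    fun h => hi (h.trans (relIndex_dvd_index_of_le hRC))
  have hP : normalizer ((P : Subgroup C) : Set C) ≤ centralizer ((P : Subgroup C) : Set C) := by
    intro u hu
    change u ∈ normalizer ((R.subgroupOf C : Subgroup C) : Set C) at hu
    rw [← subgroupOf_normalizer_eq hRC] at hu
    obtain ⟨v, hv, e⟩ := trans_of_reg hc hreg α ((u : G) • α)
    have h1 := hsr (v⁻¹ * u) (mul_mem (inv_mem (le_normalizer hv)) hu)
      (by rw [mul_smul, inv_smul_eq_iff, e]) y hy y1 ((mC _).1 (mul_mem (inv_mem (hRC hv)) u.2))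
    have h2 : (u : G) ∈ R := inv_mul_eq_one.1 h1 ▸ hv
    exact fun w hw => Subtype.ext (hab w hw u h2)
  have : IsPretransitive C Ω := ⟨fun a b => by
    obtain ⟨v, hv, e⟩ := trans_of_reg hc hreg a b
    exact ⟨⟨v, hRC hv⟩, e⟩⟩
  obtain ⟨k, hk⟩ := IsPGroup.iff_card.1 hR
  have h1 := normal_cop_bot (Ω := Ω) hr.out (hc.symm.trans hk) _
    (MonoidHom.not_dvd_card_ker_transferSylow P hP)
  have h2 := MonoidHom.ker_transferSylow_isComplement' P hP
  rw [h1, isComplement'_bot_left] at h2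
  exact (h2.ge (mem_top (⟨x, (mC x).2 hx⟩ : C)) : (⟨x, (mC x).2 hx⟩ : C) ∈ R.subgroupOf C)

theorem PC.step4 [D.Normal] (c : PC Ω D) [IsPreprimitive G Ω] (hn : 2 ≤ Nat.card Ω)
    (hna : ∀ N : Subgroup G, N.Normal → IsMulCommutative N → N = ⊥) {r : ℕ} [hr : Fact r.Prime]
    (hrm : ¬ r ∣ D.index) (hR : IsPGroup r R) (hi : ¬ r ∣ R.index)
    (hc : Nat.card R = Nat.card Ω) (hreg : ∀ y ∈ R, ∀ ω : Ω, y • ω = ω → y = 1)
    (hab : ∀ a ∈ R, ∀ b ∈ R, a * b = b * a) (hC : ∀ y ∈ R, y ≠ 1 → ∀ x, x * y = y * x → x ∈ R) :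
    (D.index + 1) ^ 2 ≤ Nat.card Ω := by
  classical
  have hR1 : R ≠ ⊥ := (one_lt_card_iff_ne_bot R).1 (by omega)
  have hG := R.card_mul_index
  by_cases hm : D.index = 1
  · rw [hm]
    by_contra h
    have h1 := card_dvd_of_injective (toPermHom G Ω) toPerm_injective
    rw [Nat.card_perm, ← hG, hc] at h1
    have h2 : R.index ∣ 2 := by
      have : Nat.card Ω = 2 ∨ Nat.card Ω = 3 := by omega
      rcases this with e | e <;> rw [e] at h1
      · exact (dvd_mul_left _ _).trans h1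
      · exact Nat.dvd_of_mul_dvd_mul_left (by omega : 0 < 3) h1
    have h3 : R.Normal := by
      rcases (Nat.dvd_prime Nat.prime_two).1 h2 with e | e
      · rw [index_eq_one.1 e]; infer_instance
      · exact normal_of_index_eq_two e
    exact hR1 (hna R h3 ⟨⟨fun a b => Subtype.ext (hab a a.2 b b.2)⟩⟩)
  have hm2 : 2 ≤ D.index := by have := D.index_ne_zero_of_finite; omega
  let T := normalClosure (R : Set G)
  have hRT : R ≤ T := le_normalClosure
  have hTD : T ≤ D := normalClosure_le_normal (le_of_not_dvd hR hrm)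
  have := Fintype.ofFinite T
  have : IsPretransitive T Ω := ⟨fun a b => by
    obtain ⟨v, hv, e⟩ := trans_of_reg hc hreg a b
    exact ⟨⟨v, hRT hv⟩, e⟩⟩
  have : Nontrivial Ω := Finite.one_lt_card_iff_nontrivial.1 hn
  obtain ⟨α, β, hαβ⟩ := exists_pair_ne Ω
  have := Fintype.ofFinite (R.subgroupOf T)
  refine char_main (R := R.subgroupOf T) α
    (fun a b => Subtype.ext (Subtype.ext (hab _ a.2 _ b.2)))
    (fun y hy y1 x e => hC y hy (fun h => y1 (Subtype.ext h)) x (congrArg Subtype.val e))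
    (fun y hy y1 ω e => y1 (Subtype.ext (hreg y hy ω e)))
    ((Nat.card_congr (subgroupOfEquivOfLe hRT).toEquiv).trans hc) (fun K hK h => ?_) ?_ hm2
    (c.rank hTD hαβ)
  · have hKi : ¬ r ∣ K.index := fun h' =>
      hi ((h'.trans (index_dvd_of_le h)).trans (relIndex_dvd_index_of_le hRT))
    have h1 : T ≤ K.map T.subtype := (closure_le _).2 fun x hx => by
      have hxT : x ∈ T := subset_closure hx
      obtain ⟨y, hy, e⟩ := Group.mem_conjugatesOfSet_iff.1 hx
      obtain ⟨g, rfl⟩ := isConj_iff.1 e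
      obtain ⟨k, hk⟩ := hR ⟨y, hy⟩
      have hk' : y ^ r ^ k = 1 := congrArg Subtype.val hk
      have h2 : IsPGroup r (zpowers (⟨g * y * g⁻¹, hxT⟩ : T)) :=
        H28.isPGroup_zpowers_of_pow (k := k) (Subtype.ext (by
          change (g * y * g⁻¹) ^ _ = 1
          rw [conj_pow, hk']; simp))
      exact ⟨_, le_of_not_dvd h2 hKi (mem_zpowers _), rfl⟩
    refine top_le_iff.1 fun x _ => ?_
    obtain ⟨u, hu, e⟩ := h1 x.2
    exact (Subtype.ext e : u = x) ▸ hu
  · have h1 : ⁅T, T⁆ ≠ ⊥ := fun e => hR1 (le_bot_iff.1 (hRT.trans (hna T inferInstance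
      ⟨⟨fun a b => Subtype.ext ((commutator_eq_bot_iff_le_centralizer.1 e b.2 a a.2))⟩⟩).le))
    have h2 : IsPretransitive ↥(⁅T, T⁆) Ω :=
      IsQuasiPreprimitive.isPretransitive_of_normal fun e => h1 (eq_bot_iff.2 fun x hx =>
        mem_bot.2 (eq_of_smul_eq_smul (α := Ω) fun ω => by
          rw [one_smul]
          exact (e.ge (Set.mem_univ ω) : ω ∈ fixedPoints _ Ω) ⟨x, hx⟩))
    have h3 : Nat.card Ω ∣ Nat.card ↥(⁅T, T⁆) := by
      rw [← index_stabilizer_of_transitive ↥(⁅T, T⁆) α]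
      exact Subgroup.index_dvd_card _
    have h4 : ¬ r ∣ (⁅T, T⁆).index := fun h => hi (h.trans (by
      obtain ⟨k, hk⟩ := h3
      have h5 := (⁅T, T⁆).card_mul_index
      rw [hk, ← hG, hc, mul_assoc] at h5
      exact Dvd.intro_left k (Nat.eq_of_mul_eq_mul_left (by omega) h5)))
    intro y hy
    have h5 := le_of_not_dvd hR h4 hy
    rw [← map_subtype_commutator] at h5
    obtain ⟨u, hu, e⟩ := h5
    exact (Subtype.ext e : u = y) ▸ hu

theorem PC.main [D.Normal] (c : PC Ω D) [IsPreprimitive G Ω] (hn : 2 ≤ Nat.card Ω)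
    (hna : ∀ N : Subgroup G, N.Normal → IsMulCommutative N → N = ⊥) :
    (D.index + 1) ^ 2 ≤ Nat.card Ω := by
  refine (c.step1 hn).elim id ?_
  rintro ⟨r, hr, hrm, R, hR, hi, hc, hreg⟩
  have : Fact r.Prime := ⟨hr⟩
  obtain ⟨α⟩ : Nonempty Ω := (Nat.card_pos_iff.1 (by omega)).1
  have hRD : R ≤ D := le_of_not_dvd hR hrm
  have cX := frattini (K := ⊤) le_top hR (by rwa [relIndex_top_right]) hrm (top_sup_eq D)
  rw [top_inf_eq] at cX
  let H := normalizer (R : Set G) ⊓ stabilizer G α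
  have cH : H ⊔ D = ⊤ := by
    refine top_le_iff.1 (cX.ge.trans (sup_le (fun x hx => ?_) le_sup_right))
    obtain ⟨v, hv, e⟩ := trans_of_reg hc hreg α (x • α)
    have : x = v * (v⁻¹ * x) := by group
    rw [this]
    refine mul_mem (mem_sup_right (hRD hv))
      (mem_sup_left (mem_inf.2 ⟨mul_mem (inv_mem (le_normalizer hv)) hx, ?_⟩))
    change _ • _ = _
    rw [mul_smul, inv_smul_eq_iff, e]
  have hm : (D.subgroupOf H).index = D.index := relIndex_of_cov cH
  letI act : MulDistribMulAction H R :=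
    MulDistribMulAction.compHom R (inclusion (inf_le_left : H ≤ normalizer (R : Set G)))
  have hs : ∀ (h : H) (y : R), ((h • y : R) : G) = h * y * (h : G)⁻¹ := fun _ _ => rfl
  have hfix : ∀ (h : H) (y : R), h • y = y → (h : G) • (y : G) • α = (y : G) • α := fun h y e => by
    have h1 : (h : G) * y = y * h := mul_inv_eq_iff_eq_mul.1 ((hs h y).symm.trans
      (congrArg Subtype.val e))
    have h2 : (h : G) • α = α := h.2.2
    rw [← mul_smul, h1, mul_smul, h2]
  have hout : ∀ (h : H) (y : R), h • y = y → y ≠ 1 → h ∈ D.subgroupOf H := fun h y e y1 =>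
    c.two h _ α (hfix h y e) h.2.2 fun e' => y1 (Subtype.ext (hreg y y.2 α e'))
  have : Nontrivial R := Finite.one_lt_card_iff_nontrivial.1 (by omega)
  by_cases hz : center R = ⊤
  swap
  · have h1 := index_dvd_ncard (D.subgroupOf H) ((center R : Set R) \ {1})
      (fun h y hy => ⟨mem_center_iff.2 fun x => by
        rw [← smul_inv_smul h x, ← smul_mul', mem_center_iff.1 hy.1, smul_mul'],
        fun e => hy.2 (by rw [← inv_smul_smul h y, show h • y = 1 from e, smul_one]; rfl)⟩)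
      fun y hy h e => hout h y e hy.2
    rw [Set.ncard_diff_singleton_of_mem (one_mem _), ← Nat.card_coe_set_eq, hm] at h1
    refine sq_le_of_dvd (a := Nat.card (center R)) ?_ ?_ (hc ▸ card_subgroup_dvd_card _) h1
      (c.dvd_card α)
    · exact Finite.one_lt_card_iff_nontrivial.2 hR.center_nontrivial
    · rw [← hc]
      exact lt_of_le_of_ne (card_le_card_group _) fun e => hz (eq_top_of_card_eq _ e)
  have hab : ∀ a b : R, a * b = b * a := fun a b => mem_center_iff.1 (hz.ge (mem_top b)) a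
  have hab' : ∀ a ∈ R, ∀ b ∈ R, a * b = b * a := fun a ha b hb =>
    congrArg Subtype.val (hab ⟨a, ha⟩ ⟨b, hb⟩)
  by_cases hsr : ∀ h ∈ normalizer (R : Set G), h • α = α → ∀ y ∈ R, y ≠ 1 → h * y = y * h → h = 1
  · exact c.step4 hn hna hrm hR hi hc hreg hab' (cent_le hR hi hc hreg hab' α hsr)
  push Not at hsr
  obtain ⟨h, hh, hα, y, hy, y1, e, h1⟩ := hsr
  letI : CommGroup R := { (inferInstance : Group R) with mul_comm := hab }
  have c' : Ctx R (D.subgroupOf H) := ⟨fun h hh => Subtype.ext (eq_of_smul_eq_smul (α := Ω)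
    fun ω => by
      obtain ⟨v, hv, rfl⟩ := trans_of_reg hc hreg α ω
      rw [hfix h ⟨v, hv⟩ (hh _)]
      exact (one_smul G _).symm), hout⟩
  rw [← hm, ← hc]
  refine c'.main ?_ (g := ⟨h, hh, hα⟩) (fun e => h1 (congrArg Subtype.val e)) (y := ⟨y, hy⟩)
    (fun e => y1 (congrArg Subtype.val e)) (Subtype.ext (mul_inv_eq_iff_eq_mul.2 e))
  obtain ⟨k, hk⟩ := IsPGroup.iff_card.1 hR
  rw [hk]
  refine Nat.Coprime.pow_right k ((Nat.Prime.coprime_iff_not_dvd hr).2 fun h => hi ?_).symm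
  have := c.trG
  have h2 := (stabilizer G α).card_mul_index
  rw [index_stabilizer_of_transitive, ← R.card_mul_index, hc, mul_comm] at h2
  rw [← Nat.eq_of_mul_eq_mul_left (by omega) h2]
  exact h.trans (card_dvd_of_le inf_le_right)

end H70.Der
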