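import Cfsg.Agent.H70.RRG
import Cfsg.Agent.H52.ReeW
import Cfsg.Agent.H29.Burnside
import Cfsg.Agent.H9.ZModProd

/-! Row S3530: assembly. -/

set_option autoImplicit false

namespace H70.RR

open Cfsg Subgroup H24 H70.Sq H10.W H14 H98

universe u

structure Jobs : Prop where
  kB : KitB.{u}
  n : JobN
  n2 : JobN2
  l2 : JobL2.{u}
  ns : JobNS.{u}
  red : JobRed.{u}
  kill : JobKill.{u}
  k1r : JobK1R.{u}
  k1l : JobK1L.{u}
  mono : JobMono.{u}
  k2l : JobK2L.{u}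
  k2r : JobK2R.{u}
  out : JobOut.{u}
  fin : JobFin.{u}

variable {m : ℕ}

theorem Num.no5 (h : Num m) : ¬ Om m 5 := fun k => by
  rcases h.prime 5 (by norm_num) k with e | ⟨i, hi⟩
  · omega
  · rcases eq_or_ne i 0 with rfl | e
    · have := (h.zero 5).1 hi; omega
    · have := h.big i 5 e hi; omega

theorem Num.c3 (h : Num m) : Cl m 0 3 := (h.zero 3).2 rfl

theorem types (J : Jobs.{u}) (h : Num m) {T : Type u} [Group T] [Finite T] [IsSimpleGroup T]
    (hn : ¬ IsMulCommutative T) (hs : Sub m T) :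
    (∃ l n d ν, L2D T l n d ν) ∨ ∃ n, 1 ≤ n ∧ IsRee n T := by
  rcases H52.RB.walter' T hn (h.ab2 hs) with k | k | k | ⟨K, _, _, n, h1, h2, h3⟩
  · exact .inl (J.l2 T (.inl k))
  · exact .inl (J.l2 T (.inr k))
  · exact absurd (hs.om ((ord_J1 k 5).2 (by decide))) h.no5
  · exact .inr ⟨n, h1, K, _, _, h2, h3⟩

theorem L2D.three {T : Type*} [Group T] {l n d ν : ℕ} (h : L2D T l n d ν) : 3 ∣ Nat.card T := by
  rw [h.card]
  generalize hq : l ^ n = q
  have := h.par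
  rw [hq] at this
  have k : q % 3 = 0 ∨ (q + 1) % 3 = 0 ∨ d % 3 = 0 := by
    obtain ⟨e, rfl | rfl | rfl⟩ : ∃ e, d = 3 * e ∨ d = 3 * e + 1 ∨ d = 3 * e + 2 := ⟨d / 3, by omega⟩ <;>
      rcases this with ⟨-, -, k, -⟩ | ⟨-, -, -, k, -⟩ <;> omega
  rcases k with k | k | k
  exacts [((Nat.dvd_of_mod_eq_zero k).mul_right _).mul_left _, (Nat.dvd_of_mod_eq_zero k).mul_right _,
    ((Nat.dvd_of_mod_eq_zero k).mul_left _).mul_left _]

theorem basic (J : Jobs.{u}) (h : Num m) {T : Type u} [Group T] [Finite T] [IsSimpleGroup T]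
    (hn : ¬ IsMulCommutative T) (hs : Sub m T) :
    Ord T 3 ∧ ∃ k c, k ≠ 0 ∧ Cl m k c ∧ Ord T c := by
  refine ⟨ord_of_prime Nat.prime_three ?_, by_contra fun hc => hn ?_⟩
  · rcases types J h hn hs with ⟨l, n, d, ν, k⟩ | ⟨n, h1, k⟩
    · exact k.three
    · rw [(jobRG n h1 T k).card, reeOrd, ← pow_mul]
      exact ((dvd_pow_self 3 (by omega)).mul_right _).mul_right _
  · have h0 := (Nat.card_pos (α := T)).ne'
    have : Group.IsSolvable T := H29.isSolvable_of_card_dvd_pow_mul_pow Nat.prime_two Nat.prime_three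
      (a := Nat.card T) (b := Nat.card T) ((Nat.dvd_iff_prime_pow_dvd_dvd _ _).2 fun p k hp hd => by
        rcases k.eq_zero_or_pos with rfl | hk
        · simp
        have hk' : k ≤ Nat.card T := (Nat.lt_pow_self hp.one_lt).le.trans
          (Nat.le_of_dvd (Nat.pos_of_ne_zero h0) hd)
        have o := ord_of_prime hp ((dvd_pow_self p hk.ne').trans hd)
        rcases h.prime p hp (hs.om o) with rfl | ⟨i, hi⟩
        · exact (pow_dvd_pow 2 hk').mul_right _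
        · rcases eq_or_ne i 0 with rfl | e
          · rw [(h.zero p).1 hi]; exact (pow_dvd_pow 3 hk').mul_left _
          · exact absurd ⟨i, p, e, hi, o⟩ hc)
    exact ⟨⟨IsSimpleGroup.comm_iff_isSolvable.2 this⟩⟩

theorem choice (h : Num m) (h2 : Num2 m) {n : ℕ} (hn : n < m) (hd : 2 * n + 1 ∣ 2 * m + 1) :
    ∃ (i₀ : Fin 5) (p : Fin 5 → ℕ), i₀ ≠ 0 ∧ p i₀ = 7 ∧ (∀ i, Cl m i (p i)) ∧
      ∀ i, i ≠ 0 → i ≠ i₀ → ¬ p i ∣ reeOrd n := by
  obtain ⟨i₀, h0, -, h7⟩ := h.seven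
  have : ∀ i, ∃ s, Cl m i s ∧ (i = i₀ → s = 7) ∧ (i ≠ 0 → i ≠ i₀ → ¬ s ∣ reeOrd n) := fun i => by
    by_cases e : i = i₀
    · exact ⟨7, e ▸ h7, fun _ => rfl, fun _ k => absurd e k⟩
    by_cases e0 : i = 0
    · exact ⟨3, e0 ▸ h.c3, fun k => absurd k e, fun k => absurd e0 k⟩
    obtain ⟨s, h1, h3⟩ := h2.small n hn hd i e0 fun k => e (h.uniq _ _ _ k h7)
    exact ⟨s, h1, fun k => absurd k e, fun _ _ => h3⟩
  choose p h1 h3 h4 using this
  exact ⟨i₀, p, h0, h3 _ rfl, h1, h4⟩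

theorem ree_small (h2 : Num2 m) {T : Type*} [Group T] {n : ℕ} (k : RG n T) (hs : Sub m T)
    (hn : n ≠ m) : n < m ∧ 2 * n + 1 ∣ 2 * m + 1 := by
  have := h2.div _ (odd_two_mul_add_one n) ((hs.om (k.full 2)).of_dvd (dvd_mul_left _ 2))
  have := Nat.le_of_dvd (by omega) this
  exact ⟨by omega, by assumption⟩

theorem RG.ord {T : Type*} [Group T] [Finite T] (k : RG m T) {i : Fin 5} {a : ℕ} (ha : Cl m i a) :
    Ord T a := by
  fin_cases i
  exacts [(k.full 1).of_dvd ha.2, (k.full 2).of_dvd (ha.2.mul_left 2),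
    (k.full 3).of_dvd (ha.2.mul_left 2), (k.full 4).of_dvd ha.2, (k.full 5).of_dvd ha.2]

theorem ord_dvd {T : Type*} [Group T] {a : ℕ} (h : Ord T a) : a ∣ Nat.card T :=
  h.elim fun x e => e ▸ orderOf_dvd_natCard x

theorem RG.two (h : Num m) {T : Type*} [Group T] [Finite T] (k : RG m T) : TwoCol m T := by
  obtain ⟨a, ha⟩ := h.ex 1
  obtain ⟨b, hb⟩ := h.ex 2
  exact ⟨1, 2, a, b, by decide, by decide, by decide, ha, hb, ord_dvd (k.ord ha), ord_dvd (k.ord hb)⟩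

/-- A colour avoiding a given one. -/
theorem TwoCol.avoid {T : Type*} [Group T] [Finite T] (h : TwoCol m T) (k : Fin 5) :
    ∃ i a, i ≠ 0 ∧ i ≠ k ∧ Cl m i a ∧ Ord T a := by
  obtain ⟨i, j, a, b, h1, h2, h3, h4, h5, h6, h7⟩ := h
  by_cases e : i = k
  · exact ⟨j, b, h3, e ▸ h1.symm, h5, ord_of_prime h5.1 h7⟩
  · exact ⟨i, a, h2, e, h4, ord_of_prime h4.1 h6⟩

theorem Two.symm {H : Type*} [Group H] {T T' : Subgroup H} (h : Two T T') : Two T' T :=
  ⟨h.r, h.l, commutator_eq_bot_symm h.comm, by rw [inf_comm, h.cent], by rw [sup_comm]; exact h.odd⟩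

theorem Two.ord {H : Type*} [Group H] {T T' : Subgroup H} (h : Two T T') {a b : ℕ} (ha : Ord T a)
    (hb : Ord T' b) (k : a.Coprime b) : Ord ↥(T ⊔ T') (a * b) := by
  obtain ⟨x, rfl⟩ := ha
  obtain ⟨y, rfl⟩ := hb
  rw [← orderOf_coe x, ← orderOf_coe y] at k ⊢
  rw [← (show Commute (x : H) y from commutator_eq_bot_iff_comm.1 h.comm _ x.2 _
    y.2).orderOf_mul_eq_mul_orderOf_of_coprime k]
  exact ord_mem (mul_mem_sup x.2 y.2)

variable {G H : Type u} [Group G] [Finite G] [Group H] [Finite H] {ψ : G →* H}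

omit [Finite G] [Finite H] in
theorem Amb.subH (A : Amb m ψ) : Sub m H := A.sub.of_surjective A.sj

omit [Finite H] in
theorem ord_of_cover {K : Subgroup G} {T : Subgroup H} (h : T ≤ K.map ψ) {n : ℕ} (hn : Ord T n) :
    Ord K n := by
  obtain ⟨x, rfl⟩ := hn
  obtain ⟨g, hg, e⟩ := h x.2
  exact (ord_mem hg).of_dvd (by rw [← orderOf_coe x, ← e]; exact orderOf_map_dvd ψ g)

theorem one_false (J : Jobs.{u}) (A : Amb m ψ) (F : Full m G) (hs : SS H) {T : Subgroup H}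
    (h : One T) (hc : ∀ L : Subgroup H, IsComponent L → L = T) : False := by
  have := h.simple
  rcases types J A.num h.nab (A.subH.sub T) with ⟨l, n, d, ν, k⟩ | ⟨n, h1, k⟩
  · exact J.k1l m G H ψ A F T l n d ν h k
  have g := jobRG n h1 T k
  by_cases e : n = m
  · exact J.k1r m G H ψ A F T h (e ▸ g)
  obtain ⟨h2, h3⟩ := ree_small A.num2 g (A.subH.sub T) e
  obtain ⟨i₀, p, -, -, h4, h5⟩ := choice A.num A.num2 h2 h3
  obtain ⟨L, hL, i, j, h6, h7, h8, h9, h10⟩ := J.red m G H ψ A F hs i₀ p fun i _ => h4 i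
  rw [hc L hL, g.card] at h9 h10
  by_cases e : i = 0
  exacts [h5 j (e ▸ h8.symm) h7 h10, h5 i e h6 h9]

theorem two_nc (J : Jobs.{u}) (A : Amb m ψ) {T T' : Subgroup H} (h : Two T T') (ht : TwoCol m T) :
    NC ψ := fun r hr h2 hd => by_contra fun hn => by
  obtain ⟨x, hx⟩ := ord_of_prime hr hd
  rw [← orderOf_coe] at hx
  have := h.r.simple
  have := h.l.nT
  have := h.r.nT
  obtain ⟨h3, k, c, h4, h5, h6⟩ := basic J A.num h.r.nab (A.subH.sub T')
  have hc := J.kB.p1 (ψ := ψ) (K := ⊤) (T := T ⊔ T') (le_antisymm (commutator_le_left _ _) (sup_le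
    (h.l.perf.ge.trans (commutator_mono le_sup_left le_sup_left))
    (h.r.perf.ge.trans (commutator_mono le_sup_right le_sup_right))))
    (le_top.trans (map_top_of_surjective ψ A.sj).ge) hr h2 (by rwa [top_inf_eq])
    ⟨mem_top _, x.2⟩ hx
  rw [top_inf_eq] at hc
  obtain ⟨ρ, hρ⟩ := (A.num.prime r hr (A.sub.om ⟨x, hx⟩)).resolve_left h2
  by_cases e : ρ = 0
  · obtain ⟨i, a, h7, h8, h9, h10⟩ := ht.avoid k
    exact A.num.tri A.sub (e ▸ h7.symm) (e ▸ h4.symm) h8 hρ h9 h5 hx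
      (ord_of_cover hc (h.ord h10 h6 (A.num.cop h8 h9 h5)))
  · obtain ⟨i, a, h7, h8, h9, h10⟩ := ht.avoid ρ
    exact A.num.tri A.sub h8.symm e h7 hρ h9 A.num.c3 hx
      (ord_of_cover hc (h.ord h10 h3 (A.num.cop h7 h9 A.num.c3)))

theorem two_mono (J : Jobs.{u}) (A : Amb m ψ) {T T' : Subgroup H} (h : Two T T') (ht : TwoCol m T) :
    Mono m T' := fun i j a b hij ha hb hab => by
  have := h.l.simple
  obtain ⟨k, c, h1, h2, h3, h4⟩ : ∃ k c, k ≠ i ∧ k ≠ j ∧ Cl m k c ∧ Ord T c := by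
    by_cases e : i = 0
    · obtain ⟨k, c, h1, h2, h3⟩ := ht.avoid j
      exact ⟨k, c, e ▸ h1, h2, h3⟩
    by_cases e' : j = 0
    · obtain ⟨k, c, h1, h2, h3⟩ := ht.avoid i
      exact ⟨k, c, h2, e' ▸ h1, h3⟩
    exact ⟨0, 3, Ne.symm e, Ne.symm e', A.num.c3, (basic J A.num h.l.nab (A.subH.sub T)).1⟩
  have := ord_top (h.ord h4 hab ((A.num.cop h1 h3 ha).mul_right (A.num.cop h2 h3 hb)))
  rw [← mul_assoc] at this
  exact A.num.three k i j c a b h1 h2 hij h3 ha hb (A.subH.om this)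

theorem kill_type (J : Jobs.{u}) (hm : 1 ≤ m) (A : Amb m ψ) (F : Full m G) (hc : NC ψ)
    {T : Subgroup H} (h : NS T) (hM : Mono m T) : TwoCol m T ∧ (IsRee m T ∨
      ∃ l n d ν, L2D T l n d ν ∧ l ≠ 2 ∧ (TyAB m T ν ∨ Ty37 m T l n)) := by
  have := h.simple
  have sm : ∀ n < m, 2 * n + 1 ∣ 2 * m + 1 → NSd T 7 → ¬ Nat.card T ∣ reeOrd n := fun n h2 h3 h7 hd => by
    obtain ⟨i₀, p, h0, h1, h4, h5⟩ := choice A.num A.num2 h2 h3
    obtain ⟨i, h6, h8, h9⟩ := J.kill m G H ψ A F hc T 7 0 i₀ p h h7 (fun i _ => h4 i) h0 h1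
    exact h5 i h6 h8 ((h9.resolve_left h6).trans hd)
  rcases types J A.num h.nab (A.subH.sub T) with ⟨l, n, d, ν, k⟩ | ⟨n, h1, k⟩
  · obtain ⟨h2, h3⟩ := J.mono m A.num A.num2 T l n d ν k (A.subH.sub T) hM
    have hl : l ≠ 2 := fun e => sm 0 hm (by simp) (k.ns7 (h2 e)) (by
      have h4 := k.par
      rw [h2 e] at h4
      rw [k.card, h2 e, show d = 7 by omega]
      decide)
    have ht : TwoCol m T := by
      obtain ⟨-, κ, c, h4, h5, h6⟩ := basic J A.num h.nab (A.subH.sub T)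
      choose p hp using A.num.ex
      obtain ⟨i, h7, h8, h9⟩ := J.kill m G H ψ A F hc T 3 κ 0 p h (k.ns3 hl) (fun i _ => hp i) h4.symm
        ((A.num.zero _).1 (hp 0))
      exact ⟨i, κ, p i, c, h7, h8, h4, hp i, h5, h9.resolve_left h8, ord_dvd h6⟩
    exact ⟨ht, .inr ⟨l, n, d, ν, k, hl, h3 hl ht⟩⟩
  · have g := jobRG n h1 T k
    by_cases e : n = m
    · exact ⟨(e ▸ g).two A.num, .inl (e ▸ k)⟩
    obtain ⟨h2, h3⟩ := ree_small A.num2 g (A.subH.sub T) e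
    exact absurd g.card.dvd (sm n h2 h3 g.ns7)

theorem mixed_false (J : Jobs.{u}) (A : Amb m ψ) (F : Full m G) {T T' : Subgroup H} (h : Two T T')
    (g : RG m T') (ht : TwoCol m T) {l n d ν : ℕ} (k : L2D T l n d ν) (hl : l ≠ 2)
    (hy : TyAB m T ν ∨ Ty37 m T l n) : False := by
  have h23 := J.k2r m G H ψ A T T' h g (.inr (k.ns3 hl)) ht
  obtain ⟨i, j, a, b, hij, hi, hj, ha, hb, h1, h2⟩ : ∃ (i j : Fin 5) (a b : ℕ), i ≠ j ∧ i ≠ 0 ∧ j ≠ 0 ∧
      Cl m i a ∧ Cl m j b ∧ ¬ a ∣ Nat.card T ∧ ¬ b ∣ Nat.card T := by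
    choose p hp using A.num.ex
    rcases hy with hy | hy
    · exact ⟨3, 4, _, _, by decide, by decide, by decide, hp 3, hp 4, hy.2 _ (.inl (hp 3)),
        hy.2 _ (.inr (hp 4))⟩
    · exact ⟨1, 2, _, _, by decide, by decide, by decide, hp 1, hp 2, hy.2.2 _ (.inl (hp 1)),
        hy.2.2 _ (.inr (hp 2))⟩
  obtain ⟨y, hy⟩ := F i j a b hij ha hb
  have a7 := A.num.big i a hi ha
  have b7 := A.num.big j b hj hb
  have e : orderOf (ψ y) = a * b := by
    refine Nat.dvd_antisymm (hy ▸ orderOf_map_dvd ψ y) ?_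
    have h3 := orderOf_dvd_natCard (⟨y ^ orderOf (ψ y), by
      rw [MonoidHom.mem_ker, map_pow, pow_orderOf_eq_one]⟩ : ψ.ker)
    rw [← orderOf_coe] at h3
    have h4 : orderOf (y ^ orderOf (ψ y)) = 1 := by
      refine Nat.eq_one_iff_not_exists_prime_dvd.2 fun s hs hd => ?_
      have h5 := h23 s hs (hd.trans h3)
      rcases (Nat.Prime.dvd_mul hs).1 (hy ▸ hd.trans (orderOf_pow_dvd _)) with h6 | h6
      · have := (Nat.prime_dvd_prime_iff_eq hs ha.1).1 h6; omega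
      · have := (Nat.prime_dvd_prime_iff_eq hs hb.1).1 h6; omega
    exact hy ▸ orderOf_dvd_of_pow_eq_one (orderOf_eq_one_iff.1 h4)
  obtain ⟨x, -, h3, h4⟩ := J.ns H T (zpowers (ψ y)) 3 h.l.nT (k.ns3 hl) inferInstance (by
    rw [Nat.card_zpowers, e]
    exact Nat.Coprime.mul_left (ha.1.coprime_iff_not_dvd.2 h1) (hb.1.coprime_iff_not_dvd.2 h2))
    fun s hs hd => by
      rw [Nat.card_zpowers, e] at hd
      rcases (Nat.Prime.dvd_mul hs).1 hd with h6 | h6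
      · rwa [(Nat.prime_dvd_prime_iff_eq hs ha.1).1 h6]
      · rwa [(Nat.prime_dvd_prime_iff_eq hs hb.1).1 h6]
  exact A.num.tri A.subH hi.symm hj.symm hij A.num.c3 ha hb h3 (e ▸ ord_mem
    (mem_centralizer_singleton_iff.2 (h4 _ (mem_zpowers _))))

theorem two_ree (J : Jobs.{u}) (hm : 1 ≤ m) (A : Amb m ψ) (F : Full m G) {T T' : Subgroup H}
    (h : Two T T') (ht : TwoCol m T) : IsRee m T ∧ IsRee m T' := by
  have hc := two_nc J A h ht
  obtain ⟨ht', k'⟩ := kill_type J hm A F hc h.r (two_mono J A h ht)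
  obtain ⟨-, k⟩ := kill_type J hm A F hc h.l (two_mono J A h.symm ht')
  rcases k with k | ⟨l, n, d, ν, k, hl, hy⟩ <;> rcases k' with k' | ⟨l', n', d', ν', k', hl', hy'⟩
  · exact ⟨k, k'⟩
  · exact (mixed_false J A F h.symm (jobRG m hm _ k) ht' k' hl' hy').elim
  · exact (mixed_false J A F h (jobRG m hm _ k') ht k hl hy).elim
  · exact (J.k2l m G H ψ A F hc T T' _ _ _ _ _ _ _ _ h k k' hl hl' hy hy').elim

theorem exists_two (J : Jobs.{u}) (A : Amb m ψ) (F : Full m G) (hs : SS H) :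
    ∃ T T' : Subgroup H, Two T T' ∧ TwoCol m T := by
  choose p hp using A.num.ex
  obtain ⟨T, hT, i, j, h1, h2, h3, h4, h5⟩ := J.red m G H ψ A F hs 0 p fun i _ => hp i
  have ht : TwoCol m T := ⟨i, j, _, _, h3, h1, h2, hp i, hp j, h4, h5⟩
  have bs := fun (L : Subgroup H) (hL : IsComponent L) =>
    have := (hs.simple hL).1
    basic J A.num (hs.simple hL).2 (A.subH.sub L)
  have h3 : ∀ L L' : Subgroup H, IsComponent L → IsComponent L' → L ≠ T → L' ≠ T → L = L' :=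
    fun L L' hL hL' e e' => by_contra fun e'' => by
      obtain ⟨-, k, c, h6, h7, h8⟩ := bs L' hL'
      obtain ⟨i, a, h9, h10, h11, h12⟩ := ht.avoid k
      exact A.num.three i 0 k a 3 c h9 h10 h6.symm h11 A.num.c3 h7 (A.subH.om (ord_of_comp3 hT hL hL'
        e.symm e'.symm e'' h12 (bs L hL).1 h8 (A.num.cop h9 h11 A.num.c3) (A.num.cop h10 h11 h7)
        (A.num.cop h6.symm A.num.c3 h7)))
  have h2 : Exp H 2 1 := exp_of_not_ord Nat.prime_two fun k => A.num.no4 (A.subH.om k)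
  have nT : NS T := ⟨hs.normal_of_two hT (fun g g' => h3 _ _ (comp_cj hT g) (comp_cj hT g')) (.inl h2),
    (hs.simple hT).1, (hs.simple hT).2⟩
  have ho := hs.odd_index (A.num.ab2 A.subH)
  by_cases hc : ∀ L : Subgroup H, IsComponent L → L = T
  · have e : layer H = T := le_antisymm (sSup_le fun L hL => (hc L hL).le) (comp_le_layer hT)
    exact (one_false J A F hs ⟨nT, e ▸ hs.cent_layer, e ▸ ho⟩ hc).elim
  push Not at hc
  obtain ⟨T', hT', hn⟩ := hc
  have k : ∀ L : Subgroup H, IsComponent L → L ≠ T' → L = T := fun L hL e =>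
    by_contra fun e' => e (h3 _ _ hL hT' e' hn)
  have e : layer H = T ⊔ T' := le_antisymm (sSup_le fun L hL => by
    by_cases e : L = T'
    exacts [e.le.trans le_sup_right, (k L hL e).le.trans le_sup_left])
    (sup_le (comp_le_layer hT) (comp_le_layer hT'))
  refine ⟨T, T', ⟨nT, ⟨hs.normal_of_two hT' (fun g g' a b => (k _ (comp_cj hT' g) a).trans
    (k _ (comp_cj hT' g') b).symm) (.inl h2), (hs.simple hT').1, (hs.simple hT').2⟩,
    comp_commute_of_ne hT hT' hn.symm, eq_bot_iff.2 fun g hg => hs.eq_one fun L hL => ?_, e ▸ ho⟩, ht⟩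
  by_cases e : L = T'
  exacts [e ▸ hg.2, k L hL e ▸ hg.1]

theorem ker_eq_bot (J : Jobs.{u}) (kA : KitA.{u}) (A : Amb m ψ) {T T' : Subgroup H} (h : Two T T')
    (ht : T ⊔ T' = ⊤) (g : RG m T) (g' : RG m T') : ψ.ker = ⊥ := by
  by_contra hn
  obtain ⟨B, hB, -, hlt, hm⟩ := H2.exists_chief_factor_below (bot_lt_iff_ne_bot.2 hn)
  have hf := QuotientGroup.mk'_surjective B
  have e : (QuotientGroup.lift B ψ hlt.le).ker = ψ.ker.map (QuotientGroup.mk' B) :=
    QuotientGroup.ker_lift _ _ _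
  have := A.sol
  have hsol := H2.isSolvable_map ψ.ker (QuotientGroup.mk' B)
  have := (ψ.normal_ker).map _ hf
  have h0 : ψ.ker.map (QuotientGroup.mk' B) ≠ ⊥ := fun e => hlt.not_ge (by
    rwa [Subgroup.map_eq_bot_iff, QuotientGroup.ker_mk'] at e)
  have hmin : ∀ N : Subgroup (G ⧸ B), N.Normal → N ≤ ψ.ker.map (QuotientGroup.mk' B) →
      N = ⊥ ∨ N = ψ.ker.map (QuotientGroup.mk' B) := fun N hN hle => by
    have e := map_comap_eq_self_of_surjective hf N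
    rcases hm (N.comap (QuotientGroup.mk' B)) inferInstance (QuotientGroup.le_comap_mk' B N) (by
      refine (comap_mono hle).trans ?_
      rw [comap_map_eq, QuotientGroup.ker_mk']
      exact sup_le le_rfl hlt.le) with h1 | h1
    · exact Or.inl (by rw [← e, h1, QuotientGroup.map_mk'_self])
    · exact Or.inr (by rw [← e, h1])
  obtain ⟨r, hr, hp, he, -⟩ := H2.exists_elementaryAbelian_of_minimal_normal h0 hmin
  have hd : r ∣ Nat.card ψ.ker := hp.trans (card_map_dvd _ _)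
  exact h0 (e ▸ J.fin m _ H (QuotientGroup.lift B ψ hlt.le) ⟨A.num, A.num2, A.sub.of_surjective hf,
    QuotientGroup.lift_surjective_of_surjective B _ A.sj hlt.le, e ▸ hsol⟩ T T' r h ht g g'
    (J.k2r m G H ψ A T T' h g' (.inl (kA.top g.rk3)) (g.two A.num) r hr hd) (e ▸ he) (e ▸ hmin))

theorem s3530 (J : Jobs.{u}) (kA : KitA.{u}) {K : Type*} [Field K] [Fintype K] {m : ℕ} (hm : 1 ≤ m)
    (hK : Fintype.card K = 3 ^ (2 * m + 1)) {G : Type u} [Group G] [Finite G]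
    (h : Set.range (orderOf : G → ℕ) =
      Set.range (orderOf : Lie.twistedG2 K (3 ^ m) × Lie.twistedG2 K (3 ^ m) → ℕ)) :
    Nonempty (G ≃* Lie.twistedG2 K (3 ^ m) × Lie.twistedG2 K (3 ^ m)) := by
  have k := jobRG m hm _ (isRee_self hm hK)
  have := (H30.reeG2 hK).finite_G
  have hN := J.n m hm
  have hS : Sub m G := fun g => by
    obtain ⟨⟨a, b⟩, e⟩ := h.le ⟨g, rfl⟩
    rw [← e, Prod.orderOf]
    obtain ⟨i, hi⟩ := k.sub a
    obtain ⟨j, hj⟩ := k.sub b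
    exact ⟨i, j, Nat.lcm_dvd (hi.trans (Nat.dvd_lcm_left _ _)) (hj.trans (Nat.dvd_lcm_right _ _))⟩
  have F : Full m G := fun i j a b hij ha hb => by
    obtain ⟨x, hx⟩ := k.ord ha
    obtain ⟨y, hy⟩ := k.ord hb
    exact h.ge ⟨(x, y), by rw [Prod.orderOf, hx, hy, (hN.cop hij ha hb).lcm_eq_mul]⟩
  have A : Amb m (QuotientGroup.mk' (solvableRadical G)) := ⟨hN, J.n2 m hm hN, hS,
    QuotientGroup.mk'_surjective _, by rw [QuotientGroup.ker_mk']; infer_instance⟩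
  obtain ⟨T, T', h2, ht⟩ := exists_two J A F (ss_quot G)
  obtain ⟨r, r'⟩ := two_ree J hm A F h2 ht
  have top := J.out m hm hN _ T T' A.subH h2 r r'
  have e := ker_eq_bot J kA A h2 top (jobRG m hm _ r) (jobRG m hm _ r')
  have := h2.l.simple
  exact ⟨((MulEquiv.ofBijective _ ⟨(MonoidHom.ker_eq_bot_iff _).1 e, A.sj⟩).trans
    (H9.nonempty_equiv_prod (commutator_eq_bot_iff_comm.1 h2.comm) (le_bot_iff.1 ((inf_le_inf_left _
      (commutator_eq_bot_iff_le_centralizer.1 h2.symm.comm)).trans (inf_cent_eq_bot h2.l.nab).le))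
      top).some).trans ((isRee_equiv hm r hK).some.prodCongr (isRee_equiv hm r' hK).some)⟩

end H70.RR
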