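import Cfsg.Agent.H63.A8Def
import Cfsg.Agent.H67.SABasic

/-! Tower A8S (S3152), item WN: a normalised basis of `W`. -/

set_option autoImplicit false

namespace H70.A8WN

open H64.SG (Cz Cs Ns)
open H67.SA H63.A8

universe u

/-- The additive data. -/
structure AW {ι A : Type*} [AddCommGroup A] (T : ι → ι → ι → Prop) (v : ι → A) (δ : A →+ A)
    (α : ι → ι → A →+ A) : Prop where
  s1 : ∀ {j l k}, T j l k → T l j k
  s2 : ∀ {j l k}, T j l k → T j k l
  two : ∀ j, (2 : ℤ) • v j = 0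
  nz : ∀ j, v j ≠ 0
  dv : ∀ j, δ (v j) = 0
  fix : ∀ {j l k}, T j l k → ∀ w, δ w = 0 → ∃ a b c : ℤ, w = a • v j + b • v l + c • v k
  onto : ∀ j, ∃ w, δ w = v j
  eqv : ∀ j l w, δ (α j l w) = α j l (δ w)
  aj : ∀ {j l k}, T j l k → α j l (v j) = v j + v l
  al : ∀ {j l k}, T j l k → α j l (v l) = v l
  ak : ∀ {j l k}, T j l k → α j l (v k) = v k
  inv : ∀ j l w, α j l (α j l w) = w
  c1 : ∀ {j l k}, T j l k → ∀ w, α j l (α j k w) = α j k (α j l w)
  c2 : ∀ {j l k}, T j l k → ∀ w, α l k (α j l w) = α j l (α j k (α l k w))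
  sq : (∀ w : A, (2 : ℤ) • w = 0) ∨ ∀ w : A, δ w = (2 : ℤ) • w

namespace AW

variable {ι A : Type*} [AddCommGroup A] {T : ι → ι → ι → Prop} {v : ι → A} {δ : A →+ A}
  {α : ι → ι → A →+ A} (h : AW T v δ α)
include h

theorem ev {j : ι} {a : ℤ} (e : a • v j = 0) : Even a := by
  rcases Int.even_or_odd a with h1 | ⟨m, rfl⟩
  · exact h1
  · exact absurd (by linear_combination (norm := module) e - m • h.two j) (h.nz j)

theorem of_ev (j : ι) {a : ℤ} (e : Even a) : a • v j = 0 := by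
  obtain ⟨m, rfl⟩ := e
  linear_combination (norm := module) m • h.two j

theorem ind {j l k : ι} (t : T j l k) {a b : ℤ} (e : a • v j = b • v l) : Even a := by
  have e1 := congrArg (α j k) e
  rw [map_zsmul, map_zsmul, h.aj (h.s2 t), h.ak (h.s2 t)] at e1
  exact h.ev (j := k) (by linear_combination (norm := module) e1 - e)

theorem act {j l k : ι} (t : T j l k) (a b c : ℤ) :
    α j l (a • v j + b • v l + c • v k) = a • v j + b • v l + c • v k + a • v l := by
  rw [map_add, map_add, map_zsmul, map_zsmul, map_zsmul, h.aj t, h.al t, h.ak t]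
  module

theorem psi {j l k : ι} (t : T j l k) {w : A} (hw : δ w = v l) :
    ∃ m : ℤ, α j l w = w + m • v l := by
  obtain ⟨w', hw'⟩ := h.onto j
  obtain ⟨a, b, c, e⟩ := h.fix t (α j l w' - w' - w) (by
    rw [map_sub, map_sub, h.eqv, hw', hw, h.aj t]; abel)
  have e1 := congrArg (α j l) e
  rw [h.act t, map_sub, map_sub, h.inv] at e1
  rcases h.sq with s | s
  · exact ⟨-a, by
      linear_combination (norm := module) - e1 - e - s w - a • h.two j - b • h.two l - c • h.two k⟩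
  · exact ⟨-a - 1, by
      linear_combination (norm := module) - e1 - e + s w - hw - a • h.two j - b • h.two l
        - c • h.two k⟩

theorem base {j l k : ι} (t : T j l k) : ∃ w, δ w = v l ∧ α j l w = w ∧ α k l w = w := by
  obtain ⟨w, hw⟩ := h.onto l
  have t' : T k l j := h.s1 (h.s2 (h.s1 t))
  obtain ⟨m, e⟩ := h.psi t hw
  obtain ⟨m', e'⟩ := h.psi t' hw
  refine ⟨w + m • v j + m' • v k, ?_, ?_, ?_⟩
  · rw [map_add, map_add, map_zsmul, map_zsmul, h.dv, h.dv, hw]; module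
  · rw [map_add, map_add, map_zsmul, map_zsmul, e, h.aj t, h.ak t]
    linear_combination (norm := module) m • h.two l
  · rw [map_add, map_add, map_zsmul, map_zsmul, e', h.aj t', h.ak t']
    linear_combination (norm := module) m' • h.two l

theorem chi {j l k : ι} (t : T j l k) {w : A} (hw : δ w = v k) (h1 : α j k w = w)
    (h2 : α l k w = w) : ∃ m : ℤ, α j l w = w + m • v k := by
  obtain ⟨a, b, c, e⟩ := h.fix t (α j l w - w) (by rw [map_sub, h.eqv, hw, h.ak t, sub_self])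
  have e1 := congrArg (α j k) e
  have e2 := congrArg (α l k) e
  have t1 := h.s2 t
  have t2 := h.s2 (h.s1 t)
  rw [map_sub, ← h.c1 t, h1, map_add, map_add, map_zsmul, map_zsmul, map_zsmul, h.aj t1, h.al t1,
    h.ak t1] at e1
  rw [map_sub, h.c2 t, h2, h1, map_add, map_add, map_zsmul, map_zsmul, map_zsmul, h.aj t2,
    h.al t2, h.ak t2] at e2
  have a0 := h.of_ev j (h.ev (j := k) (a := a) (by linear_combination (norm := module) e - e1))
  have b0 := h.of_ev l (h.ev (j := k) (a := b) (by linear_combination (norm := module) e - e2))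
  exact ⟨c, by linear_combination (norm := module) e + a0 + b0⟩

theorem theta {j l k : ι} (t : T j l k) {wj wl : A} (hj : δ wj = v j) (hl : δ wl = v l)
    (h1 : α j l wl = wl) : ∃ p q r : ℤ, α j l wj = wj + wl + (p • v j + q • v l + r • v k) ∧
      (2 : ℤ) • wl + p • v l = 0 := by
  obtain ⟨p, q, r, e⟩ := h.fix t (α j l wj - wj - wl) (by
    rw [map_sub, map_sub, h.eqv, hj, hl, h.aj t]; abel)
  have e1 := congrArg (α j l) e
  rw [h.act t, map_sub, map_sub, h.inv, h1] at e1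
  exact ⟨p, q, r, by linear_combination (norm := module) e, by
    linear_combination (norm := module) - e1 - e - p • h.two j - q • h.two l - r • h.two k⟩

theorem main {j l k : ι} (t : T j l k) {wj wl wk : A} (hj : δ wj = v j) (hl : δ wl = v l)
    (hk : δ wk = v k) (l1 : α j l wl = wl) (l2 : α k l wl = wl) (k1 : α j k wk = wk)
    (k2 : α l k wk = wk) : ∃ p : ℤ, α j l wk = wk + p • v k ∧ (2 : ℤ) • wl + p • v l = 0 := by
  have t1 := h.s2 t
  obtain ⟨p, q, r, e1, f1⟩ := h.theta t hj hl l1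
  obtain ⟨p', q', r', e2, -⟩ := h.theta t1 hj hk k1
  obtain ⟨m, e3⟩ := h.chi t hk k1 k2
  obtain ⟨m', e4⟩ := h.chi t1 hl l1 l2
  have e := h.c1 t wj
  rw [e1, e2] at e
  simp only [map_add, map_zsmul, e1, e2, e3, e4, h.aj t, h.al t, h.ak t, h.aj t1, h.al t1,
    h.ak t1] at e
  have e5 : Even (m - p) := h.ind (b := m' - p') (h.s2 (h.s1 t1) |> h.s2 |> h.s2)
    (by linear_combination (norm := module) e)
  exact ⟨p, by linear_combination (norm := module) e3 + h.of_ev k e5, f1⟩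

end AW

section grp

variable {G : Type u} [Group G]

/-- Conjugation on `W`. -/
def cA {W : Subgroup G} (g : G) (hg : ∀ w ∈ W, g * w * g⁻¹ ∈ W) : Additive W →+ Additive W :=
  AddMonoidHom.mk' (fun a => Additive.ofMul ⟨g * (a.toMul : G) * g⁻¹, hg _ a.toMul.2⟩) fun a b =>
    congrArg Additive.ofMul (Subtype.ext (by
      change g * ((a.toMul : G) * b.toMul) * g⁻¹ = g * a.toMul * g⁻¹ * (g * b.toMul * g⁻¹)
      group))

/-- The underlying element. -/
def vl {W : Subgroup G} (a : Additive W) : G := (a.toMul : G)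

theorem vl_inj {W : Subgroup G} {a b : Additive W} (h : vl a = vl b) : a = b :=
  congrArg Additive.ofMul (Subtype.ext h)

theorem vl_mem {W : Subgroup G} (a : Additive W) : vl a ∈ W := a.toMul.2

end grp

theorem third {n : ℕ} (hn : n = 3) : (∀ j l k i : Fin (n + 1), j ≠ 0 → l ≠ 0 → k ≠ 0 → j ≠ l →
    k ≠ j → k ≠ l → i ≠ 0 → i = j ∨ i = l ∨ i = k) ∧ ∀ l : Fin (n + 1), l ≠ 0 →
    ∃ j k : Fin (n + 1), j ≠ 0 ∧ k ≠ 0 ∧ j ≠ l ∧ k ≠ j ∧ k ≠ l := by
  subst hn
  refine ⟨fun j l k i => ?_, by decide⟩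
  simp only [Ne, Fin.ext_iff, Fin.val_zero]
  have := j.2
  have := l.2
  have := k.2
  have := i.2
  omega

theorem jobWN' : J8WN.{u} := by
  intro n F _ _ _ hp G _ _ e t W ch wd
  classical
  have ab : ∀ a ∈ W, ∀ b ∈ W, a * b = b * a := fun a ha b hb => (wd.ab hb a ha)
  letI : CommGroup W := { (inferInstance : Group W) with
    mul_comm := fun a b => Subtype.ext (ab a a.2 b b.2) }
  have tt : t * t = 1 := ch.inv.1
  have ti : t⁻¹ = t := inv_eq_of_mul_eq_one_right tt
  have xx : ∀ i j : Fin (n + 1), x i j (1 : F) * x i j 1 = 1 := fun i j => by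
    rw [← x_add, CharTwo.add_self_eq_zero, x_zero]
  have ee : ∀ i j : Fin (n + 1), e (x i j (1 : F)) * e (x i j 1) = 1 := fun i j => by
    rw [← map_mul, xx, map_one]
  have ei : ∀ i j : Fin (n + 1), (e (x i j (1 : F)))⁻¹ = e (x i j 1) := fun i j =>
    inv_eq_of_mul_eq_one_right (ee i j)
  have te : ∀ s, e s * t = t * e s := fun s => ch.cen _ ⟨s, rfl⟩
  have eW : ∀ u ∈ Er n F, e u ∈ W := fun u hu => wd.le (Subgroup.mem_map_of_mem _ hu)
  have ht : ∀ w ∈ W, t⁻¹ * w * t⁻¹⁻¹ ∈ W := fun w hw => by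
    obtain ⟨u, hu, e1⟩ := wd.into w hw
    have := W.mul_mem (eW u hu) hw
    convert this using 1
    rw [inv_inv, show e u = t⁻¹ * (w * t * w⁻¹) by rw [e1]; group]
    group
  let ι := {i : Fin (n + 1) // i ≠ 0}
  have hx : ∀ j l : ι, ∀ w ∈ W, e (x j.1 l.1 1) * w * (e (x j.1 l.1 1))⁻¹ ∈ W := fun j l w hw =>
    (Subgroup.mem_normalizer_iff.1 (wd.pr (Subgroup.mem_map_of_mem _
      (x_mem_Pat (S := fun _ b => b ≠ 0) l.2 1))) w).1 hw
  let T : ι → ι → ι → Prop := fun j l k => j.1 ≠ l.1 ∧ k.1 ≠ j.1 ∧ k.1 ≠ l.1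
  let v : ι → Additive W := fun j => Additive.ofMul ⟨e (x 0 j.1 1), eW _ (x_mem_Row 0 j.1 1)⟩
  let δ : Additive W →+ Additive W := cA t⁻¹ ht - AddMonoidHom.id _
  let α : ι → ι → Additive W →+ Additive W := fun j l => cA _ (hx j l)
  have vδ : ∀ a, vl (δ a) = t⁻¹ * (vl a * t * (vl a)⁻¹) := fun a => by
    change t⁻¹ * vl a * t⁻¹⁻¹ / vl a = _
    rw [div_eq_mul_inv]; group
  have vα : ∀ j l a, vl (α j l a) = e (x j.1 l.1 1) * vl a * (e (x j.1 l.1 1))⁻¹ := fun _ _ _ => rfl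
  have vv : ∀ j, vl (v j) = e (x 0 j.1 1) := fun _ => rfl
  have va : ∀ a b : Additive W, vl (a + b) = vl a * vl b := fun _ _ => rfl
  have vn : ∀ a : Additive W, vl (-a) = (vl a)⁻¹ := fun _ => rfl
  have v0 : vl (0 : Additive W) = 1 := rfl
  have v2 : ∀ a : Additive W, vl ((2 : ℤ) • a) = vl a * vl a := fun a => by rw [two_zsmul, va]
  have fx0 : ∀ j l k : ι, k.1 ≠ j.1 → α j l (v k) = v k := fun j l k hk => vl_inj (by
    rw [vα, vv, ← map_mul, ← x_comm hk l.2.symm, map_mul, mul_inv_cancel_right])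
  have h : AW T v δ α :=
    { s1 := fun t => ⟨t.1.symm, t.2.2, t.2.1⟩
      s2 := fun t => ⟨t.2.1.symm, t.1.symm, t.2.2.symm⟩
      two := fun j => vl_inj (by rw [v2, vv, ee, v0])
      nz := fun j h0 => one_ne_zero ((x_mem_center j.2.symm).1 (ch.ker (congrArg vl h0)))
      dv := fun j => vl_inj (by rw [vδ, vv, te, v0]; group)
      fix := fun {j l k} tr w hw => by
        have h1 : vl w ∈ Cz t := by
          have h2 := congrArg vl hw
          rw [vδ, v0, inv_mul_eq_one, eq_comm, mul_inv_eq_iff_eq_mul] at h2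
          exact Subgroup.mem_centralizer_singleton_iff.2 h2
        let H : Subgroup G :=
          { carrier := {g | ∃ a b c : ℤ, g = vl (a • v j + b • v l + c • v k)}
            one_mem' := ⟨0, 0, 0, by simp only [zero_smul, add_zero]; rfl⟩
            mul_mem' := by
              rintro _ _ ⟨a, b, c, rfl⟩ ⟨a', b', c', rfl⟩
              exact ⟨a + a', b + b', c + c', by rw [← va]; congr 1; module⟩
            inv_mem' := by
              rintro _ ⟨a, b, c, rfl⟩
              exact ⟨-a, -b, -c, by rw [← vn]; congr 1; module⟩ }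
        have h3 : (Er n F).map e ≤ H := map_Pat_le.2 fun i m him hi c => by
          subst hi
          rcases hp.fld c with rfl | rfl
          · rw [x_zero, map_one]; exact H.one_mem
          rcases (third hp.three).1 j.1 l.1 k.1 m j.2 l.2 k.2 tr.1 tr.2.1 tr.2.2 him.symm with
            rfl | rfl | rfl
          · exact ⟨1, 0, 0, by simp only [zero_smul, add_zero, one_smul]; rfl⟩
          · exact ⟨0, 1, 0, by simp only [zero_smul, add_zero, one_smul, zero_add]; rfl⟩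
          · exact ⟨0, 0, 1, by simp only [zero_smul, add_zero, one_smul, zero_add]; rfl⟩
        obtain ⟨a, b, c, e1⟩ := h3 (wd.fix _ (vl_mem w) h1)
        exact ⟨a, b, c, vl_inj e1⟩
      onto := fun j => by
        obtain ⟨w, hw, e1⟩ := wd.onto _ (x_mem_Row 0 j.1 1)
        exact ⟨Additive.ofMul ⟨w, hw⟩, vl_inj (by
          rw [vδ, vv]; exact inv_mul_eq_iff_eq_mul.2 e1)⟩
      eqv := fun j l w => vl_inj (by
        rw [vδ, vα, vα, vδ, ti, ei]
        have := te (x j.1 l.1 1)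
        calc _ = t * e (x j.1 l.1 1) * vl w * (e (x j.1 l.1 1) * t * e (x j.1 l.1 1)) *
              (vl w)⁻¹ * (e (x j.1 l.1 1))⁻¹ := by rw [mul_inv_rev, mul_inv_rev, ei]; group
          _ = _ := by
            rw [← this, mul_assoc (e _) t (e _), ← this, ← mul_assoc (e _) (e _) t, ee, ei]
            simp only [mul_assoc, one_mul])
      aj := fun {j l k} tr => vl_inj (by
        have h1 := x_conj j.2.symm tr.1 l.2.symm (1 : F) 1
        rw [mul_one] at h1
        rw [vα, va, vv, vv, ei, ← map_mul, ← map_mul, ← map_mul]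
        congr 1
        have h2 : x 0 l.1 (1 : F) = x 0 j.1 1 * x j.1 l.1 1 * x 0 j.1 1 * x j.1 l.1 1 := by
          rw [inv_eq_of_mul_eq_one_right (xx 0 j.1)] at h1
          rw [h1, mul_assoc, xx, mul_one]
        rw [h2, ← mul_assoc, ← mul_assoc, ← mul_assoc, xx, one_mul])
      al := fun {j l k} tr => fx0 j l l tr.1.symm
      ak := fun {j l k} tr => fx0 j l k tr.2.1
      inv := fun j l w => vl_inj (by
        rw [vα, vα, ei, ← mul_assoc, ← mul_assoc, ee, one_mul, mul_assoc, ee, mul_one])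
      c1 := fun {j l k} tr w => vl_inj (by
        have h1 := congrArg e (x_comm (i := j.1) (j := l.1) (k := j.1) (l := k.1) tr.1.symm
          tr.2.1.symm (1 : F) 1)
        rw [map_mul, map_mul] at h1
        rw [vα, vα, vα, vα]
        calc _ = e (x j.1 l.1 1) * e (x j.1 k.1 1) * vl w *
              (e (x j.1 l.1 1) * e (x j.1 k.1 1))⁻¹ := by group
          _ = _ := by rw [h1]; group)
      c2 := fun {j l k} tr w => vl_inj (by
        have h1 := congrArg e (x_conj tr.1 tr.2.2.symm tr.2.1.symm (1 : F) 1)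
        rw [mul_one, map_mul, map_mul, map_mul, map_inv, ei] at h1
        have h2 : e (x l.1 k.1 1) * e (x j.1 l.1 1) =
            e (x j.1 l.1 1) * (e (x j.1 k.1 1) * e (x l.1 k.1 1)) := by
          rw [← h1, ← mul_assoc, ← mul_assoc, ee, one_mul]
        rw [vα, vα, vα, vα, vα]
        calc _ = e (x l.1 k.1 1) * e (x j.1 l.1 1) * vl w *
              (e (x l.1 k.1 1) * e (x j.1 l.1 1))⁻¹ := by group
          _ = _ := by rw [h2]; group)
      sq := wd.sq.imp (fun s w => vl_inj (by rw [v2, s _ (vl_mem w), v0])) fun s w => vl_inj (by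
        rw [vδ, v2, s _ (vl_mem w), inv_mul_cancel_left]) }
  have ex : ∀ l : ι, ∃ w, δ w = v l ∧ ∀ j, α j l w = w := fun l => by
    obtain ⟨j, k, j0, k0, h1, h2, h3⟩ := (third hp.three).2 l.1 l.2
    obtain ⟨w, e1, e2, e3⟩ := h.base (j := ⟨j, j0⟩) (l := l) (k := ⟨k, k0⟩) ⟨h1, h2, h3⟩
    refine ⟨w, e1, fun i => ?_⟩
    rcases (third hp.three).1 j l.1 k i.1 j0 l.2 k0 h1 h2 h3 i.2 with h4 | h4 | h4
    · rwa [show i = ⟨j, j0⟩ from Subtype.ext h4]
    · exact vl_inj (by rw [vα, h4, x_self, map_one]; group)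
    · rwa [show i = ⟨k, k0⟩ from Subtype.ext h4]
  choose w hw1 hw2 using ex
  have key : ∀ j l k : ι, T j l k →
      ∃ p : ℤ, α j l (w k) = w k + p • v k ∧ (2 : ℤ) • w l + p • v l = 0 := fun j l k tr =>
    h.main tr (hw1 j) (hw1 l) (hw1 k) (hw2 l j) (hw2 l k) (hw2 k j) (hw2 k l)
  refine ⟨fun l => if h0 : l ≠ 0 then vl (w ⟨l, h0⟩) else 1, fun l h0 => ?_, fun l h0 => ?_,
    fun j l j0 h0 => ?_, ?_⟩
  · rw [dif_pos h0]; exact vl_mem _
  · have := congrArg vl (hw1 ⟨l, h0⟩)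
    rw [vδ, vv, inv_mul_eq_iff_eq_mul] at this
    rwa [dif_pos h0]
  · have := congrArg vl (hw2 ⟨l, h0⟩ ⟨j, j0⟩)
    rw [vα, mul_inv_eq_iff_eq_mul] at this
    rwa [dif_pos h0]
  rcases wd.sq with s | s
  · refine .inl ⟨s, fun j l k j0 l0 k0 h1 h2 h3 => ?_⟩
    obtain ⟨p, e1, e2⟩ := key ⟨j, j0⟩ ⟨l, l0⟩ ⟨k, k0⟩ ⟨h1, h2, h3⟩
    have e3 : (2 : ℤ) • w ⟨l, l0⟩ = 0 := vl_inj (by rw [v2, s _ (vl_mem _), v0])
    rw [e3, zero_add] at e2
    rw [h.of_ev _ (h.ev e2), add_zero] at e1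
    have := congrArg vl e1
    rw [vα, mul_inv_eq_iff_eq_mul] at this
    rwa [dif_pos k0]
  · refine .inr ⟨s, fun j l k j0 l0 k0 h1 h2 h3 => ?_⟩
    obtain ⟨p, e1, e2⟩ := key ⟨j, j0⟩ ⟨l, l0⟩ ⟨k, k0⟩ ⟨h1, h2, h3⟩
    have e3 : ∀ i, v i = (2 : ℤ) • w i := fun i => (hw1 i).symm.trans (vl_inj (by
      rw [vδ, v2, s _ (vl_mem _), inv_mul_cancel_left]))
    have e4 : Even (p + 1) := h.ev (j := ⟨l, l0⟩) (by
      linear_combination (norm := module) e2 + e3 ⟨l, l0⟩)
    have e5 : α ⟨j, j0⟩ ⟨l, l0⟩ (w ⟨k, k0⟩) = -w ⟨k, k0⟩ := by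
      linear_combination (norm := module) e1 + h.of_ev ⟨k, k0⟩ e4 - e3 ⟨k, k0⟩
    have := congrArg vl e5
    rw [vα, vn] at this
    rwa [dif_pos k0]

theorem jobWN (_ : J8FC) : J8WN.{u} := jobWN'

end H70.A8WN
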