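import Cfsg.Agent.H64.YESpec
import Cfsg.Agent.H66.SFEV
import Cfsg.Agent.H9.UfK1

/-! STD-SP, endgame: `JobEV` (transfer and the Sylow `2`-subgroups); port of `H66/SFEV`. -/

set_option autoImplicit false

namespace H70.YEEV

open H64.SG (Syl Cz Cs Ns cjs Is2 Inv2 UF mem_Cz is2_of_sq isPGroup_iff_is2 syl_iff)
open H67.SA (cm Gen mem_sup_zp)
open H59.SO (Ind)
open H66.SFE (two_lam le_ker)
open H64.YE H98 Subgroup

universe u

theorem ek {Y : Type} [Group Y] [Finite Y] [QS Y] {G : Type u} [Group G] [Finite G]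
    {τ : MulAut Y} {U : Subgroup Y} {t : G} {Φ : Y →* G} (hk : Φ.ker ≤ center Y) (act : Ind Φ t τ)
    (syl : Syl U ⊤) (stU : τ ∈ H67.SA.St U) (tne : τ ∉ commutator (MulAut Y))
    (tc : ∀ v, IsConj t (Φ v * t) → ∃ w, Φ v * t = Φ w * t * (Φ w)⁻¹)
    (finn : ∀ m y, Is2 m → Ind Φ m (MulAut.conj y) → m ∈ Φ.range)
    (uf : UF (Ns Φ.range) t) (gen : Gen t) : ∃ K₀, EK U t Φ K₀ := by
  have : Finite (MulAut Y) := Finite.of_injective _ DFunLike.coe_injective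
  let lam := Abelianization.of.comp (indH hk)
  have ko : ∀ m : Ns Φ.range, lam m = 1 ↔ indH hk m ∈ commutator (MulAut Y) := fun m => by
    rw [← Abelianization.ker_of, MonoidHom.mem_ker]; rfl
  have tt := uf.inv.1
  have tn : t ∈ Ns Φ.range := uf.mem
  have perf : Φ.range ≤ ⁅Φ.range, Φ.range⁆ := range_perfect
  have uG : U.map Φ ≤ Φ.range := map_le_range Φ U
  have twoU : IsPGroup 2 (U.map Φ) := syl.2.1.map Φ
  have t1 : t ∈ Ns (U.map Φ) := act.mem_Ns_map stU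
  have sU : IsSyl 2 (U.map Φ) Φ.range := by
    rw [MonoidHom.range_eq_map]; exact syl_iff.1 (syl_map syl)
  have inn : ∀ m : Ns Φ.range, Is2 (m : G) → lam m = 1 → (m : G) ∈ Φ.range := fun m m2 k => by
    obtain ⟨y, hy⟩ := QS.k2 _ ((ko m).1 k) (ind_is2 hk (ind_indH hk m) m2)
    exact finn m y m2 (hy ▸ ind_indH hk m)
  obtain ⟨P, hP, h0⟩ := exists_isSyl_le (H64.SG.isPGroup_sup_zpowers twoU t1 (is2_of_sq tt))
    (sup_le (uG.trans le_normalizer) (zpowers_le.2 tn))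
  have tP : t ∈ P := h0 (mem_sup_right (mem_zpowers t))
  have p2 := isPGroup_iff_is2.1 hP.isPGroup
  have h2 : P ⊓ Φ.range = U.map Φ := sU.eq_of_le (hP.isPGroup.to_le inf_le_left)
    (le_inf (le_sup_left.trans h0) uG) inf_le_right
  have l1 : ∀ m : Ns Φ.range, (m : G) ∈ Φ.range → lam m = 1 := fun m hm =>
    H64.SG.eq_one_of_perfect perf (lam.comp (inclusion le_normalizer)) (fun _ _ => mul_comm _ _)
      ⟨m, hm⟩
  have cjP : ∀ m : Ns Φ.range, Is2 (m : G) →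
      ∃ g : Ns Φ.range, ((g * m * g⁻¹ : Ns Φ.range) : G) ∈ P := fun m m2 => by
    obtain ⟨g, g1, g2⟩ := hP.exists_cj_le m2.zpowers (zpowers_le.2 m.2)
    exact ⟨⟨g, g1⟩, g2 (conj_mem_cj (mem_zpowers _))⟩
  have lc : ∀ g m : Ns Φ.range, lam (g * m * g⁻¹) = lam m := fun g m => by
    rw [map_mul, map_mul, map_inv, mul_inv_cancel_comm]
  have h3 : ∀ m : Ns Φ.range, Is2 (m : G) → lam m = 1 ∨ lam m = lam ⟨t, tn⟩ := fun m m2 => by
    refine two_lam uf gen lam (fun m m2 => ?_) m (m2.imp fun k hk => Subtype.ext hk)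
    obtain ⟨g, hg⟩ := cjP m (m2.map (Ns Φ.range).subtype)
    rw [← lc g m]
    generalize g * m * g⁻¹ = x at hg
    have k1 : cm (x : G) t ∈ P := mul_mem (mul_mem (mul_mem hg tP) (inv_mem hg)) (inv_mem tP)
    obtain ⟨v, k2⟩ : cm (x : G) t ∈ Φ.range := inn (x * ⟨t, tn⟩ * x⁻¹ * ⟨t, tn⟩⁻¹) (p2 _ k1)
      (by rw [map_mul, lc, map_inv, mul_inv_cancel])
    have k3 : Φ v * t = x * t * (x : G)⁻¹ := by rw [k2]; simp only [cm]; group
    obtain ⟨w, w2⟩ := tc v (isConj_iff.2 ⟨_, k3.symm⟩)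
    refine ⟨(⟨Φ w, le_normalizer ⟨w, rfl⟩⟩ : Ns Φ.range)⁻¹ * x, ?_, by
      rw [map_mul, map_inv, l1 ⟨Φ w, _⟩ ⟨w, rfl⟩, inv_one, one_mul]⟩
    change t * ((Φ w)⁻¹ * x) = (Φ w)⁻¹ * x * t
    calc _ = (Φ w)⁻¹ * (Φ w * t * (Φ w)⁻¹) * x := by group
      _ = _ := by rw [← w2, k3]; group
  have h4 : ∀ a ∈ P, a ∈ U.map Φ ∨ a * t ∈ U.map Φ := fun a ha =>
    (h3 ⟨a, hP.le ha⟩ (p2 a ha)).imp (fun k => h2 ▸ ⟨ha, inn ⟨a, hP.le ha⟩ (p2 a ha) k⟩) fun k =>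
      h2 ▸ ⟨mul_mem ha tP, inn (⟨a, hP.le ha⟩ * ⟨t, tn⟩) (p2 _ (mul_mem ha tP)) (by
        rw [map_mul, k, ← map_mul, show (⟨t, tn⟩ * ⟨t, tn⟩ : Ns Φ.range) = 1 from Subtype.ext tt,
          map_one])⟩
  obtain ⟨V, hV⟩ := H9.UF.jobK3 uf lam
  have v1 : V t ≠ 1 := by
    rw [hV t tn t (IsConj.refl t) tn rfl (Or.inl tt)]
    exact fun k => tne (indH_eq hk act ▸ (ko _).1 k)
  have v2 := le_ker perf V
  have vt : ∀ a, a * t ∈ U.map Φ → V a ≠ 1 := fun a k e => by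
    have := v2 (uG k)
    rw [MonoidHom.mem_ker, map_mul, e, one_mul] at this
    exact v1 this
  have eP : U.map Φ ⊔ zpowers t = P := le_antisymm h0 fun a ha => (mem_sup_zp t1 tt).2 (h4 a ha)
  have hS : IsSyl 2 P ⊤ := ⟨le_top, hP.isPGroup, fun Q hQ a _ => hP.eq_of_le hQ a
    ((H9.UF.jobK1 uf (IsConj.refl t) tn).2 Q hQ (a tP))⟩
  have eK : P ⊓ V.ker = U.map Φ := le_antisymm
    (fun a ha => (h4 a ha.1).resolve_right fun k => vt a k ha.2)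
    (le_inf (le_sup_left.trans h0) (uG.trans v2))
  refine ⟨V.ker, inferInstance, v1, v2, fun g => (gen _ V g).imp id fun k => ?_, fun m m1 m2 m3 => ?_,
    syl_iff.2 (eP ▸ hS), syl_iff.2 (eK ▸ hS.inf_of_le_normalizer le_top
      (by rw [normalizer_eq_top]; exact le_top))⟩
  · rw [MonoidHom.mem_ker, map_mul, k, ← map_mul, tt, map_one]
  · obtain ⟨g, hg⟩ := cjP ⟨m, m1⟩ m2
    change (g : G) * m * (g : G)⁻¹ ∈ P at hg
    rcases h4 _ hg with k | k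
    · simpa [mul_assoc] using conj_mem_of_mem_normalizer' g.2 (uG k)
    · exact absurd (by rw [map_mul, map_mul, map_inv, mul_inv_cancel_comm]; exact m3) (vt _ k)

theorem jobEV : JobEV.{u} := by
  intro n F _ _ _ _ _ _ G _ _ e t _ _ _ Y _ _ _ ι τ Gd U Φ h f uf gen
  exact ek h.ker h.act h.syl h.stU h.tne f.tc f.inn uf gen

end H70.YEEV
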