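import Cfsg.Agent.H78.YUDef

/-! STD-SP endgame, unitary models: `JobPT` (the rank pattern of `v Z`). -/

set_option autoImplicit false
set_option linter.unusedSectionVars false

namespace H70.YUPT

open H64.SG (Cs)
open H67 H67.UA H64.YE H78.YU Subgroup
open H59.UM (Tc_eq_TT dual v1 v2)

variable {m : ℕ} {K : Type} [Field K] [StarRing K] [CharP K 2] [Finite K] [hp : Par m K]

variable (m K) in
/-- a product of two commuting roots that is not a root and not `1` -/
def R2 (g : XU m K) : Prop :=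
  (∃ s t, IsConj (r0 m K) s ∧ IsConj (r0 m K) t ∧ s * t = t * s ∧ g = s * t) ∧
    ¬ IsConj (r0 m K) g ∧ g ≠ 1

theorem R2.tp (h : R0 m K) {g g' : XU m K} (a : Ac g g') (r : R2 m K g) : R2 m K g' := by
  obtain ⟨β, rfl⟩ := a
  obtain ⟨⟨s, t, h1, h2, h3, rfl⟩, h4, h5⟩ := r
  refine ⟨⟨β s, β t, h.ra β s h1, h.ra β t h2, by rw [← map_mul, h3, map_mul], map_mul _ _ _⟩,
    fun k => h4 ?_, fun k => h5 (β.injective (k.trans (map_one β).symm))⟩
  simpa using h.ra β⁻¹ _ k

theorem tc_root (h : R0 m K) {w : Vn m K} (hw : Iso w) {d : K} (hd : star d = d) :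
    Tc d w = 1 ∨ IsConj (r0 m K) (Tc d w) := by
  obtain ⟨a, e⟩ := Tc_eq_TT hd w
  by_cases k : a • w = 0
  · left
    rw [e, k]
    exact ac_ext fun y => by rw [ac_Tc (by simp [Iso]) (star_one K)]; simp
  · exact Or.inr ((h.rt _).2 ⟨_, k, hw.smul a, e⟩)

theorem ac_TT2 {a b : Vn m K} (p : Pp a b) (z : Vn m K) :
    ac (TT a * TT b) z = z + hf z a • a + hf z b • b := by
  rw [ac_mul, ac_Tc p.r (star_one K), ac_Tc p.l (star_one K), hf_add_left, hf_smul_left, p.symm.p]
  simp only [one_mul, mul_zero, add_zero]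
  abel

theorem r2_EE (h : R0 m K) {y : Vn m K} {c : K} (o : Ok (ev 0) y c) (hy : Iso y)
    (hn : ∀ a : K, y ≠ a • ev 0) : R2 m K (EE (ev 0) y c) := by
  have hc : star c = c := tr_eq_zero.1 (o.tr.trans hy)
  have p0 : Pp (ev 0 : Vn m K) y := ⟨iso0, hy, hf_symm o.perp⟩
  have pp : ∀ α β : K, Pp (α • (ev 0 : Vn m K) + y) (β • ev 0 + y) := fun α β => by
    refine ⟨?_, ?_, ?_⟩ <;>
    simp [Iso, hf_add_left, hf_add_right, hf_smul_left, hf_smul_right, show hf (ev 0 : Vn m K) (ev 0) = 0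
      from iso0, show hf y y = 0 from hy, o.perp, p0.p]
  have ne : ∀ α : K, α • (ev 0 : Vn m K) + y ≠ 0 := fun α e => hn α (by
    rw [← add_zero y, ← v_add_self (α • ev 0), ← add_assoc, add_comm y, e, zero_add])
  obtain ⟨α, hα⟩ := H59.UM.exists_tr (c := c + 1) (by rw [star_add, hc, star_one])
  have key : ∀ β γ : K, β + γ = 1 → tr β = c + 1 →
      EE (ev 0) y c = TT (β • (ev 0 : Vn m K) + y) * TT (γ • ev 0 + y) := fun β γ e1 e2 => by
    obtain rfl : γ = β + 1 := by linear_combination e1 - β * two0 K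
    refine ac_ext fun z => ?_
    rw [ac_TT2 (pp _ _), ac_EE o]
    simp only [hf_add_right, hf_smul_right, star_add, star_one]
    ext i
    simp only [Pi.add_apply, Pi.smul_apply, smul_eq_mul]
    simp only [UA.tr] at e2
    linear_combination (-(hf z (ev 0) * (ev 0 : Vn m K) i)) * e2 -
      (star β * β * hf z (ev 0) * (ev 0 : Vn m K) i + β * hf z y * (ev 0 : Vn m K) i +
        star β * hf z (ev 0) * y i + hf z y * y i + hf z (ev 0) * (ev 0 : Vn m K) i) * two0 K
  obtain ⟨z, z1, z2⟩ : ∃ z : Vn m K, hf z (ev 0) = 0 ∧ hf z y ≠ 0 := by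
    by_contra k
    push Not at k
    obtain ⟨a, ha⟩ := dual (u := ev 0) (x := y) fun z hz => by rw [k z hz]; simp
    exact hn a ha
  have e1 := ac_EE_perp o z1
  have rt : ∀ β : K, IsConj (r0 m K) (TT (β • (ev 0 : Vn m K) + y)) := fun β =>
    (h.rt _).2 ⟨_, ne β, (pp β β).l, rfl⟩
  refine ⟨⟨_, _, rt α, rt (α + 1), ?_, key α (α + 1) ?_ hα⟩, fun k => ?_, fun k => ?_⟩
  · rw [← key α (α + 1) (by linear_combination α * two0 K) hα, ← key (α + 1) α
      (by linear_combination α * two0 K) (by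
        simp only [UA.tr, star_add, star_one] at hα ⊢; linear_combination hα + two0 K)]
  · linear_combination α * two0 K
  · obtain ⟨w, -, hw, e⟩ := (h.rt _).1 k
    have e2 := ac_EE o (ev (SA.la m))
    rw [e, ac_Tc hw (star_one K), add_right_inj] at e1
    rw [e, ac_Tc hw (star_one K), H59.UM.hfL0] at e2
    have l0 : (1 * hf z w) ≠ 0 := fun k => z2 ((smul_eq_zero.1 (by rw [← e1, k, zero_smul])).resolve_right
      (ev_ne 0))
    refine hn (1 * hf (ev (SA.la m)) w * (1 * hf z w)⁻¹ * hf z y + hf (ev (SA.la m)) y + c) ?_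
    ext i
    have f1 := congrFun e1 i
    have f2 := congrFun e2 i
    simp only [Pi.add_apply, Pi.smul_apply, smul_eq_mul] at f1 f2 ⊢
    have f3 : w i = (1 * hf z w)⁻¹ * (hf z y * (ev 0 : Vn m K) i) := by
      rw [← f1, inv_mul_cancel_left₀ l0]
    rw [f3] at f2
    linear_combination -f2 - (hf (ev (SA.la m)) y * (ev 0 : Vn m K) i + c * (ev 0 : Vn m K) i) * two0 K
  · rw [k, ac_one, left_eq_add] at e1
    exact z2 ((smul_eq_zero.1 e1).resolve_right (ev_ne 0))

/-- The two roots. -/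
theorem R2.vec (h : R0 m K) {g : XU m K} (r : R2 m K g) :
    ∃ a b, Pp a b ∧ Li a b ∧ g = TT a * TT b := by
  obtain ⟨⟨s, t, h1, h2, h3, rfl⟩, h4, h5⟩ := r
  obtain ⟨a, a0, ha, rfl⟩ := (h.rt _).1 h1
  obtain ⟨b, b0, hb, rfl⟩ := (h.rt _).1 h2
  have p : hf b a = 0 := by
    by_contra k
    have e : TT (ac (TT a) b) = TT b :=
      (Tc_conj hb (star_one K) _).symm.trans (by rw [h3, mul_inv_cancel_right])
    have e1 := congrArg (fun g => ac g b) e
    simp only [ac_Tc hb (star_one K), ac_Tc (hb.ac _) (star_one K), show hf b b = 0 from hb, mul_zero,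
      zero_smul, add_right_inj] at e1
    rw [ac_Tc ha (star_one K), hf_add_right, hf_smul_right, show hf b b = 0 from hb] at e1
    have e2 := (smul_eq_zero.1 e1).resolve_left (by simpa using k)
    have e3 := congrArg (fun u => hf u a) e2
    simp only [hf_add_left, hf_smul_left, show hf a a = 0 from ha, mul_zero, add_zero,
      hf_zero_left] at e3
    exact k e3
  refine ⟨a, b, ⟨ha, hb, hf_symm p⟩, fun c d e => ?_, rfl⟩
  by_cases d0 : d = 0
  · rw [d0, zero_smul, add_zero] at e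
    exact ⟨(smul_eq_zero.1 e).resolve_right a0, d0⟩
  exfalso
  have e1 : b = (d⁻¹ * c) • a := by
    ext i
    have := congrFun e i
    simp only [Pi.add_apply, Pi.smul_apply, smul_eq_mul, Pi.zero_apply] at this ⊢
    field_simp
    linear_combination this - c * a i * two0 K
  have s1 : star (nm (d⁻¹ * c) * 1) = nm (d⁻¹ * c) * 1 := by rw [mul_one, star_nm]
  rw [e1, TT, TT, Tc_smul, ← Tc_add ha (star_one K) s1] at h4 h5
  exact (tc_root h ha (by rw [star_add, star_one, s1])).elim h5 h4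

omit hp in
theorem not_li3 {u a b a' b' : Vn m K} (l : Li3 u a b) {p₁ q₁ p₂ q₂ p₃ q₃ k : K} (hk : k ≠ 0)
    (e1 : u = p₁ • a' + q₁ • b') (e2 : a = p₂ • a' + q₂ • b') (e3 : k • b = p₃ • a' + q₃ • b') :
    False := by
  have f : ∀ i, u i = p₁ * a' i + q₁ * b' i ∧ a i = p₂ * a' i + q₂ * b' i ∧
      k * b i = p₃ * a' i + q₃ * b' i := fun i => ⟨congrFun e1 i, congrFun e2 i, congrFun e3 i⟩
  have h3 := (l (p₂ * q₃ - p₃ * q₂) (p₃ * q₁ - p₁ * q₃) ((p₁ * q₂ - p₂ * q₁) * k) (by
    ext i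
    obtain ⟨f1, f2, f3⟩ := f i
    simp only [Pi.add_apply, Pi.smul_apply, smul_eq_mul, Pi.zero_apply]
    linear_combination (p₂ * q₃ - p₃ * q₂) * f1 + (p₃ * q₁ - p₁ * q₃) * f2 +
      (p₁ * q₂ - p₂ * q₁) * f3)).2.2
  have h4 := (mul_eq_zero.1 h3).resolve_right hk
  have h5 := (l p₂ (-p₁) 0 (by
    ext i
    obtain ⟨f1, f2, -⟩ := f i
    simp only [Pi.add_apply, Pi.smul_apply, smul_eq_mul, Pi.zero_apply]
    linear_combination p₂ * f1 - p₁ * f2 - b' i * h4)).2.1
  have h6 := (l q₂ (-q₁) 0 (by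
    ext i
    obtain ⟨f1, f2, -⟩ := f i
    simp only [Pi.add_apply, Pi.smul_apply, smul_eq_mul, Pi.zero_apply]
    linear_combination q₂ * f1 - q₁ * f2 + a' i * h4)).2.1
  have := (l 1 0 0 (by
    rw [e1, neg_eq_zero.1 h5, neg_eq_zero.1 h6]; simp)).1
  exact one_ne_zero this

/-- `e₀` lies in the span of `a`, `b`. -/
theorem dep {a b a' b' : Vn m K} (p : Pp a b) (pa : Pp (ev 0) a) (pb : Pp (ev 0) b)
    (e : ∀ z, hf z a • a + hf z b • b + hf z (ev 0) • (ev 0 : Vn m K) =
      hf z a' • a' + hf z b' • b') : ¬ Li3 (ev 0) a b := fun l => by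
  obtain ⟨g, k, k0, g0, g1, g2⟩ := H59.UM.w3 pa pb p l
  have h5 := hp.five
  have n01 : (0 : Fin (m + 1)) ≠ 1 := fun e => by
    have := congrArg Fin.val e; rw [v1 h5] at this; simp at this
  have n02 : (0 : Fin (m + 1)) ≠ 2 := fun e => by
    have := congrArg Fin.val e; rw [v2 h5] at this; simp at this
  have n12 : (1 : Fin (m + 1)) ≠ 2 := fun e => by
    have := congrArg Fin.val e; rw [v1 h5, v2 h5] at this; simp at this
  have d : ∀ i : Fin (m + 1), hf (ac g (ev i.rev)) (ev 0) = (if 0 = i then 1 else 0) ∧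
      hf (ac g (ev i.rev)) a = (if 1 = i then 1 else 0) ∧
      hf (ac g (ev i.rev)) b = star k * (if 2 = i then 1 else 0) := fun i => by
    refine ⟨?_, ?_, ?_⟩
    · conv_lhs => rw [← g0]
      rw [hf_ac, hf_ev, Fin.rev_rev]
    · rw [← g1, hf_ac, hf_ev, Fin.rev_rev]
    · rw [← g2, hf_ac, hf_smul_right, hf_ev, Fin.rev_rev]
  have e0 := e (ac g (ev (0 : Fin (m + 1)).rev))
  have e1 := e (ac g (ev (1 : Fin (m + 1)).rev))
  have e2 := e (ac g (ev (2 : Fin (m + 1)).rev))
  rw [(d _).1, (d _).2.1, (d _).2.2] at e0 e1 e2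
  simp only [n01, n02, n12, n01.symm, n02.symm, n12.symm, if_true, if_false, zero_smul, mul_zero,
    one_smul, zero_add, add_zero, mul_one] at e0 e1 e2
  exact not_li3 l (by simpa using k0) e0 e1 e2

theorem fin (h : R0 m K) {v : XU m K} {a b : Vn m K} (pa : Pp (ev 0) a) {l μ : K}
    (hb : b = l • ev 0 + μ • a) (e : ∀ z, ac v z = z + hf z a • a + hf z b • b)
    (r : ∀ c, star c = c → R2 m K (v * Tc c (ev 0))) : v ∈ Q0 m K := by
  have a0 : hf (ev 0 : Vn m K) a = 0 := pa.p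
  have i0 : hf (ev 0 : Vn m K) (ev 0) = 0 := iso0
  by_cases D : 1 + μ * star μ = 0
  · have o : Ok (ev 0 : Vn m K) ((star l * μ) • a) (nm l) := ⟨iso0, by
      rw [hf_smul_left, pa.symm.p, mul_zero], by rw [tr_eq_zero.2 (star_nm l)]; exact (pa.r.smul _).symm⟩
    refine (FV.mem_Q _).2 ⟨_, _, o, ac_ext fun z => ?_⟩
    rw [e, ac_EE o, hb]
    simp only [hf_add_right, hf_smul_right, star_mul', star_star]
    ext i
    simp only [Pi.add_apply, Pi.smul_apply, smul_eq_mul, UA.nm]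
    linear_combination hf z a * a i * D
  exfalso
  obtain ⟨d, hd⟩ : ∃ d, d = 1 + μ * star μ := ⟨_, rfl⟩
  rw [← hd] at D
  have sd : star d = d := by rw [hd, star_add, star_one, star_nm]
  have sc : star (l * star l + l * star l * (μ * star μ) * d⁻¹) =
      l * star l + l * star l * (μ * star μ) * d⁻¹ := by
    simp only [star_add, star_mul', star_star, star_inv₀, sd]; ring
  have iw : Iso (a + (l * star μ * d⁻¹) • (ev 0 : Vn m K)) := by
    simpa using (pa.symm.smul 1 (l * star μ * d⁻¹)).iso_add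
  have e1 : v * Tc (l * star l + l * star l * (μ * star μ) * d⁻¹) (ev 0) =
      Tc d (a + (l * star μ * d⁻¹) • ev 0) := ac_ext fun z => by
    rw [ac_mul, e, ac_Tc iso0 sc, ac_Tc iw sd, hb]
    simp only [hf_add_left, hf_add_right, hf_smul_left, hf_smul_right, star_mul', star_star, a0, i0,
      star_inv₀, sd, mul_zero, add_zero]
    ext i
    simp only [Pi.add_apply, Pi.smul_apply, smul_eq_mul]
    have dd : d * d⁻¹ = 1 := mul_inv_cancel₀ D
    linear_combination -(hf z a * a i) * hd + l * star l * hf z (ev 0) * (ev 0 : Vn m K) i * two0 K -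
      (hf z a * l * star μ * (ev 0 : Vn m K) i + star l * μ * hf z (ev 0) * a i +
        l * star l * μ * star μ * d⁻¹ * hf z (ev 0) * (ev 0 : Vn m K) i) * dd
  obtain ⟨-, r1, r2⟩ := r _ sc
  rw [e1] at r1 r2
  exact (tc_root h iw sd).elim r2 r1

theorem pt (h : R0 m K) : PT m K := by
  intro v hv vv x hx xx hz
  obtain ⟨y, c, o, rfl⟩ := (FV.mem_Q _).1 hx
  by_cases hn : ∃ a : K, y = a • ev 0
  · obtain ⟨a, rfl⟩ := hn
    have e : EE (ev 0) (a • ev 0) c = Tc (c + tr a) (ev 0 : Vn m K) := by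
      rw [Tc, ← EE_shift, zero_add]
    have sc : star c = c := tr_eq_zero.1 (o.tr.trans (iso0.smul a))
    have hx' : EE (ev 0) (a • ev 0) c ∈ Z0 m K :=
      (FV.mem_Z _).2 ⟨_, by rw [star_add, sc, star_tr], e⟩
    obtain ⟨β, hβ⟩ := hz _ hx'
    rw [xx, map_one] at hβ
    rw [eq_inv_of_mul_eq_one_left hβ.symm]
    exact inv_mem hx
  push Not at hn
  have hy : Iso y := by
    rw [EE_mul o o, v_add_self] at xx
    have := Tc_eq_one (ev_ne 0) iso0 (by
      rw [CharTwo.add_self_eq_zero, zero_add, star_hf]) xx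
    rwa [CharTwo.add_self_eq_zero, zero_add] at this
  have r : ∀ d, star d = d → R2 m K (v * Tc d (ev 0)) := fun d hd => by
    refine R2.tp h (hz _ ((FV.mem_Z _).2 ⟨d, hd, rfl⟩)) ?_
    have o' := o.add (ok_zero iso0 hd)
    rw [EE_mul o (ok_zero iso0 hd)]
    rw [add_zero] at o' ⊢
    exact r2_EE h o' hy hn
  have v0 : ac v (ev 0) = ev 0 := by
    obtain ⟨a, -, ha⟩ := (h.cz v).1 hv
    have e := congrArg (fun g => ac g (ev 0 : Vn m K)) vv
    simp only [ac_mul, ha, ac_smul, smul_smul, ac_one] at e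
    have e1 : a * a = 1 := by simpa [ev_apply] using congrFun e 0
    have e2 : a = 1 := by
      have : (a + 1) ^ 2 = 0 := by linear_combination e1 + (a + 1) * two0 K
      linear_combination (pow_eq_zero_iff two_ne_zero).1 this - two0 K
    rw [ha, e2, one_smul]
  obtain ⟨a, b, p, l, e⟩ := (r 0 (star_zero K)).vec h
  rw [Tc, EE_zero, mul_one] at e
  have ev' : ∀ z, ac v z = z + hf z a • a + hf z b • b := fun z => by rw [e, ac_TT2 p]
  have f0 := ev' (ev 0)
  rw [v0, add_assoc, left_eq_add] at f0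
  have pa : Pp (ev 0) a := ⟨iso0, p.l, (l _ _ f0).1⟩
  have pb : Pp (ev 0) b := ⟨iso0, p.r, (l _ _ f0).2⟩
  obtain ⟨a', b', p', -, e'⟩ := (r 1 (star_one K)).vec h
  have nl := dep (a' := a') (b' := b') p pa pb fun z => by
    have := ac_TT2 p' z
    rw [← e', ac_mul, ac_Tc iso0 (star_one K), ac_add, ac_smul, v0, ev', one_mul, add_assoc,
      add_assoc, add_assoc, add_right_inj] at this
    rw [← this, add_assoc]
  simp only [Li3, not_forall] at nl
  obtain ⟨i, j, k, f1, f2⟩ := nl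
  have i0 : i ≠ 0 := fun i0 => by
    rw [i0, zero_smul, zero_add] at f1
    exact f2 ⟨i0, l _ _ f1⟩
  by_cases k0 : k = 0
  · have j0 : j ≠ 0 := fun j0 => by
      rw [k0, j0, zero_smul, zero_smul, add_zero, add_zero] at f1
      exact i0 ((smul_eq_zero.1 f1).resolve_right (ev_ne 0))
    refine fin h pb (b := a) (l := j⁻¹ * i) (μ := 0) ?_ (fun z => by rw [ev', add_right_comm]) r
    ext s
    have := congrFun f1 s
    simp only [Pi.add_apply, Pi.smul_apply, smul_eq_mul, Pi.zero_apply, k0] at this ⊢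
    field_simp
    linear_combination this - i * (ev 0 : Vn m K) s * two0 K
  · refine fin h pa (b := b) (l := k⁻¹ * i) (μ := k⁻¹ * j) ?_ ev' r
    ext s
    have := congrFun f1 s
    simp only [Pi.add_apply, Pi.smul_apply, smul_eq_mul, Pi.zero_apply] at this ⊢
    field_simp
    linear_combination this - (i * (ev 0 : Vn m K) s + j * a s) * two0 K

theorem jobPT : JobPT := fun _ _ _ _ _ _ _ h => pt h

end H70.YUPT
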