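import Cfsg.Agent.H78.S2Kit

/-! STD-SP chapter II, slot `B4`: the symmetries of the family `y`. -/

set_option autoImplicit false
set_option linter.unusedSectionVars false

namespace H70.S2B4

open H64.SG (Cz Cs Ns)
open H67.UA hiding Par
open H67.SP
open H67.SA (SLn la)
open H86.SPI (ok pp hf_self hf_comm EE_mul' EE_comm EE_sq hf_smul_right' TT_conj qq_conj qq_dep
  qq_add_smul TT_mul qq_sq)
open H78.S2
open Matrix Subgroup

universe u

variable {n : ℕ} {F : Type} [Field F] [StarRing F] [TrivialStar F] [CharP F 2] [Finite F] [Par n F]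
  {G : Type u} [Group G] {e : XU n F →* G} {t : G} {y : Vn n F → Vn n F → G}
  {u x : Vn n F} {w w' : G}

theorem hs (h : hf x u = 0) (a b : F) : hf (a • x) (b • u) = 0 := by
  rw [hf_smul_left, hf_smul_right', h, mul_zero, mul_zero]

theorem hs1 (h : hf x u = 0) (a : F) : hf (a • x) u = 0 := by rw [hf_smul_left, h, mul_zero]

theorem hs2 (h : hf x u = 0) (a : F) : hf x (a • u) = 0 := by rw [hf_smul_right', h, mul_zero]

theorem qq_sw (a : F) (u x : Vn n F) : qq (a • u) x = qq (a • x) u := by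
  rw [qq_smul', qq_comm]

theorem qq_inj (h : hf x u = 0) (hl : Li u x) {a b : F} (k : qq (a • x) u = qq (b • x) u) : a = b := by
  obtain ⟨⟨c, hc⟩, -⟩ := EE_inj' (li_ne hl) (hs1 h a) (hs1 h b) k
  have := (hl c (a + b) (by rw [add_smul, hc]; abel_nf; simp [two_smul])).2
  rwa [CharTwo.add_eq_zero] at this

theorem li_smul (hl : Li u x) {a b : F} (ha : a ≠ 0) (hb : b ≠ 0) : Li (a • u) (b • x) :=
  fun r s k => by
    obtain ⟨h1, h2⟩ := hl (r * a) (s * b) (by rwa [mul_smul, mul_smul])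
    exact ⟨(mul_eq_zero.1 h1).resolve_right ha, (mul_eq_zero.1 h2).resolve_right hb⟩

theorem Rw_smul {c : F} (hc : c ≠ 0) (h : Rw e t (c • u) x w) : Rw e t u (c • x) w where
  tr := by rw [h.tr, qq_smul']
  act v d hv := by
    have := h.act (c⁻¹ • v) (d / c ^ 2) (hs hv _ _)
    rw [EE_smul, EE_smul, star_trivial, nm, star_trivial, smul_inv_smul₀ hc, hf_smul_left] at this
    rw [hf_smul_right']
    convert this using 4 <;> field_simp

/-- the coefficient of `x` vanishes -/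
theorem kill (h : hf x u = 0) (hl : Li u x) {a b : F} {q : XU n F}
    (hq : ∀ v, hf v u = 0 → q * EE u v 0 = EE u v 0 * q)
    (k : ∀ v, hf v u = 0 → TT (a • u + b • x) * q * EE u v 0 = EE u v 0 * (TT (a • u + b • x) * q)) :
    b = 0 := by
  obtain ⟨v, h1, h2⟩ := exists_dual hl 0 1
  have k1 := k v h1
  rw [mul_assoc, hq v h1, ← mul_assoc, ← mul_assoc, mul_left_inj, eq_comm,
    ← mul_inv_eq_iff_eq_mul, TT_conj] at k1
  have k2 := H54.SPI.TT_inj k1
  rw [ac_EE' h1 (by rw [hf_add_left, hs1 h, hs1 (hf_self u), add_zero]), add_eq_left, hf_add_left,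
    hs1 (hf_symm h1), hf_smul_left, hf_comm x, h2, mul_one, zero_add] at k2
  exact (smul_eq_zero.1 k2).resolve_right (li_ne hl)

theorem uniq (v : BV e t) (h : hf x u = 0) (hl : Li u x) (r1 : Rw e t u x w) (r2 : Rw e t x u w)
    (r1' : Rw e t u x w') (r2' : Rw e t x u w') (s : w * w = 1) (s' : w' * w' = 1)
    (c : ∀ p, ac p u = u → ac p x = x → e p * w = w * e p)
    (c' : ∀ p, ac p u = u → ac p x = x → e p * w' = w' * e p) :
    ∃ s : F, w' = w * e (qq (s • x) u) := by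
  have cm : ∀ {a b : G}, w * a * w⁻¹ = b → w' * a * w'⁻¹ = b → w⁻¹ * w' * a = a * (w⁻¹ * w') :=
    fun {a b} h1 h2 => by
      rw [← mul_inv_eq_iff_eq_mul, show w⁻¹ * w' * a * (w⁻¹ * w')⁻¹ = w⁻¹ * (w' * a * w'⁻¹) * w by
        group, h2, ← h1]
      group
  obtain ⟨a, b, s, k⟩ := v.v2 (w⁻¹ * w') u x (cm r1.tr r1'.tr) (hf_symm h) hl fun p h1 h2 =>
    cm (mul_inv_eq_iff_eq_mul.2 (c p h1 h2).symm) (mul_inv_eq_iff_eq_mul.2 (c' p h1 h2).symm)
  have te : ∀ {g : G} {p q : XU n F}, Te e t g p → g * e q = e q * g → p * q = q * p :=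
    fun {g p q} k h => v.inj (by
      rcases k with rfl | rfl
      · simpa using h
      · rw [← mul_assoc, ← v.cen, mul_assoc, mul_assoc, mul_right_inj] at h
        simpa using h)
  have b0 : b = 0 := kill h hl (fun v hv => EE_comm (hs1 h s) hv _ _) fun v hv =>
    te k (cm (r1.act v 0 hv) (r1'.act v 0 hv))
  have a0 : a = 0 := kill (hf_symm h) (li_symm hl) (a := b) (q := qq (s • x) u)
    (fun v hv => by rw [← qq_sw]; exact EE_comm (hs1 (hf_symm h) s) hv _ _) fun v hv => by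
      rw [add_comm (b • x)]; exact te k (cm (r2.act v 0 hv) (r2'.act v 0 hv))
  simp only [a0, b0, zero_smul, add_zero, EE_zero_left, one_mul] at k
  rcases k with k | k
  · exact ⟨s, by rw [← k, mul_inv_cancel_left]⟩
  exfalso
  have c1 := c (qq (s • x) u) (ac_EE_u (hs1 h s) 0) (ac_qq_fix (hs1 h s) h (hs2 (hf_self x) s))
  have wi : w⁻¹ = w := inv_eq_of_mul_eq_one_right ‹w * w = 1›
  have tr := r1.tr
  rw [inv_mul_eq_iff_eq_mul] at k
  rw [wi] at tr
  rw [k, show w * (t * e (qq (s • x) u)) * (w * (t * e (qq (s • x) u))) =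
    w * t * (e (qq (s • x) u) * w) * t * e (qq (s • x) u) by group, c1, ← mul_assoc, tr,
    mul_assoc t, ← map_mul, v.cen, mul_assoc _ t t, v.tt, mul_one, ← map_mul, mul_assoc,
    qq_sq (hs1 h s), mul_one, ← map_one e] at s'
  exact one_ne_zero (qq_inj h hl (a := 1) (b := 0) (by simpa using v.inj s'))

theorem li01 : Li (ev 0 : Vn n F) (ev 1) ∧ hf (ev 1 : Vn n F) (ev 0) = 0 := by
  have := (inferInstance : Par n F).five
  have h1 := H54.SPF.v1 this
  refine ⟨H54.SPF.li_iff.2 ?_, by rw [H54.SPF.hf_evv, h1, if_neg (by simp; omega)]⟩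
  convert H54.SPF.li_ev (F := F) (f := ![(0 : Fin (n + 1)), 1]) (fun i j k => ?_) using 1
  · ext i; fin_cases i <;> rfl
  · fin_cases i <;> fin_cases j <;>
      first | rfl | (have := congrArg Fin.val k; simp [h1] at this; omega)

theorem jobB4 : JobB4.{u} := by
  intro n F _ _ _ _ _ _ G _ _ e t _ _ _ _ v y f
  obtain ⟨l0, h0⟩ := li01 (n := n) (F := F)
  -- the constants
  obtain ⟨σ, hσ0⟩ := uniq v h0 l0 (f.rl _ _ h0) (f.rr _ _ h0) (f.rr _ _ (hf_symm h0))
    (f.rl _ _ (hf_symm h0)) (f.sq _ _ h0) (f.sq _ _ (hf_symm h0)) (fun p h1 h2 => f.fix h0 h1 h2)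
    fun p h1 h2 => f.fix (hf_symm h0) h2 h1
  have hσ : ∀ u x, hf x u = 0 → Li u x → y x u = y u x * e (qq (σ • x) u) := fun u x h hl => by
    obtain ⟨g, rfl, rfl⟩ := H54.SPF.w2 u x (hf_symm h) hl
    rw [← f.eqv g _ _ (hf_symm h0), ← f.eqv g _ _ h0, ← ac_smul, ← qq_conj g (hs1 h0 σ), hσ0]
    simp only [map_mul, map_inv]; group
  have hτ0 : ∀ c : F, c ≠ 0 → ∃ s : F, y (c • ev 0) (ev 1) =
      y (ev 0) (c • ev 1) * e (qq (s • ev 1) (ev 0)) := fun c hc => by
    have r2 : Rw e t (c • ev 1) (ev 0) (y (c • ev 0) (ev 1)) := by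
      have := Rw_smul (inv_ne_zero hc) (u := c • ev 1) (x := c • ev 0) (e := e) (t := t)
        (w := y (c • ev 0) (ev 1)) (by rw [inv_smul_smul₀ hc]; exact f.rr _ _ (hs2 h0 c))
      rwa [inv_smul_smul₀ hc] at this
    obtain ⟨s, hs'⟩ := uniq v (hs1 h0 c) (by simpa using li_smul l0 one_ne_zero hc)
      (f.rl _ _ (hs1 h0 c)) (f.rr _ _ (hs1 h0 c)) (Rw_smul hc (f.rl _ _ (hs2 h0 c))) r2
      (f.sq _ _ (hs1 h0 c)) (f.sq _ _ (hs2 h0 c)) (fun p h1 h2 => f.fix (hs1 h0 c) h1 h2)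
      fun p h1 h2 => f.fix (hs2 h0 c) (by rw [ac_smul, h1])
        (smul_right_injective _ hc (by simpa [ac_smul] using h2))
    exact ⟨s * c, by rw [hs', mul_smul]⟩
  choose! τ hτ1 using hτ0
  have hτ : ∀ c : F, c ≠ 0 → ∀ u x, hf x u = 0 → Li u x →
      y (c • u) x = y u (c • x) * e (qq (τ c • x) u) := fun c hc u x h hl => by
    obtain ⟨g, rfl, rfl⟩ := H54.SPF.w2 u x (hf_symm h) hl
    rw [← ac_smul, ← ac_smul, ← ac_smul, ← f.eqv g _ _ (hs2 h0 c), ← f.eqv g _ _ (hs1 h0 c),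
      ← qq_conj g (hs1 h0 _), hτ1 c hc]
    simp only [map_mul, map_inv]; group
  have σ1 : σ = 1 := by
    set u : Vn n F := ev 0
    set x : Vn n F := ev 1
    have h1 : hf (u + x) u = 0 := by rw [hf_add_left, h0, hf_self, add_zero]
    have h2 : hf (u + x) x = 0 := by rw [hf_add_left, hf_symm h0, hf_self, add_zero]
    have e1 := hσ u (u + x) h1 fun a b k => by
      obtain ⟨k1, k2⟩ := l0 (a + b) b (by rw [← k, add_smul, smul_add, add_assoc])
      exact ⟨by simpa [k2] using k1, k2⟩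
    have e2 := hσ x (u + x) h2 fun a b k => by
      obtain ⟨k1, k2⟩ := l0 b (a + b) (by rw [← k, add_smul, smul_add]; abel)
      exact ⟨by simpa [k1] using k2, k1⟩
    have e3 := f.sh h0 1
    have e4 := f.sh (hf_symm h0) 1
    have e5 := f.sh (hf_symm h2) 1
    rw [one_smul] at e3 e4 e5
    rw [add_comm u, e3, smul_add, qq, EE_shift', add_comm x] at e1
    rw [add_comm u, ← add_assoc, v_add_self, zero_add, add_comm x, e1, e2, e4, hσ u x h0 l0, smul_add,
      qq, qq, EE_shift'] at e5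
    simp only [mul_assoc, mul_right_inj, ← map_mul] at e5
    have e6 := v.inj e5
    rw [← mul_assoc (TT x), ← EE_comm (hs1 (hf_symm h0) σ) (hf_zero_left x), ← qq, ← qq, qq_sw σ u x,
      ← mul_assoc, ← mul_assoc, qq_sq (hs1 h0 σ), one_mul, TT_mul (hf_symm h2), add_comm u,
      ← add_assoc, v_add_self, zero_add, mul_right_inj, add_comm x] at e6
    refine qq_inj h0 l0 (e6.trans ?_)
    rw [one_smul, qq_comm x u]
    simpa using EE_shift' 1 x u 0
  have sw : ∀ u x, hf x u = 0 → y x u = y u x * e (qq x u) := fun u x h => by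
    by_cases hu : u = 0
    · simp [hu, f.zero, f.y0]
    by_cases hl : Li u x
    · simpa [σ1] using hσ u x h hl
    obtain ⟨c, rfl⟩ := dep_of_not_li hu hl
    rw [qq_dep, map_one, mul_one, f.dep]
    by_cases hc : c = 0
    · simp [hc, f.zero]
    · conv_lhs => arg 2; rw [← inv_smul_smul₀ hc u]
      rw [f.dep, Tc_smul']
      congr 2; field_simp
  refine ⟨sw, fun c u x h => ?_⟩
  by_cases hc : c = 0
  · simp [hc, f.zero, f.y0]
  by_cases hu : u = 0
  · simp [hu, f.zero]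
  by_cases hl : Li u x
  swap
  · obtain ⟨a, rfl⟩ := dep_of_not_li hu hl
    rw [smul_smul, f.dep, show a • u = (a / c) • c • u by rw [smul_smul, div_mul_cancel₀ _ hc], f.dep,
      Tc_smul']
    congr 2; field_simp
  obtain ⟨a, rfl⟩ : ∃ a : F, c = a * a := ⟨rt c, by rw [← pow_two, rt_sq]⟩
  have ha : a ≠ 0 := fun k => hc (by rw [k, mul_zero])
  have e1 := hτ a ha u (a • x) (hs1 h a) (by simpa using li_smul hl one_ne_zero ha)
  have e2 := hτ a ha x (a • u) (hs1 (hf_symm h) a) (by simpa using li_smul (li_symm hl) one_ne_zero ha)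
  rw [sw _ _ (hs (hf_symm h) a a), e2, smul_smul, smul_smul, smul_smul, smul_smul,
    sw _ _ (hs2 h (a * a)), qq_sw _ u x, ← qq_smul', ← qq_smul', smul_smul, qq_sw _ u x] at e1
  simp only [mul_assoc, ← map_mul, qq_add_smul (hf_symm h)] at e1
  rw [add_comm (a * a), add_assoc, CharTwo.add_self_eq_zero, add_zero] at e1
  exact mul_right_cancel e1

end H70.S2B4
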