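import Cfsg.Agent.H4.Cover
import Cfsg.Agent.H70.L2Rec
import Cfsg.Agent.H61.PSLMin
import Cfsg.Agent.S2507
import Cfsg.Agent.S2508

/-! Groups with the class sizes of `PSL₂(q)`. -/

set_option autoImplicit false

namespace H70.Cls

open Subgroup H4 MatrixGroups
open scoped commutatorElement

variable {G : Type*} [Group G] [Finite G]

/-- `m` is a minimal nontrivial class size. -/
def Mn (G : Type*) [Group G] (m : ℕ) : Prop := m ≠ 1 ∧ ∀ g : G, ind g ∣ m → ind g = 1 ∨ ind g = m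

theorem exists_primary {x : G} (h : Mn G (ind x)) :
    ∃ e r k : ℕ, r.Prime ∧ orderOf (x ^ e) = r ^ k ∧ ind (x ^ e) = ind x := by
  by_contra! hc
  exact h.1 (ind_eq_one_iff.2 (mem_of_forall_primePow_mem x fun e r k hr _ ho =>
    ind_eq_one_iff.1 ((h.2 _ (ind_pow_dvd x e)).resolve_right (hc e r k hr ho))))

theorem eq_of_le_of_index {A B : Subgroup G} (h : A ≤ B) (e : A.index = B.index) : A = B := by
  refine eq_of_le_of_card_ge h (Nat.eq_of_mul_eq_mul_right
    (Nat.pos_of_ne_zero (index_ne_zero_of_finite (H := B))) ?_).le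
  rw [card_mul_index, ← e, card_mul_index]

theorem cent_le {y z : G} (mx : ∀ g : G, ind y ∣ ind g → ind g = ind y) (hc : Commute y z)
    (co : (orderOf y).Coprime (orderOf z)) : centralizer {y} ≤ centralizer ({z} : Set G) := by
  have e := H24.centralizer_mul_of_coprime hc co
  rw [← eq_of_le_of_index (e.le.trans inf_le_left) (mx _ (ind_dvd_ind_mul_left hc co)), e]
  exact inf_le_right

theorem key {s t k : ℕ} (hs : s.Prime) (ht : t.Prime) (st : s ≠ t) {y g₀ g₁ : G}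
    (mx : ∀ g : G, ind y ∣ ind g → ind g = ind y) (mn : Mn G (ind y)) (tm : ¬ t ∣ ind y)
    (tg : t ∣ ind g₀) (sm : ¬ s ∣ ind g₁) (mn' : Mn G (ind g₁)) (ne : ind g₁ ≠ ind y)
    (hy : orderOf y = s ^ k) : False := by
  have := Fact.mk hs
  have := Fact.mk ht
  have co : ∀ {a b i j : ℕ}, a.Prime → b.Prime → a ≠ b → (a ^ i).Coprime (b ^ j) :=
    fun ha hb h => Nat.coprime_pow_primes _ _ ha hb h
  obtain ⟨P⟩ : Nonempty (Sylow t G) := inferInstance
  obtain ⟨g, hg⟩ := exists_conj_mem_centralizer_sylow P tm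
  obtain ⟨τ, τP, τ1⟩ : ∃ τ ∈ (P : Subgroup G), τ ∉ center G := by
    by_contra! hc
    exact not_dvd_ind_of_mem_centralizer_sylow P (fun x hx => (mem_center_iff.1 (hc x hx) g₀).symm) tg
  obtain ⟨i, hi⟩ := (IsPGroup.iff_orderOf.1 P.isPGroup') ⟨τ, τP⟩
  rw [orderOf_mk] at hi
  have oc : ∀ a x : G, orderOf (a * x * a⁻¹) = orderOf x := fun a x =>
    orderOf_injective (MulAut.conj a).toMonoidHom (MulAut.conj a).injective x
  have c1 : Commute y (g⁻¹ * τ * g⁻¹⁻¹) := by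
    have := hg τ τP
    calc y * (g⁻¹ * τ * g⁻¹⁻¹) = g⁻¹ * (g * y * g⁻¹ * τ) * g := by group
      _ = _ := by rw [← this]; group
  have l1 := cent_le mx c1 (by rw [oc, hy, hi]; exact co hs ht st)
  have i1 : ind (g⁻¹ * τ * g⁻¹⁻¹) = ind y := (mn.2 _ (ind_dvd_of_le l1)).resolve_left fun e => by
    rw [ind_conj] at e; exact τ1 (ind_eq_one_iff.1 e)
  obtain ⟨e, r, j, hr, ho, ie⟩ := exists_primary mn'
  obtain ⟨S, hS⟩ := IsPGroup.exists_le_sylow (p := s) (P := zpowers y)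
    (IsPGroup.of_card (by rw [Nat.card_zpowers, hy]))
  obtain ⟨a, ha⟩ := exists_conj_mem_centralizer_sylow S (ie ▸ sm)
  have c2 : Commute y (a * g₁ ^ e * a⁻¹) := ha y (hS (mem_zpowers y))
  have d : ind (a * g₁ ^ e * a⁻¹) ∣ ind y := by
    by_cases e1 : s = r
    · have c3 : Commute (g⁻¹ * τ * g⁻¹⁻¹) (a * g₁ ^ e * a⁻¹) :=
        (mem_cent_iff.1 (l1 (mem_cent_iff.2 c2.eq.symm))).symm
      have c4 : (orderOf (g⁻¹ * τ * g⁻¹⁻¹)).Coprime (orderOf (a * g₁ ^ e * a⁻¹)) := by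
        rw [oc, oc, hi, ho]; exact co ht hr (e1 ▸ st.symm)
      rw [← mx _ (i1 ▸ ind_dvd_ind_mul_left c3 c4)]
      exact ind_dvd_ind_mul_right c3 c4
    · exact ind_dvd_of_le (cent_le mx c2 (by rw [oc, hy, ho]; exact co hs hr e1))
  rw [ind_conj, ie] at d
  exact (mn.2 _ d).elim mn'.1 ne

theorem not_dvd_relIndex {s : ℕ} (hs : s.Prime) {x : G}
    (mx : ∀ g : G, ind x ∣ ind g → ind g = ind x) (mn : Mn G (ind x))
    (h : ∀ (y : G) (k : ℕ), ind y = ind x → orderOf y ≠ s ^ k) :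
    ¬ s ∣ (center G).relIndex (centralizer {x}) := by
  have := Fact.mk hs
  obtain ⟨e, r, j, hr, ho, ie⟩ := exists_primary mn
  obtain ⟨P⟩ : Nonempty (Sylow s (centralizer ({x} : Set G))) := inferInstance
  refine fun hd => P.not_dvd_index (hd.trans (index_dvd_of_le fun z hz => ?_))
  obtain ⟨i, hi⟩ := (IsPGroup.iff_orderOf.1 P.isPGroup') ⟨z, hz⟩
  rw [orderOf_mk, ← orderOf_coe] at hi
  have c : Commute (x ^ e) z := (mem_cent_iff.1 (cent_le_cent_pow x e z.2)).symm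
  have d := ind_dvd_of_le (cent_le (by rwa [ie]) c (by
    rw [ho, hi]; exact Nat.coprime_pow_primes _ _ hr hs fun e1 => h _ j ie (e1 ▸ ho)))
  exact ind_eq_one_iff.1 ((mn.2 _ (d.trans ie.dvd)).resolve_right fun e1 => h _ i e1 hi)

/-- The class sizes are `1, u w, q w, q u, c q u`. -/
structure Sz (G : Type*) [Group G] (q u w c : ℕ) : Prop where
  all : ∀ g : G, ind g = 1 ∨ ind g = u * w ∨ ind g = q * w ∨ ind g = q * u ∨ ind g = c * (q * u)
  e1 : ∃ g : G, ind g = u * w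
  e2 : ∃ g : G, ind g = q * w
  e3 : ∃ g : G, ind g = q * u
  q1 : 1 < q
  u1 : 1 < u
  w2 : 2 < w
  c2 : c = 1 ∨ c = 2
  qu : q.Coprime u
  qw : q.Coprime w
  uw : u.Coprime w

namespace Sz

variable {q u w c : ℕ} (h : Sz G q u w c)
include h

omit [Finite G] in
theorem symm : Sz G u q w c :=
  ⟨fun g => by rw [mul_comm u q]; have := h.all g; tauto, h.e2, h.e1, by rw [mul_comm]; exact h.e3,
    h.u1, h.q1, h.w2, h.c2, h.qu.symm, h.uw, h.qw⟩

omit [Finite G] in
theorem nq : ¬ q ∣ u * w := fun e =>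
  h.q1.ne' (Nat.eq_one_of_dvd_coprimes (Nat.Coprime.mul_right h.qu h.qw) dvd_rfl e)

omit [Finite G] in
theorem nw : ¬ w ∣ c * (q * u) := fun e => by
  have := Nat.le_of_dvd (by rcases h.c2 with k | k <;> omega)
    ((Nat.Coprime.mul_right h.qw.symm h.uw.symm).dvd_of_dvd_mul_right e)
  have := h.w2
  rcases h.c2 with k | k <;> omega

omit [Finite G] in
theorem mn1 : Mn G (u * w) := by
  refine ⟨fun e => h.u1.ne' (Nat.eq_one_of_mul_eq_one_right e), fun g e => ?_⟩
  rcases h.all g with k | k | k | k | k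
  · exact Or.inl k
  · exact Or.inr k
  · exact absurd ((Dvd.intro _ k.symm).trans e) h.nq
  · exact absurd ((Dvd.intro _ k.symm).trans e) h.nq
  · exact absurd ((k ▸ (Dvd.intro u rfl).mul_left c : q ∣ ind g).trans e) h.nq

omit [Finite G] in
theorem mn3 : Mn G (q * u) := by
  refine ⟨fun e => h.q1.ne' (Nat.eq_one_of_mul_eq_one_right e), fun g e => ?_⟩
  rcases h.all g with k | k | k | k | k
  · exact Or.inl k
  · exact absurd (((Dvd.intro_left _ k.symm).trans e).mul_left c) h.nw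
  · exact absurd (((Dvd.intro_left _ k.symm).trans e).mul_left c) h.nw
  · exact Or.inr k
  · exact Or.inr (Nat.dvd_antisymm e (Dvd.intro_left _ k.symm))

omit [Finite G] in
theorem mx1 (g : G) (e : u * w ∣ ind g) : ind g = u * w := by
  rcases h.all g with k | k | k | k | k
  · exact absurd (Nat.dvd_one.1 (k ▸ e)) h.mn1.1
  · exact k
  · exact absurd ((Dvd.intro _ rfl).trans (k ▸ e)) h.symm.nq
  · exact absurd (((Dvd.intro_left _ rfl).trans (k ▸ e)).mul_left c) h.nw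
  · exact absurd ((Dvd.intro_left _ rfl).trans (k ▸ e)) h.nw

theorem primes {x : G} (hx : ind x = u * w) {s : ℕ} (hs : s.Prime)
    (hd : s ∣ (center G).relIndex (centralizer {x})) : s ∣ q := by
  by_contra hc
  obtain ⟨g₂, e2⟩ := h.e2
  obtain ⟨g₃, e3⟩ := h.e3
  have ht := Nat.minFac_prime h.q1.ne'
  have tq := Nat.minFac_dvd q
  refine not_dvd_relIndex hs (by rw [hx]; exact h.mx1) (hx ▸ h.mn1) (fun y k e ho => ?_) hd
  rw [hx] at e
  have k := fun g₁ => key (g₀ := g₂) (g₁ := g₁) (y := y) (k := k) hs ht (fun e => hc (e ▸ tq))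
    (by rw [e]; exact h.mx1) (e ▸ h.mn1) (fun d => ht.one_lt.ne' (Nat.eq_one_of_dvd_coprimes
      (Nat.Coprime.mul_right h.qu h.qw) tq (e ▸ d))) (e2 ▸ tq.mul_right w)
  by_cases sw : s ∣ w
  · exact k g₃ (fun d => ((Nat.Prime.dvd_mul hs).1 (e3 ▸ d)).elim hc fun d =>
      hs.one_lt.ne' (Nat.eq_one_of_dvd_coprimes h.uw d sw)) (e3 ▸ h.mn3)
      (fun d => h.nq (Dvd.intro _ (e3.symm.trans (d.trans e)))) ho
  · exact k g₂ (fun d => ((Nat.Prime.dvd_mul hs).1 (e2 ▸ d)).elim hc sw) (e2 ▸ h.symm.mn1)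
      (fun d => h.nq (Dvd.intro _ (e2.symm.trans (d.trans e)))) ho

omit h [Finite G] in
theorem rel_mul (x : G) : (center G).relIndex (centralizer {x}) * ind x = (center G).index :=
  relIndex_mul_index (center_le_centralizer _)

theorem index_center : (center G).index = q * (u * w) := by
  obtain ⟨x, e1⟩ := h.e1
  obtain ⟨y, e2⟩ := h.e2
  have k1 := rel_mul x
  have k2 := rel_mul y
  have p1 := fun s hs => h.primes e1 (s := s) hs
  have p2 := fun s hs => h.symm.primes e2 (s := s) hs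
  rw [e1] at k1
  rw [e2, ← k1, ← mul_assoc, ← mul_assoc] at k2
  have k3 := Nat.eq_of_mul_eq_mul_right (by have := h.w2; omega) k2
  have k4 : ((center G).relIndex (centralizer {x})).Coprime ((center G).relIndex (centralizer {y})) :=
    Nat.coprime_of_dvd fun s hs d1 d2 =>
      hs.one_lt.ne' (Nat.eq_one_of_dvd_coprimes h.qu (p1 s hs d1) (p2 s hs d2))
  rw [← k1, Nat.dvd_antisymm (k4.dvd_of_dvd_mul_left (Dvd.intro _ k3.symm))
    (h.qu.dvd_of_dvd_mul_right (Dvd.intro_left _ k3))]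

theorem order (g : G ⧸ center G) : orderOf g ∣ q ∨ orderOf g ∣ u ∨ orderOf g ∣ w := by
  obtain ⟨x, rfl⟩ := QuotientGroup.mk_surjective g
  have d : orderOf (x : G ⧸ center G) ∣ (center G).relIndex (centralizer {x}) := by
    rw [orderOf_dvd_iff_pow_eq_one, ← QuotientGroup.mk_pow, QuotientGroup.eq_one_iff]
    exact pow_relIndex_mem (center G) (mem_cent_iff.2 rfl)
  have k := rel_mul x
  have q0 : 0 < q := by have := h.q1; omega
  have u0 : 0 < u := by have := h.u1; omega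
  have w0 : 0 < w := by have := h.w2; omega
  rw [h.index_center] at k
  rcases h.all x with e | e | e | e | e <;> rw [e] at k
  · left
    rw [(QuotientGroup.eq_one_iff x).2 (ind_eq_one_iff.1 e), orderOf_one]
    exact one_dvd _
  · exact Or.inl (Nat.eq_of_mul_eq_mul_right (by positivity) k ▸ d)
  · exact Or.inr (Or.inl (Nat.eq_of_mul_eq_mul_right (by positivity : 0 < q * w)
      (k.trans (by ring : _ = u * (q * w))) ▸ d))
  · exact Or.inr (Or.inr (Nat.eq_of_mul_eq_mul_right (by positivity : 0 < q * u)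
      (k.trans (by ring : _ = w * (q * u))) ▸ d))
  · exact Or.inr (Or.inr (d.trans (Dvd.intro c (Nat.eq_of_mul_eq_mul_right
      (by positivity : 0 < q * u) (by rw [mul_assoc, k]; ring)))))

end Sz

omit [Finite G] in
theorem mem_der {H C : Subgroup G} (le : C ≤ H) (ab : ∀ a ∈ C, ∀ b ∈ C, a * b = b * a)
    (i2 : ∀ x ∈ H, ∀ y ∈ H, x ∉ C → y ∉ C → x * y⁻¹ ∈ C) {d : G} (hd : d ∈ ⁅H, H⁆) :
    ∃ j a : G, d = j * a * j⁻¹ * a⁻¹ := by
  by_cases e : H ≤ C
  · refine ⟨1, 1, ?_⟩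
    simpa using (commutator_le (H₃ := ⊥)).2 (fun x hx y hy => mem_bot.2
      (commutatorElement_eq_one_iff_mul_comm.2 (ab x (e hx) y (e hy)))) hd
  obtain ⟨j, hj, j1⟩ := SetLike.not_le_iff_exists.1 e
  have n : ∀ a ∈ C, j * a * j⁻¹ ∈ C := fun a ha =>
    i2 _ (mul_mem hj (le ha)) j hj (fun k => j1 ((C.mul_mem_cancel_right ha).1 k)) j1
  let D : Subgroup G :=
    { carrier := {d | ∃ a ∈ C, d = j * a * j⁻¹ * a⁻¹}
      one_mem' := ⟨1, one_mem _, by simp⟩
      mul_mem' := by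
        rintro _ _ ⟨a, ha, rfl⟩ ⟨b, hb, rfl⟩
        refine ⟨a * b, mul_mem ha hb, ?_⟩
        calc _ = j * a * j⁻¹ * (a⁻¹ * (j * b * j⁻¹ * b⁻¹)) := by group
          _ = _ := by rw [ab _ (inv_mem ha) _ (mul_mem (n b hb) (inv_mem hb))]; group
      inv_mem' := by
        rintro _ ⟨a, ha, rfl⟩
        refine ⟨a⁻¹, inv_mem ha, ?_⟩
        rw [inv_inv, ab _ (n _ (inv_mem ha)) a ha]; group }
  have k1 : ∀ x ∈ H, ∀ y ∈ C, ⁅x, y⁆ ∈ D := fun x hx y hy => by
    by_cases e : x ∈ C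
    · rw [commutatorElement_eq_one_iff_mul_comm.2 (ab x e y hy)]; exact one_mem _
    · refine ⟨y, hy, ?_⟩
      calc _ = x * j⁻¹ * (j * y * j⁻¹) * (x * j⁻¹)⁻¹ * y⁻¹ := by rw [commutatorElement_def]; group
        _ = _ := by rw [ab _ (i2 x hx j hj e j1) _ (n y hy)]; group
  obtain ⟨a, -, e⟩ := (commutator_le (H₃ := D)).2 (fun x hx y hy => by
    by_cases e1 : y ∈ C
    · exact k1 x hx y e1
    by_cases e2 : x ∈ C
    · rw [← commutatorElement_inv]; exact inv_mem (k1 y hy x e2)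
    have := inv_mem (k1 y hy _ (i2 x hx y hy e2 e1))
    simpa [commutatorElement_def, mul_assoc] using this) hd
  exact ⟨j, a, e⟩

theorem pow_index_eq_one {H : Subgroup G} (h : ∀ d ∈ ⁅H, H⁆, d ∈ center G → d = 1) {z : G}
    (hz : z ∈ center G) (hc : z ∈ commutator G) : z ^ H.index = 1 := by
  have k := MonoidHom.transfer_eq_pow (Abelianization.of : H →* Abelianization H) z fun k g _ => by
    rw [mul_assoc, ← mem_center_iff.1 (pow_mem hz k) g, inv_mul_cancel_left]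
  rw [Abelianization.commutator_subset_ker _ hc, eq_comm] at k
  refine h _ ?_ (pow_mem hz _)
  rw [← map_subtype_commutator]
  exact mem_map_of_mem H.subtype ((QuotientGroup.eq_one_iff _).1 k)

theorem split {L : Type*} [Group L] [Finite L] {q u w c : ℕ} (h : Sz G q u w c) (h' : Sz L q u w c)
    (π : G →* L) (sj : Function.Surjective π) (hk : π.ker = center G) (z1 : center L = ⊥)
    (f1 : ∀ g : L, g ≠ 1 → ∃ C ≤ centralizer {g}, (∀ a ∈ C, ∀ b ∈ C, a * b = b * a) ∧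
      ∀ x ∈ centralizer {g}, ∀ y ∈ centralizer {g}, x ∉ C → y ∉ C → x * y⁻¹ ∈ C)
    (f2 : c = 1 ∨ ∀ g g' : L, ind g = q * u → ind g' = q * u → IsConj g g') :
    commutator G ⊓ center G = ⊥ := by
  have le : ∀ x, centralizer {x} ≤ (centralizer {π x}).comap π := fun x g hg =>
    mem_cent_iff.2 (by rw [← map_mul, mem_cent_iff.1 hg, map_mul])
  have dv : ∀ x, ind (π x) ∣ ind x := fun x =>
    (index_comap_of_surjective _ sj).symm.dvd.trans (index_dvd_of_le (le x))
  have one : ∀ x, ind (π x) = 1 → ind x = 1 := fun x e => by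
    rw [ind_eq_one_iff] at e ⊢
    rwa [z1, mem_bot, ← MonoidHom.mem_ker, hk] at e
  have mn : ∀ x m, Mn L m → ind x = m → ind (π x) = ind x := fun x m hm e =>
    ((hm.2 _ (e ▸ dv x)).resolve_left fun k => hm.1 (e ▸ one x k)).trans e.symm
  have eq : ∀ x, ind (π x) = ind x := fun x => by
    rcases h.all x with e | e | e | e | e
    · rw [e, ← Nat.dvd_one, ← e]; exact dv x
    · exact mn x _ h'.mn1 e
    · exact mn x _ h'.symm.mn1 e
    · exact mn x _ h'.mn3 e
    rcases f2 with rfl | f2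
    · exact mn x _ h'.mn3 (by rw [e, one_mul])
    rcases h'.all (π x) with k | k | k | k | k
    · rw [k, one x k]
    · exact absurd ((Dvd.intro_left _ k.symm).trans (e ▸ dv x)) h.nw
    · exact absurd ((Dvd.intro_left _ k.symm).trans (e ▸ dv x)) h.nw
    · obtain ⟨x₀, e0⟩ := h.e3
      obtain ⟨g, hg⟩ := isConj_iff.1 (f2 _ _ ((mn x₀ _ h'.mn3 e0).trans e0) k)
      obtain ⟨g, rfl⟩ := sj g
      have z : x⁻¹ * (g * x₀ * g⁻¹) ∈ center G := by
        rw [← hk, MonoidHom.mem_ker]; simp [hg]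
      rw [k, ← e0, ← ind_conj g]
      refine congrArg index (Subgroup.ext fun y => ?_)
      rw [mem_cent_iff, mem_cent_iff, ← mul_inv_cancel_left x (g * x₀ * g⁻¹), ← mul_assoc y,
        mul_assoc x, ← mem_center_iff.1 z y, ← mul_assoc x y, mul_left_inj]
    · rw [k, e]
  have cp : ∀ x y, π x * π y = π y * π x → x * y = y * x := fun x y e => mem_cent_iff.1
    ((eq_of_le_of_index (le y) (by rw [index_comap_of_surjective _ sj]; exact (eq y).symm)).ge
      (mem_cent_iff.2 e))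
  refine eq_bot_iff.2 fun z hz => mem_bot.2 ?_
  have pw : ∀ x m, Mn G m → ind x = m → orderOf z ∣ m := fun x m hm e => by
    obtain ⟨C, c1, c2, c3⟩ := f1 (π x) fun k => hm.1 (e ▸ one x (by simp [k]))
    rw [← e, orderOf_dvd_iff_pow_eq_one]
    refine pow_index_eq_one (fun d hd hc => ?_) hz.2 hz.1
    obtain ⟨j, a, rfl⟩ := mem_der (C := C.comap π)
      (fun y hy => mem_cent_iff.2 (cp _ _ (mem_cent_iff.1 (c1 hy))))
      (fun a ha b hb => cp a b (c2 _ ha _ hb))
      (fun a ha b hb a1 b1 => by simpa using c3 _ (le x ha) _ (le x hb) a1 b1) hd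
    rw [← hk, MonoidHom.mem_ker] at hc
    rw [cp j a (by simpa [mul_inv_eq_iff_eq_mul] using hc)]; group
  obtain ⟨x1, e1⟩ := h.e1
  obtain ⟨x2, e2⟩ := h.e2
  obtain ⟨x3, e3⟩ := h.e3
  have d1 := pw x1 _ h.mn1 e1
  have c1 : (orderOf z).Coprime q :=
    Nat.Coprime.coprime_dvd_left d1 (Nat.Coprime.mul_right h.qu h.qw).symm
  exact orderOf_eq_one_iff.1 (Nat.eq_one_of_dvd_coprimes h.uw
    (c1.dvd_of_dvd_mul_left (pw x3 _ h.mn3 e3)) (c1.dvd_of_dvd_mul_left (pw x2 _ h.symm.mn1 e2)))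

theorem hur_f1 {p : ℕ} {X : Type*} [MulAction G X] (h : H61.Hur p G X) (g : G) (h1 : g ≠ 1) :
    ∃ C ≤ centralizer {g}, (∀ a ∈ C, ∀ b ∈ C, a * b = b * a) ∧
      ∀ x ∈ centralizer {g}, ∀ y ∈ centralizer {g}, x ∉ C → y ∉ C → x * y⁻¹ ∈ C := by
  by_cases h2 : g ^ p = 1
  · obtain ⟨a, ha⟩ := h.fix g
    have e := h.centralizer_eq_Q (h.mem_Q.2 ⟨ha, h2⟩) h1
    exact ⟨_, e.ge, fun _ ha _ hb => h.Q_comm ha hb, fun x hx _ _ k => absurd (e.le hx) k⟩
  obtain ⟨a, b, ab, hg⟩ := h.exists_tor h2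
  refine ⟨_, fun x hx => mem_cent_iff.2 (h.tor_comm ab hx hg), fun _ ha _ hb => h.tor_comm ab ha hb,
    fun x hx y hy k1 k2 => ?_⟩
  obtain ⟨x1, x2⟩ := (h.centralizer_le_pairStab ab hg h1 hx).resolve_left k1
  obtain ⟨y1, y2⟩ := (h.centralizer_le_pairStab ab hg h1 hy).resolve_left k2
  exact H61.mem_tor.2 ⟨by rw [mul_smul, inv_smul_eq_iff.2 y2.symm, x2],
    by rw [mul_smul, inv_smul_eq_iff.2 y1.symm, x1]⟩

omit [Finite G] in
theorem Sz.of_range {L : Type*} [Group L] {q u w c : ℕ} (h : Sz L q u w c)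
    (e : Set.range (ind (G := G)) = Set.range (ind (G := L))) : Sz G q u w c :=
  ⟨fun g => by obtain ⟨l, hl⟩ := e.le ⟨g, rfl⟩; rw [← hl]; exact h.all l, e.ge h.e1, e.ge h.e2,
    e.ge h.e3, h.q1, h.u1, h.w2, h.c2, h.qu, h.qw, h.uw⟩

variable {F : Type*} [Field F] [Fintype F]

open scoped H61 in
theorem data (hq : (2 ∣ Fintype.card F ∧ 2 < Fintype.card F) ∨
    (¬ 2 ∣ Fintype.card F ∧ 7 ≤ Fintype.card F)) : ∃ u w c,
    Sz PSL(2, F) (Fintype.card F) u w c ∧ Nat.card PSL(2, F) = Fintype.card F * (u * w) ∧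
    (Fintype.card F % 4 = 3 → w = Fintype.card F + 1 ∧ Odd u) ∧
    (c = 1 ∨ ∀ g g' : PSL(2, F), ind g = Fintype.card F * u → ind g' = Fintype.card F * u →
      IsConj g g') := by
  have mk : ∀ {q u w c : ℕ} {N : Set ℕ}, (∀ n, n ∈ N ↔ n = 1 ∨ n = u * w ∨ n = q * w ∨ n = q * u ∨
      n = c * (q * u)) → 1 < q → 1 < u → 2 < w → c = 1 ∨ c = 2 → q.Coprime u → q.Coprime w →
      u.Coprime w → Set.range (ind (G := PSL(2, F))) = N → Sz PSL(2, F) q u w c := by
    intro q u w c N k a1 a2 a3 a4 a5 a6 a7 e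
    subst e
    exact ⟨fun g => (k _).1 ⟨g, rfl⟩, (k _).2 (by simp), (k _).2 (by simp), (k _).2 (by simp),
      a1, a2, a3, a4, a5, a6, a7⟩
  have hc := H61.gcd_mul_card_psl_two (k := F)
  rcases hq with ⟨h2, h3⟩ | ⟨h2, h7⟩
  · have e := Cfsg.Agent.S2507.result h2 (by omega)
    rw [Nat.card_eq_fintype_card (α := F), H61.gcd_two_of_even (even_iff_two_dvd.2 h2) (by omega),
      one_mul] at hc
    obtain ⟨d, hd⟩ : ∃ d, Fintype.card F = 2 * d + 1 + 1 := ⟨Fintype.card F / 2 - 1, by omega⟩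
    have e1 : (2 * d + 1 + 1) ^ 2 - 1 = (2 * d + 1) * (2 * d + 1 + 2) := Nat.sub_eq_of_eq_add (by ring)
    rw [hd, e1] at e hc
    rw [hd]
    refine ⟨2 * d + 1, 2 * d + 1 + 2, 1, mk (fun n => ?_) (by omega) (by omega) (by omega)
      (Or.inl rfl) (by simp) (by simp [show 2 * d + 1 + 2 = 2 * d + 1 + 1 + 1 from rfl]) ?_ e,
      hc, by omega, Or.inl rfl⟩
    · simp only [Set.mem_insert_iff, Set.mem_singleton_iff, Nat.add_sub_cancel, one_mul]
      tauto
    · rw [Nat.coprime_self_add_right, Nat.coprime_two_right]; exact odd_two_mul_add_one d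
  have e := Cfsg.Agent.S2508.result h2 h7
  have od : Odd (Nat.card F) := by rw [Nat.card_eq_fintype_card, Nat.odd_iff]; omega
  obtain ⟨p, hp, _, y, d, p2, hd, m⟩ := H61.main_psl_odd od
  have hN := m.card_eq
  have inv : ∀ (g : PSL(2, F)) (k l : ℕ), l ≠ 1 → Nat.card PSL(2, F) = 2 * k * l → d ≤ k → 3 ≤ d →
      2 * k ≠ Nat.card F → ind g = l → orderOf g = 2 := by
    intro g k l l1 e1 dk d3 kq e2
    have g1 : g ≠ 1 := fun e => l1 (e2 ▸ ind_eq_one_iff.2 (e ▸ one_mem _))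
    have c : Nat.card (centralizer {g}) = 2 * k := Nat.eq_of_mul_eq_mul_right (ind_pos g) (by
      rw [card_mul_index, e1, e2])
    refine H61.orderOf_eq_two_iff'.2 ⟨g1, by_contra fun h3 => ?_⟩
    by_cases h4 : g ^ p = 1
    · obtain ⟨a, ha⟩ := (H61.hur_psl F p).fix g
      have hga : g ∈ (H61.hur_psl F p).Q a := ⟨ha, h4⟩
      rw [(H61.hur_psl F p).centralizer_eq_Q hga g1,
        m.card_Q_of_mem (m.mem_orbit_of_Q fun hb => g1 (by rwa [hb] at hga))] at c
      exact kq c.symm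
    obtain ⟨a, b, ab, hg⟩ := (H61.hur_psl F p).exists_tor h4
    rw [(H61.hur_psl F p).centralizer_eq_tor ab hg h3] at c
    rcases m.tor_cases ab (fun hb => g1 (by rwa [hb] at hg)) with ⟨-, -, h5⟩ | ⟨-, -, -, h5⟩ <;> omega
  rw [Nat.card_eq_fintype_card (α := F)] at hd hN inv
  rw [← hd] at e h7 hN inv ⊢
  have e1 : ((2 * d + 1) ^ 2 - 1) / 2 = (d + 1) * (2 * d) := by
    rw [show (2 * d + 1) ^ 2 - 1 = 2 * ((d + 1) * (2 * d)) from Nat.sub_eq_of_eq_add (by ring),
      Nat.mul_div_cancel_left _ two_pos]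
  have c1 : (2 * d + 1).Coprime d := by simp
  have c2 : (2 * d + 1).Coprime (d + 1) := by
    rw [show 2 * d + 1 = d + (d + 1) by ring, Nat.coprime_add_self_left]; simp
  have c3 : (2 * d + 1).Coprime 2 := Nat.coprime_two_right.2 (odd_two_mul_add_one d)
  have c4 : d.Coprime (d + 1) := by simp
  rcases Nat.even_or_odd d with k | k
  · have k' := Nat.even_iff.1 k
    refine ⟨d + 1, 2 * d, 2, mk (fun n => ?_) (by omega) (by omega) (by omega)
      (Or.inr rfl) c2 (c3.mul_right c1) ((Nat.coprime_two_right.2 k.add_one).mul_right c4.symm)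
      (e.1 (by omega)), by rw [hN]; ring, by omega, Or.inr fun g g' a b =>
      H61.psl_isConj_inv od (inv g d _ (by nlinarith) (by rw [hN]; ring) le_rfl (by omega) (by omega) a)
        (inv g' d _ (by nlinarith) (by rw [hN]; ring) le_rfl (by omega) (by omega) b)⟩
    rw [e1, show (2 * d + 1) * (2 * d + 1 + 1) = 2 * ((2 * d + 1) * (d + 1)) by ring,
      Nat.mul_div_cancel_left _ two_pos]
    simp only [Set.mem_insert_iff, Set.mem_singleton_iff, Nat.add_sub_cancel]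
    tauto
  · have k' := Nat.odd_iff.1 k
    refine ⟨d, 2 * (d + 1), 2, mk (fun n => ?_) (by omega) (by omega) (by omega)
      (Or.inr rfl) c1 (c3.mul_right c2) ((Nat.coprime_two_right.2 k).mul_right c4)
      (e.2 (by omega)), by rw [hN]; ring, fun _ => ⟨by ring, k⟩, Or.inr fun g g' a b =>
      H61.psl_isConj_inv od
        (inv g (d + 1) _ (by nlinarith) (by rw [hN]; ring) (by omega) (by omega) (by omega) a)
        (inv g' (d + 1) _ (by nlinarith) (by rw [hN]; ring) (by omega) (by omega) (by omega) b)⟩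
    rw [e1, Nat.add_sub_cancel, show (2 * d + 1) * (2 * d) = 2 * ((2 * d + 1) * d) by ring,
      Nat.mul_div_cancel_left _ two_pos, show (d + 1) * (2 * d) = d * (2 * (d + 1)) by ring,
      show 2 * d + 1 + 1 = 2 * (d + 1) by ring]
    simp only [Set.mem_insert_iff, Set.mem_singleton_iff]
    tauto

theorem quot (hq : (2 ∣ Fintype.card F ∧ 2 < Fintype.card F) ∨
    (¬ 2 ∣ Fintype.card F ∧ 7 ≤ Fintype.card F))
    (h : Set.range (ind (G := G)) = Set.range (ind (G := PSL(2, F)))) :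
    Nonempty (G ⧸ center G ≃* PSL(2, F)) := by
  obtain ⟨u, w, c, k, hc, h3, -⟩ := data hq
  have s := k.of_range h
  refine H70.L2.core (by omega) (by rw [hc, ← s.index_center]; rfl) (fun g => ?_) fun e g ev => ?_
  · rcases s.order g with d | d | d
    exacts [Or.inl d, Or.inr (s.qu.symm.coprime_dvd_left d), Or.inr (s.qw.symm.coprime_dvd_left d)]
  · rcases s.order g with d | d | d
    · have := ev.two_dvd.trans d; omega
    · exact absurd (ev.two_dvd.trans d) (h3 e).2.not_two_dvd_nat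
    · exact (h3 e).1 ▸ d

theorem prod (hq : (2 ∣ Fintype.card F ∧ 2 < Fintype.card F) ∨
    (¬ 2 ∣ Fintype.card F ∧ 7 ≤ Fintype.card F))
    (h : Set.range (ind (G := G)) = Set.range (ind (G := PSL(2, F)))) :
    ∃ N A : Subgroup G, N.Normal ∧ A ≤ center G ∧ N ⊓ A = ⊥ ∧ N ⊔ A = ⊤ ∧
      Nonempty (N ≃* PSL(2, F)) := by
  obtain ⟨e⟩ := quot hq h
  obtain ⟨u, w, c, k, hc, -, f2⟩ := data hq
  obtain ⟨p, hp⟩ := CharP.exists F
  have := Fact.mk (CharP.char_is_prime F p)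
  let π := e.toMonoidHom.comp (QuotientGroup.mk' (center G))
  have sj : Function.Surjective π := e.surjective.comp (QuotientGroup.mk'_surjective _)
  have hk : π.ker = center G := by
    ext x; simp [π]
  have z1 : center PSL(2, F) = ⊥ := by
    rw [← card_eq_one]
    exact Nat.eq_of_mul_eq_mul_right (Nat.card_pos (α := PSL(2, F))) (by
      rw [one_mul]; conv_lhs => rw [hc, ← k.index_center, card_mul_index])
  have d := split (k.of_range h) k π sj hk z1 (open scoped H61 in hur_f1 (H61.hur_psl F p)) f2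
  have := H61.isSimpleGroup_psl (F := F) (by rw [Nat.card_eq_fintype_card]; omega)
  have pf : (commutator G).map π = ⊤ := by
    rw [map_commutator_eq, MonoidHom.range_eq_top.2 sj]
    refine (IsSimpleGroup.eq_bot_or_eq_top_of_normal _ inferInstance).resolve_left fun e => ?_
    rw [commutator_eq_bot_iff_le_centralizer, coe_top, centralizer_univ, z1] at e
    exact top_ne_bot (le_bot_iff.1 e)
  refine ⟨_, _, inferInstance, le_rfl, d, by rw [← hk, ← comap_map_eq, pf, comap_top],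
    ⟨MulEquiv.ofBijective (π.comp (commutator G).subtype) ⟨?_, fun y => ?_⟩⟩⟩
  · rw [← MonoidHom.ker_eq_bot_iff, ← MonoidHom.comap_ker, hk, comap_subtype, subgroupOf_eq_bot,
      disjoint_iff, inf_comm, d]
  · obtain ⟨x, hx, rfl⟩ := pf.ge (mem_top y)
    exact ⟨⟨x, hx⟩, rfl⟩

end H70.Cls
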