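import Cfsg.Agent.H74.FSp
import Cfsg.Agent.S5185
import Cfsg.Agent.S5186
import Cfsg.Agent.H9.Cube

/-! FUSMC: pearls and small cases. -/

set_option autoImplicit false
set_option linter.unusedSectionVars false

namespace H70.FM
open Cfsg H92 H92.Es H93 H92.P5 Subgroup H74.FM
open scoped commutatorElement

universe u

variable {Ω : Type u} [Group Ω] {S E : Subgroup Ω} {F : FusionSystem S} {γ : ℕ → Subgroup Ω}
  {p n j k : ℕ} {s x y : Ω}

theorem st_chain (B : ℕ → Subgroup Ω) (hx : ∀ i, x ∈ Tv (B i) (B (i + 1))) :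
    ∀ N i, B (i + N) = ⊥ → x ∈ St (B i) ((List.range' (i + 1) N).map B)
  | 0, i, h => by
    have h : B i = ⊥ := h
    simp [h]
  | N + 1, i, h => by
    rw [List.range'_succ, List.map_cons, mem_St_cons]
    exact ⟨hx i, st_chain B hx N (i + 1) (by rw [← h]; congr 1; omega)⟩

variable [hp : Fact p.Prime] [Finite Ω]

/-- an element stabilizing an invariant chain lies in `E` -/
theorem mem_chain (hF : SatA p F) (hE : F.IsEssential p E) (B : ℕ → Subgroup Ω) {N : ℕ}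
    (hB : ∀ i, B i ≤ E ∧ Aut F E ≤ Nm (B i)) (hN : B N = ⊥) (hx : x ∈ S ⊓ Nm E) (h0 : x ∈ Tv E (B 0))
    (h : ∀ i, x ∈ Tv (B i) (B (i + 1))) : x ∈ E :=
  mem_of_St hF hE (l := B 0 :: (List.range' 1 N).map B) (fun C hC => by
    rcases List.mem_cons.1 hC with rfl | hC
    · exact hB 0
    · obtain ⟨i, -, rfl⟩ := List.mem_map.1 hC
      exact hB i) hx ⟨h0, st_chain B h N 0 (by rwa [zero_add])⟩

theorem Z_le (hF : SatA p F) (h : MX p n S γ) (hE : F.IsEssential p E) : γ (n - 1) ≤ E :=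
  h.cen ▸ cen_le hF hE

theorem Z2_le (hF : SatA p F) (h : MX p n S γ) (hE : F.IsEssential p E) (e : E ≤ Mz n S γ) :
    γ (n - 2) ≤ E := fun _ hx =>
  cen hF hE (h.le _ hx) (le_Ct_comm.1 (e.trans inf_le_right) hx)

theorem comE (h : MX p n S γ) (hS : E ≤ S) (hs : s ∈ E) (h1 : s ∉ γ 1) (hM : s ∉ Mz n S γ) (hk : 1 ≤ k) :
    ⁅γ k, E⁆ = γ (k + 1) := by
  have l : ⁅γ k, E⁆ ≤ γ (k + 1) := (commutator_mono le_rfl hS).trans (h.comS k)
  rcases Nat.lt_or_ge n (k + 2) with e | e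
  · exact le_antisymm l (by rw [h.bot (by omega)]; exact bot_le)
  obtain ⟨w, a, b⟩ := h.ex (i := k) (by omega)
  exact h.eq_of_nm' (hS hs) h1 hM (mem_Nm_commutator (h.nmS k (hS hs)) (le_Nm E hs)) (by omega) l
    fun r => h.unif' (hS hs) h1 hM hk e a b (r (commutator_mem_commutator a hs))

theorem jobPearl : JobPearl.{u} := by
  intro Ω _ _ S p n hp F γ ⟨hF, h⟩ E hE e1 e2
  have h4 := h.four
  have hS : E ≤ S := hE.1.1
  obtain ⟨s, hs, h1, hM⟩ : ∃ s ∈ E, s ∉ γ 1 ∧ s ∉ Mz n S γ := by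
    obtain ⟨a, ha, ha'⟩ := SetLike.not_le_iff_exists.1 e1
    obtain ⟨b, hb, hb'⟩ := SetLike.not_le_iff_exists.1 e2
    by_cases c : a ∈ Mz n S γ
    · by_cases d : b ∈ γ 1
      · exact ⟨a * b, mul_mem ha hb, fun r => ha' ((mul_mem_cancel_right d).1 r),
          fun r => hb' ((mul_mem_cancel_left c).1 r)⟩
      · exact ⟨b, hb, d, hb'⟩
    · exact ⟨a, ha, ha', c⟩
  have hZ := Z_le hF h hE
  obtain ⟨j, j1, jn, a, b⟩ := h.levelK (K := E ⊓ γ 1) (a := n) inf_le_right fun r =>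
    h.nle (i := n - 1) (by omega) (by omega) ((le_inf hZ (h.anti (by omega))).trans r)
  have eK : E ⊓ γ 1 = γ j :=
    h.eq_of_nm' (hS hs) h1 hM (mem_Nm_inf (le_Nm E hs) (h.nmS 1 (hS hs))) j1 a b
  have sp : Sp p E (γ j) := eK ▸ (h.sp (i := 0) (by omega)).inf (h.zero.symm ▸ hS) e1
  have sj : s ∉ γ j := fun r => h1 (h.anti j1 r)
  have eE : E = γ j ⊔ zpowers s := sp.sup hs sj
  have cE : Nat.card E = p ^ (n - j + 1) := sp.card_up (h.card j)
  have j2 : 2 ≤ j := by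
    by_contra r
    obtain rfl : j = 1 := by omega
    exact (ess_lt hF hE).not_ge (h.zero ▸ (h.sp (i := 0) (by omega)).le_of sp.le (h.zero.symm ▸ hS hs) h1 hs)
  have j3 : n ≤ j + 2 := by
    by_contra r
    obtain ⟨x, x1, x2⟩ := h.ex (i := j - 1) (by omega)
    rw [show j - 1 + 1 = j by omega] at x2
    have t0 : x ∈ Tv E (γ j) := tv_of_com (h.nmS j (h.le _ x1)) fun y hy => by
      have := h.cS x1 (hS hy)
      rwa [show j - 1 + 1 = j by omega] at this
    have cEE : ⁅E, E⁆ = γ (j + 1) := le_antisymm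
      (le_of_tv (tv_cyc eE (hS.trans (h.nmS _)) (hS.trans (h.tvS j))))
      (comE h hS hs h1 hM j1 ▸ commutator_mono sp.le le_rfl)
    have i1 : ∀ i, Aut F E ≤ Nm (γ (j + 1 + i)) := fun i => by
      induction i with
      | zero => exact fun g hg => cEE ▸ mem_Nm_commutator (Aut_le_Nm F E hg) (Aut_le_Nm F E hg)
      | succ i ih =>
        exact fun g hg => comE h hS hs h1 hM (k := j + 1 + i) (by omega) ▸
          mem_Nm_commutator (ih hg) (Aut_le_Nm F E hg)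
    have i0 : E ⊓ Tv (γ (j + 1)) (γ (j + 1 + 2)) = γ j := by
      refine sp.eq_of' (le_inf sp.le (tv_of_le ((h.le j).trans (h.nmS _))
        ((h.com j1 (by omega)).trans (h.anti (by omega))))) inf_le_left fun r => ?_
      obtain ⟨w, a, b⟩ := h.ex (i := j + 1) (by omega)
      exact h.unif' (hS hs) h1 hM (by omega) (by omega) a b (com_symm (com_of_tv (r hs).2 a))
    refine x2 (eK ▸ ⟨mem_chain hF hE (fun i => γ (j + i)) (N := n) (fun i => ⟨(h.anti (by omega)).trans sp.le, ?_⟩)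
      (h.bot (by omega)) ⟨h.le _ x1, Nm_of_Tv t0 sp.le le_rfl⟩ t0 fun i => h.tvS _ (h.le _ x1),
      h.anti (by omega) x1⟩)
    rcases i with _ | i
    · exact fun g hg => i0 ▸ mem_Nm_inf (Aut_le_Nm F E hg) (mem_Nm_Tv (i1 0 hg) (i1 2 hg))
    · rw [show j + (i + 1) = j + 1 + i by omega]; exact i1 i
  rcases (by omega : j = n - 1 ∨ j = n - 2) with rfl | rfl
  · rw [show n - (n - 1) + 1 = 2 by omega] at cE
    exact ⟨Or.inl ⟨cE, (Cfsg.Agent.S5185.result p hF.pg F hF.sat E hE cE).1⟩, s, hs, h1, hM, Or.inl ⟨cE, eE⟩⟩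
  · rw [show n - (n - 2) + 1 = 3 by omega] at cE
    have na : ¬ IsMulCommutative E := fun c => hM ⟨hS hs, mem_Ct'.2 fun y hy =>
      congrArg Subtype.val (c.is_comm.comm (⟨y, sp.le hy⟩ : E) ⟨s, hs⟩)⟩
    have xs := H9.isExtraspecial_of_card_cube cE na
    refine ⟨Or.inr ⟨cE, xs, ?_⟩, s, hs, h1, hM, Or.inr ⟨cE, eE⟩⟩
    rcases Cfsg.Agent.S5186.result p hF.pg F hF.sat E hE cE with c | ⟨o, -, c⟩ | ⟨e, c⟩
    · exact absurd c.1 na
    · refine ⟨fun _ => ?_, fun e => absurd (e ▸ o) (by decide)⟩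
      have : Nontrivial E := Finite.one_lt_card_iff_nontrivial.1 (cE ▸ Nat.one_lt_pow (by omega) hp.out.one_lt)
      exact (Monoid.exponent_eq_prime_iff hp.out).2 fun g g1 =>
        orderOf_eq_prime (Subtype.ext (c g g.2)) g1
    · exact ⟨fun r => absurd e r, fun _ => c⟩

theorem pow_mem_iff (h : MX p n S γ) (hn : p + 2 ≤ n) (hy : y ∈ γ 1) {m : ℕ} (hm : m ≤ n) :
    y ^ p ∈ γ m ↔ y ∈ γ (m - (p - 1)) := by
  have := hp.out.two_le
  refine ⟨fun e => by_contra fun r => ?_, fun e => ?_⟩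
  · obtain ⟨i, a, b, c, d⟩ := h.levelK (zpowers_le.2 hy) fun k => r (zpowers_le.1 k)
    exact (h.pow1 hn a (zpowers_le.1 c)).2 (fun k => d (zpowers_le.2 k)) (by omega) (h.anti (by omega) e)
  · rcases Nat.eq_zero_or_pos (m - (p - 1)) with z | z
    · exact h.anti (by omega) (h.pow1 hn le_rfl hy).1
    · exact h.anti (by omega) (h.pow1 hn z e).1

theorem pow_eq_one_iff (h : MX p n S γ) (hn : p + 2 ≤ n) (t : ℕ) :
    ∀ y ∈ γ 1, y ^ p ^ t = 1 ↔ y ∈ γ (n - (p - 1) * t) := by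
  induction t with
  | zero => intro y _; rw [pow_zero, pow_one, mul_zero, Nat.sub_zero, h.bot le_rfl, mem_bot]
  | succ t ih =>
    intro y hy
    rw [pow_succ', pow_mul, ih _ (pow_mem hy p), pow_mem_iff h hn hy (Nat.sub_le _ _), Nat.sub_sub, mul_add,
      mul_one]

theorem jobSmall : JobSmall.{u} := by
  intro Ω _ _ S p n hp F γ ⟨hF, h⟩ E ⟨hE, hb⟩
  have h4 := h.four
  have hS : E ≤ S := hE.1.1
  have hZ := Z_le hF h hE
  have k1 : 5 ≤ p ∧ 5 ≤ n := by
    rcases h.exc with e | e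
    swap
    · omega
    have lt : E < γ 1 := hb.elim id fun r => h.M_eq e ▸ r
    have n5 : 5 ≤ n := by
      by_contra r
      obtain rfl : n = 4 := by omega
      have ab := (h.sp (i := 1) (by omega)).cyc' e
      exact lt.not_ge fun x hx => cen hF hE (h.le _ hx) (Ct_anti lt.le (ab hx))
    refine ⟨?_, n5⟩
    by_contra r
    have p3 : p = 2 ∨ p = 3 := by
      have := hp.out.two_le
      have : p ≠ 4 := fun e => absurd (e ▸ hp.out) (by decide)
      omega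
    obtain ⟨x, ⟨x1, x2⟩, x3⟩ := (SetLike.lt_iff_le_and_exists.1 (lt_Nm (hF.pg.to_le (h.le 1)) lt)).2
    have nx : ∀ i, x ∈ Nm (E ⊓ γ i) := fun i => mem_Nm_inf x2 (h.nmS i (h.le _ x1))
    refine x3 (mem_chain hF hE (fun i => E ⊓ γ (n - (p - 1) * (n - i))) (N := n) (fun i => ⟨inf_le_left, ?_⟩)
      (by simp [h.bot le_rfl]) ⟨h.le _ x1, x2⟩ ?_ fun i => ?_)
    · refine fun g hg => mem_Nm_of_conj fun y hy => ?_
      have c := conj_mem_of_Nm (Aut_le_Nm F E hg) hy.1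
      refine ⟨c, (pow_eq_one_iff h (by omega) _ _ (lt.le c)).1 ?_⟩
      rw [conj_pow, (pow_eq_one_iff h (by omega) _ _ (lt.le hy.1)).2 hy.2, mul_one, mul_inv_cancel]
    · refine tv_of_com (nx _) fun y hy => ⟨comm_mem_of_Nm x2 hy, h.anti ?_
        (h.zero.symm ▸ hS (comm_mem_of_Nm x2 hy) : ⁅x, y⁆ ∈ γ 0)⟩
      rcases p3 with rfl | rfl <;> omega
    · refine tv_of_com (nx _) fun y hy => ⟨comm_mem_of_Nm x2 hy.1, ?_⟩
      rcases Nat.eq_zero_or_pos (n - (p - 1) * (n - i)) with z | z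
      · refine h.anti ?_ (h.ne_of e le_rfl le_rfl (commutator_mem_commutator x1 (lt.le hy.1)))
        rcases p3 with rfl | rfl <;> omega
      · refine h.anti ?_ (h.ne_of e le_rfl z (commutator_mem_commutator x1 hy.2))
        rcases p3 with rfl | rfl <;> omega
  refine ⟨k1.1, k1.2, ?_⟩
  obtain ⟨i, hi⟩ := card_pow hF.pg hS
  rw [hi]
  refine Nat.pow_le_pow_right hp.out.pos ?_
  by_contra r
  by_cases eM : E ≤ Mz n S γ
  · have l := Z2_le hF h hE eM
    have e : γ (n - 2) = E := eq_of_le_of_card_ge l (by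
      rw [hi, h.card]; exact Nat.pow_le_pow_right hp.out.pos (by omega))
    have : Mz n S γ ≤ E := fun x hx => cen hF hE hx.1 (e ▸ hx.2)
    have := pow_le_of_le this h.cardM hi
    omega
  have l1 : E ≤ γ 1 := (hb.resolve_right fun r => eM r.le).le
  obtain ⟨y, hy, hy'⟩ := SetLike.not_le_iff_exists.1 eM
  have y2 : y ∉ γ 2 := fun r => hy' (h.two_le_M r)
  have yZ : y ∉ γ (n - 1) := fun r => y2 (h.anti (by omega) r)
  have cZ : Nat.card (γ (n - 1)) = p ^ 1 := by rw [h.card]; congr 1; omega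
  have sp : Sp p E (γ (n - 1)) := sp_of_le (hF.pg.to_le hS) (lt_of_le_of_ne hZ fun e => yZ (e ▸ hy)) (by
    rw [hi, cZ, ← pow_succ']; exact Nat.pow_le_pow_right hp.out.pos (by omega))
  have zc : S ≤ Ct (γ (n - 1)) := le_Ct_comm.1 (h.cen.ge.trans inf_le_right)
  have c := card_le_mul_of_comm (A := γ (n - 3)) (w := y) ((h.le _).trans zc) fun g hg => by
    have := h.ne (a := 1) (b := n - 3) le_rfl (by omega) (by omega)
      (commutator_mem_commutator (inv_mem (l1 hy)) hg)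
    rw [show 1 + (n - 3) + 1 = n - 1 by omega, commutatorElement_def, inv_inv] at this
    simpa only [mul_assoc] using this
  have l : γ (n - 3) ⊓ Ct (zpowers y) ≤ γ (n - 1) := by
    rw [← sp.eq_of' (K := E ⊓ γ 2) (le_inf hZ (h.anti (by omega))) inf_le_left fun r => y2 (r hy).2]
    refine fun w hw => ⟨cen hF hE (h.le _ hw.1) ?_, h.anti (by omega) hw.1⟩
    rw [sp.sup hy yZ, mem_Ct_sup]
    exact ⟨zc (h.le _ hw.1), hw.2⟩
  have := c.trans (Nat.mul_le_mul_left _ (card_le_of_le l))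
  rw [h.card, cZ, ← pow_add] at this
  have := (Nat.pow_le_pow_iff_right hp.out.one_lt).1 this
  omega

end H70.FM
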