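import Cfsg.Agent.H16.HN3Spec
import Cfsg.Agent.H87.ReeRegA

/-! Job `F` of `blueprints/HN3L.md`: `C(F) ∩ C(t) ≤ C₁`. -/

set_option autoImplicit false
open Cfsg Subgroup H98 Equiv H16.HN3
open scoped commutatorElement

namespace H70.Hn3F

universe u

attribute [local instance high] List.decidableBAll List.decidableBEx

section abs
variable {G : Type*} [Group G]

theorem tri {y x : G} (y3 : y ^ 3 = 1) (h : x ∈ zpowers y) : x = 1 ∨ x = y ∨ x = y⁻¹ := by
  obtain ⟨k, rfl⟩ := h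
  have e : y ^ k = y ^ (k % 3) := by
    conv_lhs => rw [← Int.mul_ediv_add_emod k 3, zpow_add, zpow_mul]
    rw [show (y ^ (3 : ℤ)) = 1 by exact_mod_cast y3, one_zpow, one_mul]
  have : k % 3 = 0 ∨ k % 3 = 1 ∨ k % 3 = 2 := by omega
  show y ^ k = 1 ∨ y ^ k = y ∨ y ^ k = y⁻¹
  rcases this with h | h | h <;> rw [e, h]
  · simp
  · simp
  · right; right
    rw [eq_inv_iff_mul_eq_one, ← y3, show (2 : ℤ) = ((2 : ℕ) : ℤ) from rfl, zpow_natCast, ← pow_succ]

/-- A self-centralising (modulo central involutions) non-real element of order three. -/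
theorem key [Finite G] {X : Subgroup G} {y : G} (hy : y ∈ X) (y3 : y ^ 3 = 1) (y1 : y ≠ 1)
    (hc : ∀ g ∈ X, Commute g y → ∃ i : ℕ, ∃ f, (∀ x ∈ X, Commute x f) ∧ f * f = 1 ∧ g = y ^ i * f)
    (hi : ∀ g ∈ X, g * y * g⁻¹ ≠ y⁻¹) :
    ∃ N : Subgroup G, (∀ x ∈ X, x * x = 1 → x ∈ N) ∧ y ∉ N ∧
      ∀ w ∈ X, w ∉ N → (∀ x ∈ X, Commute x (w ^ 3)) ∧ w ^ 3 * w ^ 3 = 1 := by
  haveI : Fact (Nat.Prime 3) := ⟨by norm_num⟩
  have oy : orderOf y = 3 := orderOf_eq_prime y3 y1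
  have hn : ∀ g ∈ X, g ∈ normalizer (zpowers y : Set G) → Commute g y := by
    intro g hg h
    rcases tri y3 ((mem_normalizer_iff.1 h y).1 (mem_zpowers y)) with e | e | e
    · exact absurd (by simpa using e) y1
    · exact mul_inv_eq_iff_eq_mul.1 e
    · exact absurd e (hi g hg)
  have hP : IsPGroup 3 (zpowers y) := isPGroup_zpowers (k := 1) (by simpa using y3)
  have hS : IsSyl 3 (zpowers y) X := by
    refine isSyl_of_isSyl_normalizer ⟨le_inf (zpowers_le.2 hy) le_normalizer, hP, ?_⟩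
    intro Q hQ h1 h2
    refine le_antisymm (fun q hq => ?_) h1
    obtain ⟨i, f, -, ff, e⟩ := hc q (h2 hq).1 (hn q (h2 hq).1 (h2 hq).2)
    have fQ : f ∈ Q := by
      have : f = (y ^ i)⁻¹ * q := by rw [e]; group
      rw [this]
      exact mul_mem (inv_mem (pow_mem (h1 (mem_zpowers y)) i)) hq
    obtain ⟨k, hk⟩ := isPGroup_iff_forall.1 hQ f fQ
    have : f = 1 := by
      have h2 : orderOf f ∣ 2 := orderOf_dvd_of_pow_eq_one (by rw [sq, ff])
      have h3 : orderOf f ∣ 3 ^ k := orderOf_dvd_of_pow_eq_one hk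
      exact orderOf_eq_one_iff.1 (Nat.eq_one_of_dvd_coprimes
        (Nat.Coprime.pow_right k (by norm_num : Nat.Coprime 2 3)) h2 h3)
    rw [e, this, mul_one]
    exact pow_mem (mem_zpowers y) i
  have hB := (H87.burnside_dec hS (fun g hg => by
    show g ∈ centralizer (zpowers y : Set G)
    rintro _ ⟨k, rfl⟩
    exact ((hn g hg.1 hg.2).zpow_right k).symm.eq)).1
  refine ⟨H14.opp 3 X, fun x hx xx => hB x hx fun h => ?_, fun h => ?_, fun w hw hN => ?_⟩
  · have := h.trans (orderOf_dvd_of_pow_eq_one (show x ^ 2 = 1 by rw [sq, xx]))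
    omega
  · have := (H14.coprime_card_opp (p := 3) X).coprime_dvd_left
      (Subgroup.orderOf_dvd_natCard _ h)
    rw [oy] at this
    exact absurd this (by norm_num)
  · have h3 : 3 ∣ orderOf w := by_contra fun h => hN (hB w hw h)
    have oa : orderOf (w ^ (orderOf w / 3)) = 3 :=
      orderOf_pow_orderOf_div (orderOf_pos w).ne' h3
    set a := w ^ (orderOf w / 3) with ha
    have a3 : a ^ 3 = 1 := oa ▸ pow_orderOf_eq_one a
    obtain ⟨g, hg, hle⟩ := hS.exists_cj_le (isPGroup_zpowers (x := a) (k := 1) (by simpa using a3))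
      (zpowers_le.2 (pow_mem hw _))
    have m : g * a * g⁻¹ ∈ zpowers y := hle ⟨a, mem_zpowers a, rfl⟩
    have ca : Commute (g * w * g⁻¹) (g * a * g⁻¹) := by
      have : Commute w a := Commute.self_pow w _
      show _ = _
      calc g * w * g⁻¹ * (g * a * g⁻¹) = g * (w * a) * g⁻¹ := by group
        _ = _ := by rw [this.eq]; group
    have cy : Commute (g * w * g⁻¹) y := by
      rcases tri y3 m with e | e | e
      · have : a = 1 := by simpa using e
        rw [this, orderOf_one] at oa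
        omega
      · rwa [e] at ca
      · rw [e] at ca
        simpa using ca
    obtain ⟨i, f, fc, ff, e⟩ := hc _ (mul_mem (mul_mem hg hw) (inv_mem hg)) cy
    have e3 : w ^ 3 = f := by
      have h1 : g * w ^ 3 * g⁻¹ = f := by
        rw [← conj_pow, e, ((fc y hy).pow_left i).mul_pow, ← pow_mul, mul_comm i, pow_mul, y3,
          one_pow, one_mul, pow_succ, sq, ff, one_mul]
      have h2 : w ^ 3 = g⁻¹ * f * g := by rw [← h1]; group
      rw [h2, (fc _ (inv_mem hg)).eq, inv_mul_cancel_right]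
    rw [e3]
    exact ⟨fc, ff⟩

/-- an involution commutes with its conjugates under elements outside `N` -/
theorem comm_conj {X N : Subgroup G} (h1 : ∀ x ∈ X, x * x = 1 → x ∈ N)
    (h2 : ∀ w ∈ X, w ∉ N → (∀ x ∈ X, Commute x (w ^ 3)) ∧ w ^ 3 * w ^ 3 = 1) {c w : G}
    (hc : c ∈ X) (cc : c * c = 1) (hw : w ∈ X) (hN : w ∉ N) : Commute c (w * c * w⁻¹) := by
  obtain ⟨a1, a2⟩ := h2 w hw hN
  obtain ⟨b1, b2⟩ := h2 (c * w) (mul_mem hc hw)
    fun h => hN ((mul_mem_cancel_left (h1 c hc cc)).1 h)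
  set f := w ^ 3 with hf
  set f' := (c * w) ^ 3 with hf'
  have ci : c⁻¹ = c := inv_eq_of_mul_eq_one_right cc
  set k := w * (w * c * w⁻¹) * w⁻¹ with hk
  have kX : k ∈ X := mul_mem (mul_mem hw (mul_mem (mul_mem hw hc) (inv_mem hw))) (inv_mem hw)
  have kk : k * k = 1 := by
    calc k * k = w * w * (c * c) * w⁻¹ * w⁻¹ := by rw [hk]; group
      _ = 1 := by rw [cc]; group
  have e : c * (w * c * w⁻¹) = f' * f⁻¹ * k⁻¹ := by
    rw [hf, hf', hk]
    simp only [pow_succ, pow_zero, one_mul]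
    group
  have fX : f ∈ X := pow_mem hw 3
  have e2 : c * (w * c * w⁻¹) * (c * (w * c * w⁻¹)) = 1 := by
    rw [e, inv_eq_of_mul_eq_one_right kk, inv_eq_of_mul_eq_one_right a2]
    calc f' * f * k * (f' * f * k) = f' * f * (k * f') * f * k := by group
      _ = f' * (f * f') * (k * f) * k := by rw [(b1 k kX).eq]; group
      _ = (f' * f') * (f * f) * (k * k) := by rw [(b1 f fX).eq, (a1 k kX).eq]; group
      _ = 1 := by rw [b2, a2, kk]; group
  have e3 := inv_eq_of_mul_eq_one_right e2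
  show _ = _
  rw [← e3, mul_inv_rev, ci, conj_inv, ci]

end abs

/-- the alternating group on `0, 1, 2, 3` -/
def lW : List A := lV.flatMap fun v => [v, v * e1, v * e1⁻¹]

theorem perm4 (σ : A) (h : ∀ j : Fin 12, 4 ≤ j.val → σ.1 j = j) : σ ∈ lW := by
  have lt : ∀ i : Fin 12, i.val < 4 → (σ.1 i).val < 4 := fun i hi => by
    by_contra h4
    have := σ.1.injective (h _ (not_lt.1 h4))
    rw [this] at h4
    exact h4 hi
  obtain ⟨w, hw, w0, w3, w4⟩ : ∃ w ∈ lW, w.1 0 = σ.1 0 ∧ w.1 3 = σ.1 3 ∧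
      ∀ j : Fin 12, 4 ≤ j.val → w.1 j = j :=
    (by decide +kernel : ∀ a b : Fin 12, a.val < 4 → b.val < 4 → a ≠ b → ∃ w ∈ lW,
      w.1 0 = a ∧ w.1 3 = b ∧ ∀ j : Fin 12, 4 ≤ j.val → w.1 j = j) _ _ (lt 0 (by decide))
      (lt 3 (by decide)) (σ.1.injective.ne (by decide))
  have hs : (w⁻¹ * σ).1.support ⊆ {1, 2} := by
    intro j hj
    by_contra hn
    refine Perm.mem_support.1 hj ?_
    show w.1⁻¹ (σ.1 j) = j
    rw [Perm.inv_eq_iff_eq]
    have : j = 0 ∨ j = 3 ∨ 4 ≤ j.val :=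
      (by decide : ∀ j : Fin 12, j ∉ ({1, 2} : Finset (Fin 12)) → j = 0 ∨ j = 3 ∨ 4 ≤ j.val) j hn
    rcases this with rfl | rfl | h4
    · exact w0.symm
    · exact w3.symm
    · rw [h j h4, w4 j h4]
  by_cases e : (w⁻¹ * σ).1 = 1
  · have : w⁻¹ * σ = 1 := Subtype.ext e
    rw [inv_mul_eq_one] at this
    exact this ▸ hw
  · have h2 : (w⁻¹ * σ).1.support.card = 2 :=
      le_antisymm ((Finset.card_le_card hs).trans (by decide)) (Perm.two_le_card_support_of_ne_one e)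
    have := (Perm.card_support_eq_two.1 h2).sign_eq
    rw [Perm.mem_alternatingGroup.1 (w⁻¹ * σ).2] at this
    exact absurd this (by decide)

theorem comF {M : Type*} [Monoid M] (ψ : A →* M) {g : M} (h1 : Commute g (ψ s))
    (h2 : Commute g (ψ x1)) (h3 : Commute g (ψ x2)) : ∀ f ∈ lF, Commute g (ψ f) := by
  intro f hf
  simp only [lF, List.mem_cons, List.not_mem_nil, or_false] at hf
  rcases hf with rfl | rfl | rfl | rfl | rfl | rfl | rfl | rfl
  · rw [map_one]; exact Commute.one_right _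
  · exact h1
  · exact h2
  · rw [map_mul]; exact h1.mul_right h2
  · exact h3
  · rw [map_mul]; exact h1.mul_right h3
  · rw [x3, map_mul]; exact h2.mul_right h3
  · rw [x3, map_mul, map_mul]; exact h1.mul_right (h2.mul_right h3)

theorem permF (σ : A) (h1 : Commute σ s) (h2 : Commute σ x1) (h3 : Commute σ x2) :
    ∃ w ∈ lW, ∃ f ∈ lF, σ = f * w := by
  have cF := comF (MonoidHom.id A) h1 h2 h3
  have reg : ∀ j : Fin 12, 4 ≤ j.val → ∃ f ∈ lF, f.1 4 = j := by decide +kernel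
  have g4 : 4 ≤ (σ.1 4).val := by
    by_contra h
    have e1 : s.1 (σ.1 4) = σ.1 4 :=
      (by decide +kernel : ∀ j : Fin 12, ¬ 4 ≤ j.val → s.1 j = j) _ h
    have e2 : σ.1 (s.1 4) = s.1 (σ.1 4) := congrArg (fun a : A => a.1 4) h1.eq
    exact absurd (σ.1.injective (e2.trans e1)) (by decide +kernel)
  obtain ⟨f, hf, f4⟩ := reg _ g4
  refine ⟨f⁻¹ * σ, perm4 _ fun j hj => ?_, f, hf, by group⟩
  obtain ⟨f', hf', rfl⟩ := reg j hj
  show f.1⁻¹ (σ.1 (f'.1 4)) = _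
  rw [Perm.inv_eq_iff_eq]
  have e1 : σ.1 (f'.1 4) = f'.1 (σ.1 4) := congrArg (fun a : A => a.1 4) (cF f' hf').eq
  rw [e1, ← f4]
  exact (by decide +kernel : ∀ f ∈ lF, ∀ f' ∈ lF, f'.1 (f.1 4) = f.1 (f'.1 4)) f hf f' hf'

/-- `C(F)` -/
def XF {G : Type*} [Group G] (ψ : A →* G) : Subgroup G where
  carrier := {g | CF ψ g}
  mul_mem' := fun a b => ⟨a.1.mul_left b.1, a.2.1.mul_left b.2.1, a.2.2.mul_left b.2.2⟩
  one_mem' := ⟨Commute.one_left _, Commute.one_left _, Commute.one_left _⟩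
  inv_mem' := fun a => ⟨a.1.inv_left, a.2.1.inv_left, a.2.2.inv_left⟩

theorem jobF : JobF.{u} := by
  intro G _ _ ψ n L T _ _ K g hg gt
  have inj := T.inj
  have mem : ∀ a : A, a * s = s * a → a * x1 = x1 * a → a * x2 = x2 * a → ψ a ∈ XF ψ :=
    fun a h1 h2 h3 => ⟨Commute.map h1 ψ, Commute.map h2 ψ, Commute.map h3 ψ⟩
  have yX : ψ e1 ∈ XF ψ := mem _ (by decide +kernel) (by decide +kernel) (by decide +kernel)
  have tX : ψ t ∈ XF ψ := mem _ (by decide +kernel) (by decide +kernel) (by decide +kernel)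
  have cX : ψ c ∈ XF ψ := mem _ (by decide +kernel) (by decide +kernel) (by decide +kernel)
  have cF : ∀ x ∈ XF ψ, ∀ f ∈ lF, Commute x (ψ f) := fun x hx => comF ψ hx.1 hx.2.1 hx.2.2
  have ff : ∀ f ∈ lF, ψ f * ψ f = 1 := fun f hf => by
    rw [← map_mul, (by decide +kernel : ∀ f ∈ lF, f * f = 1) f hf, map_one]
  have dec : ∀ σ : A, ψ σ ∈ XF ψ → ∃ w ∈ lW, ∃ f ∈ lF, σ = f * w := fun σ h =>
    permF σ (h.1.of_map inj) (h.2.1.of_map inj) (h.2.2.of_map inj)
  obtain ⟨N, n1, n2, n3⟩ := key (X := XF ψ) yX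
    (by rw [← map_pow, (by decide +kernel : e1 ^ 3 = 1), map_one])
    (by rw [← map_one ψ]; exact inj.ne (by decide +kernel))
    (fun x hx h => by
      obtain ⟨σ, rfl⟩ := T.cen x h
      obtain ⟨w, hw, f, hf, rfl⟩ := dec σ hx
      obtain ⟨i, -, e⟩ := (by decide +kernel : ∀ w ∈ lW, ∀ f ∈ lF,
        f * w * e1 = e1 * (f * w) → ∃ i ∈ [0, 1, 2], f * w = e1 ^ i * f) w hw f hf (h.of_map inj)
      exact ⟨i, ψ f, fun x hx => cF x hx f hf, ff f hf, by rw [e, map_mul, map_pow]⟩)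
    (fun x hx h => by
      have h1 : ψ r * ψ e1 * (ψ r)⁻¹ = (ψ e1)⁻¹ := by
        rw [← map_mul, ← map_inv, ← map_mul, ← map_inv]
        exact congrArg ψ (by decide +kernel)
      obtain ⟨σ, e⟩ := T.cen ((ψ r)⁻¹ * x) (by
        show _ = _
        calc (ψ r)⁻¹ * x * ψ e1 = (ψ r)⁻¹ * (x * ψ e1 * x⁻¹) * x := by group
          _ = _ := by rw [h, ← h1]; group)
      have e' : x = ψ (r * σ) := by rw [map_mul, e]; group
      subst e'
      obtain ⟨w, hw, f, hf, e'⟩ := dec _ hx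
      rw [e', ← map_inv, ← map_inv, ← map_mul, ← map_mul] at h
      exact (by decide +kernel : ∀ w ∈ lW, ∀ f ∈ lF,
        f * w * e1 * (f * w)⁻¹ ≠ e1⁻¹) w hw f hf (inj h))
  have cc : ψ c * ψ c = 1 := by rw [← map_mul, (by decide +kernel : c * c = 1), map_one]
  have tt : ψ t * ψ t = 1 := by rw [← map_mul, (by decide +kernel : t * t = 1), map_one]
  have tc : Commute (ψ t) (ψ c) := Commute.map (by decide +kernel : t * c = c * t) ψ
  have gX : g ∈ XF ψ := hg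
  have gt' : g * ψ t * g⁻¹ = ψ t := mul_inv_eq_iff_eq_mul.2 gt.eq
  have yc : ψ e1 * ψ c * (ψ e1)⁻¹ = ψ t := by
    rw [← map_inv, ← map_mul, ← map_mul]
    exact congrArg ψ (by decide +kernel)
  have yc' : (ψ e1)⁻¹ * ψ c * ψ e1 = ψ t * ψ c := by
    rw [← map_inv, ← map_mul, ← map_mul, ← map_mul]
    exact congrArg ψ (by decide +kernel)
  have yt' : (ψ e1)⁻¹ * ψ t * ψ e1 = ψ c := by rw [← yc]; group
  have hN : g ∈ N → g * (ψ e1)⁻¹ ∉ N := fun h h' =>
    n2 (inv_mem_iff.1 ((mul_mem_cancel_left h).1 h'))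
  have ut : Commute (g * ψ c * g⁻¹) (ψ t) := (gt.mul_left tc.symm).mul_left gt.inv_left
  have uc : Commute (g * ψ c * g⁻¹) (ψ c) := by
    by_cases h : g ∈ N
    · have := comm_conj n1 n3 cX cc (mul_mem gX (inv_mem yX)) (hN h)
      rw [show g * (ψ e1)⁻¹ * ψ c * (g * (ψ e1)⁻¹)⁻¹ = g * ((ψ e1)⁻¹ * ψ c * ψ e1) * g⁻¹ by group,
        yc', show g * (ψ t * ψ c) * g⁻¹ = (g * ψ t * g⁻¹) * (g * ψ c * g⁻¹) by group, gt'] at this
      have := (tc.symm.inv_right.mul_right this).symm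
      rwa [inv_mul_cancel_left] at this
    · exact (comm_conj n1 n3 cX cc gX h).symm
  obtain ⟨w, hw, f, hf, e⟩ := K.ker _ (mul_mem (mul_mem gX cX) (inv_mem gX) : _ ∈ XF ψ) ut uc
  have gf : g * ψ f * g⁻¹ = ψ f := mul_inv_eq_iff_eq_mul.2 (cF g gX f hf).eq
  have ne : ∀ a ∈ [1, t], ψ c ≠ ψ a * ψ f := fun a ha h =>
    (by decide +kernel : ∀ a ∈ [1, t], ∀ f ∈ lF, c ≠ a * f) a ha f hf
      (inj (by rw [map_mul]; exact h))
  refine ⟨hg, ⟨1, by simp [lF], by rw [map_one]; exact gt.commutator_eq⟩, ?_⟩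
  rw [map_mul] at e
  simp only [lV, List.mem_cons, List.not_mem_nil, or_false] at hw
  rcases hw with rfl | rfl | rfl | rfl
  · refine absurd (conj_injective (x := g) ?_) (ne 1 (by simp))
    show g * _ * g⁻¹ = g * _ * g⁻¹
    rw [e, map_one, one_mul, gf]
  · refine absurd (conj_injective (x := g) ?_) (ne t (by simp))
    show g * _ * g⁻¹ = g * _ * g⁻¹
    rw [e, show g * (ψ t * ψ f) * g⁻¹ = (g * ψ t * g⁻¹) * (g * ψ f * g⁻¹) by group, gt', gf]
  · refine ⟨f, hf, ?_⟩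
    rw [commutatorElement_def, e, (cF _ cX f hf).eq, mul_inv_cancel_right]
  · exfalso
    rw [map_mul] at e
    have e' : g * (ψ t * ψ c) * g⁻¹ = ψ c * ψ f := by
      rw [show g * (ψ t * ψ c) * g⁻¹ = (g * ψ t * g⁻¹) * (g * ψ c * g⁻¹) by group, gt', e,
        ← mul_assoc, ← mul_assoc, tt, one_mul]
    -- an element `h ∉ N` swapping two of `t, c, t c` modulo `F`
    have fin : ∀ h ∈ XF ψ, h ∉ N → ∀ a ∈ XF ψ, ∀ b a' : G, h * a * h⁻¹ = b * ψ f →
        h * b * h⁻¹ = a * a' → h * a' * h⁻¹ = a' → a = b * ψ f * a' * ψ f := by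
      intro h hX hn a ha b a' p1 p2 p3
      have hf' : h * ψ f * h⁻¹ = ψ f := mul_inv_eq_iff_eq_mul.2 (cF h hX f hf).eq
      have q : h ^ 3 * a * (h ^ 3)⁻¹ = a :=
        mul_inv_eq_iff_eq_mul.2 ((n3 h hX hn).1 a ha).symm.eq
      rw [← q]
      calc h ^ 3 * a * (h ^ 3)⁻¹ = h * (h * (h * a * h⁻¹) * h⁻¹) * h⁻¹ := by
            simp only [pow_succ, pow_zero, one_mul]; group
        _ = h * ((h * b * h⁻¹) * (h * ψ f * h⁻¹)) * h⁻¹ := by rw [p1]; group
        _ = h * (a * a' * ψ f) * h⁻¹ := by rw [p2, hf']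
        _ = (h * a * h⁻¹) * (h * a' * h⁻¹) * (h * ψ f * h⁻¹) := by group
        _ = _ := by rw [p1, p3, hf']
    by_cases h : g ∈ N
    · have := fin _ (mul_mem gX (inv_mem yX)) (hN h) _ tX (ψ t * ψ c) 1
        (by rw [← e, ← yt']; group)
        (by
          calc _ = g * (((ψ e1)⁻¹ * ψ t * ψ e1) * ((ψ e1)⁻¹ * ψ c * ψ e1)) * g⁻¹ := by group
            _ = g * ψ t * g⁻¹ := by
              rw [yt', yc', ← mul_assoc (ψ c), ← tc.eq, mul_assoc (ψ t), cc, mul_one]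
            _ = _ := by rw [gt', mul_one])
        (by group)
      rw [mul_one, mul_assoc _ (ψ f), ff f hf, mul_one, left_eq_mul, ← map_one ψ] at this
      exact absurd (inj this) (by decide +kernel)
    · have := fin g gX h _ cX (ψ t * ψ c) (ψ f) e e' gf
      rw [mul_assoc _ (ψ f), ff f hf, mul_one, ← map_mul, ← map_mul] at this
      exact (by decide +kernel : ∀ f ∈ lF, c ≠ t * c * f) f hf (inj this)

end H70.Hn3F
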