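/- S3586, S3665: number theory. A family-independent form of the enumeration of `H61.SPNT`. -/
import Cfsg.Agent.H61.SPNT2

set_option autoImplicit false

namespace H70.IS

open H40.SP H27 H61.NT

/-- the primitive prime powers of `q ^ i - 1` are bounded by `M` -/
def Gd (q i n M : ℕ) : Prop := ∀ r, r.Prime → r ∣ q ^ i - 1 →
  (∀ k, 1 ≤ k → k < i → ¬ r ∣ q ^ k - 1) → r ∣ n ∧ ∀ e, 0 < e → r ^ e ∣ q ^ i - 1 → r ^ e ∣ M

/-- the bounds on `n` and `M` -/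
structure Bd (n M : ℕ) : Prop where
  ps : n ∣ PS.prod ^ 50
  pos : 0 < M
  lt : M < 2 ^ 230

def cD (f : ℕ → ℕ → Bool) (i D : ℕ) : Bool :=
  (fun s => decide (s * s ≤ D ∧ D < (s + 1) * (s + 1)) &&
    (decide (D ≠ if i = 4 then s * s + 1 else s * s + s + 1) ||
      f i (if i = 6 then s + 1 else s))) (isq 100 D D)

def cI (f : ℕ → ℕ → Bool) (n M i : ℕ) : Bool :=
  (fun B => decide (B = 1) || if i = 3 ∨ i = 4 ∨ i = 6 then
      (fun l => decide (B * i = (l.map fun x => x.1 ^ x.2).prod) && (divs l).all (cD f i))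
        (PS.map fun s => (s, val s 100 (B * i)))
    else (fun t => decide (4 * (B * i) < 151 ^ t) &&
      (List.range' 2 149).all fun q => decide (4 * (B * i) < q ^ t) || f i q) (zsTot i))
    (bb n M i)

variable {q i n M : ℕ}

theorem Gd.prime (h : Gd q i n M) (b : Bd n M) (hq : 2 ≤ q) (hi : 3 ≤ i) {r : ℕ} (hr : r.Prime)
    (h1 : r ∣ q ^ i - 1) (h2 : ∀ k, 1 ≤ k → k < i → ¬ r ∣ q ^ k - 1) :
    r ∈ PS ∧ n % r = 0 ∧ r % i = 1 := by
  have h6 := (h r hr h1 h2).1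
  refine ⟨mem_ps hr (h6.trans b.ps), Nat.mod_eq_zero_of_dvd h6, ?_⟩
  obtain ⟨c, hc⟩ := dvd_sub_one_of_primitive hq (by omega) hr h1 h2
  rw [show r = 1 + i * c by have := hr.pos; omega, Nat.add_mul_mod_self_left,
    Nat.mod_eq_of_lt (by omega)]

theorem Gd.dvd_bb (h : Gd q i n M) (b : Bd n M) (hq : 2 ≤ q) (hi : 3 ≤ i) {m : ℕ}
    (hm : IsPrimDiv q i m) : m ∣ bb n M i := by
  refine (Nat.dvd_iff_prime_pow_dvd_dvd _ _).2 fun r e hr he => ?_
  rcases Nat.eq_zero_or_pos e with rfl | e0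
  · simp
  have h0 := (dvd_pow_self r e0.ne').trans he
  obtain ⟨h1, h2, h3⟩ := h.prime b hq hi hr (h0.trans hm.1) (hm.not_dvd hr h0)
  have h5 := (h r hr (h0.trans hm.1) (hm.not_dvd hr h0)).2 e e0 (he.trans hm.1)
  refine Nat.dvd_gcd h5 ((pow_dvd_pow r ?_).trans (pow_dvd_pow_of_dvd (List.dvd_prod
    (List.mem_filter.2 ⟨h1, decide_eq_true ⟨h2, h3⟩⟩)) 230))
  exact ((Nat.pow_lt_pow_iff_right one_lt_two).1 (((Nat.pow_le_pow_left hr.two_le e).trans
    (Nat.le_of_dvd b.pos h5)).trans_lt b.lt)).le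

theorem Gd.not_bad (h : Gd q i n M) (b : Bd n M) (hq : 2 ≤ q) (hi : 3 ≤ i) :
    ¬ bad n M q i = true := fun hx => by
  simp only [bad, Bool.and_eq_true, decide_eq_true_eq, List.all_eq_true] at hx
  obtain ⟨⟨h1, h2⟩, h3⟩ := hx
  exact absurd (Nat.mod_eq_zero_of_dvd (h.dvd_bb b hq hi ⟨Nat.dvd_of_mod_eq_zero h2, fun k k1 k2 =>
    h3 k (List.mem_range'_1.2 (by omega))⟩)) h1

theorem Gd.of_cI (h : Gd q i n M) (b : Bd n M) (hq : 2 ≤ q) (h3 : 3 ≤ i) (hz : ¬ (q = 2 ∧ i = 6))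
    {f : ℕ → ℕ → Bool} (hc : (List.range' 3 68).all (cI f n M) = true) : f i q = true := by
  obtain ⟨r, hr, h1, h2⟩ := zsigmondy q i hq (by omega) hz (by omega)
  obtain ⟨h4, -, h5⟩ := h.prime b hq h3 hr h1 h2
  have h6 : i ≤ 70 := by
    have := ps_le r h4
    have := hr.two_le
    by_contra h7
    rcases (show r < i ∨ i = r by omega) with e | e
    · rw [Nat.mod_eq_of_lt e] at h5
      omega
    · simp [e] at h5
  have h7 : bb n M i ≠ 1 := fun e => hr.one_lt.ne' (Nat.dvd_one.1 (e ▸ h.dvd_bb b hq h3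
    ⟨h1, fun k k1 k2 => hr.coprime_iff_not_dvd.2 (h2 k k1 k2)⟩))
  obtain ⟨m, -, -, hm, h8⟩ := exists_isPrimDiv_cyc_dvd (n := i) (by omega) hq
  replace h8 := h8.trans (Nat.mul_dvd_mul_right (h.dvd_bb b hq h3 hm) _)
  have h9 := List.all_eq_true.1 hc _ (List.mem_range'_1.2 (show _ ≤ i ∧ _ by omega))
  simp only [cI, h7, decide_false, Bool.false_or] at h9
  split_ifs at h9 with hi
  · rw [Bool.and_eq_true, decide_eq_true_eq, List.all_eq_true] at h9
    have h10 := h9.2 _ (mem_divs _ (fun x hx => by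
      obtain ⟨s, hs, rfl⟩ := List.mem_map.1 hx
      exact ps_prime s hs) (h9.1 ▸ h8))
    obtain ⟨s, e1, e2, s1⟩ := cyc_small hq hi
    simp only [cD, Bool.and_eq_true, decide_eq_true_eq, Bool.or_eq_true] at h10
    obtain rfl : s = isq 100 (cyc i q) (cyc i q) := by
      have h11 : s * s ≤ cyc i q ∧ cyc i q < (s + 1) * (s + 1) := by
        rw [e2]
        split_ifs <;> constructor <;> nlinarith
      exact (Nat.eq_sqrt.2 h11).trans (Nat.eq_sqrt.2 h10.1).symm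
    exact e1 ▸ h10.2.resolve_left fun e => e e2
  · rw [Bool.and_eq_true, decide_eq_true_eq, List.all_eq_true, zsTot_eq] at h9
    have h10 : _ ≤ 4 * (bb n M i * i) :=
      (pow_totient_le_four_mul_cyc i q (by omega) hq).trans (Nat.mul_le_mul_left 4
      (Nat.le_of_dvd (Nat.mul_pos (Nat.gcd_pos_of_pos_left _ b.pos) (by omega)) h8))
    have h11 := lt_of_pow_lt_pow_left₀ _ (by omega) (h10.trans_lt h9.1)
    have := h9.2 q (List.mem_range'_1.2 (by omega))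
    rwa [decide_eq_false (not_lt.2 h10), Bool.false_or] at this

/-- the check for one order -/
def cN (c : ℕ → ℕ → Bool) (n : ℕ) : Bool :=
  (fun a => decide (n % 2 ^ a = 0 ∧ n % 2 ^ (a + 1) ≠ 0 ∧ PS.prod ^ 50 % n = 0 ∧
    0 < n * (2 ^ a - 1) ∧ n * (2 ^ a - 1) < 2 ^ 230) && c n (n * (2 ^ a - 1))) (val 2 100 n)

theorem of_cN {c : ℕ → ℕ → Bool} (h3 : cN c n = true) {a : ℕ} (ha : PP 2 a n) :
    Bd n (n * (2 ^ a - 1)) ∧ c n (n * (2 ^ a - 1)) = true := by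
  simp only [cN, Bool.and_eq_true, decide_eq_true_eq] at h3
  obtain ⟨⟨h4, h5, h6, h7, h8⟩, h9⟩ := h3
  obtain rfl : a = val 2 100 n := by
    by_contra hne
    rcases Nat.lt_or_gt_of_ne hne with e | e
    · exact ha.2 ((pow_dvd_pow 2 e).trans (Nat.dvd_of_mod_eq_zero h4))
    · exact h5 (Nat.mod_eq_zero_of_dvd ((pow_dvd_pow 2 e).trans ha.1))
  exact ⟨⟨Nat.dvd_of_mod_eq_zero h6, h7, h8⟩, h9⟩

/-- `q` is not a prime power -/
def npp (q : ℕ) : Bool :=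
  decide (q < 2 ^ 230) && PS.any fun s => decide (q % s = 0 ∧ s ^ 230 % q ≠ 0)

theorem not_npp {p f : ℕ} (hp : p.Prime) : ¬ npp (p ^ f) = true := fun h => by
  simp only [npp, Bool.and_eq_true, decide_eq_true_eq, List.any_eq_true] at h
  obtain ⟨h1, s, hs, h2, h3⟩ := h
  obtain rfl := (Nat.prime_dvd_prime_iff_eq (ps_prime s hs) hp).1
    ((ps_prime s hs).dvd_of_dvd_pow (Nat.dvd_of_mod_eq_zero h2))
  refine h3 (Nat.mod_eq_zero_of_dvd (pow_dvd_pow s ?_))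
  exact ((Nat.pow_lt_pow_iff_right one_lt_two).1 ((Nat.pow_le_pow_left hp.two_le f).trans_lt h1)).le

/-- some prime divisor of `n` divides neither `q` nor one of the numbers `Q ^ e - 1`, `e ∈ l` -/
def xp (n q : ℕ) (Q : ℤ) (l : List ℕ) : Bool :=
  PS.any fun r => decide (n % r = 0 ∧ q % r ≠ 0) && l.all fun e => decide ((Q ^ e - 1) % r ≠ 0)

theorem not_xp {Q : ℤ} {l : List ℕ}
    (h : ∀ r, r.Prime → r ∣ n → r ∣ q ∨ ∃ e ∈ l, (r : ℤ) ∣ Q ^ e - 1) : ¬ xp n q Q l = true :=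
  fun hx => by
  simp only [xp, Bool.and_eq_true, decide_eq_true_eq, List.any_eq_true, List.all_eq_true] at hx
  obtain ⟨r, hr, ⟨h1, h2⟩, h3⟩ := hx
  rcases h r (ps_prime r hr) (Nat.dvd_of_mod_eq_zero h1) with h4 | ⟨e, he, h4⟩
  · exact h2 (Nat.mod_eq_zero_of_dvd h4)
  · exact h3 e he (Int.emod_eq_zero_of_dvd h4)

/-! ### Linear and unitary groups -/

/-- the order of the cyclic torus of an irreducible element -/
def tN (Q : ℤ) (N : ℕ) : ℕ := (Q ^ N - 1).natAbs / (Q - 1).natAbs / Nat.gcd N (Q - 1).natAbs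

/-- the order of the cyclic torus of type `(N - 1, 1)` -/
def tM (Q : ℤ) (N : ℕ) : ℕ := (Q ^ (N - 1) - 1).natAbs / Nat.gcd N (Q - 1).natAbs

/-- the order of `q` in terms of the order of `ε q` -/
def nu (ε : ℤ) (m : ℕ) : ℕ :=
  if ε = 1 then m else if m % 2 = 1 then 2 * m else if m % 4 = 0 then m else m / 2

def gL (Q : ℤ) (N m : ℕ) : Bool :=
  decide (3 ≤ m) && ((decide (m = N) && decide (tN Q N % 2 = 1)) ||
    (decide (m + 1 = N) && decide (tM Q N % 2 = 1)))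

def survL : List (ℕ × ℤ × ℕ) :=
  [(7920, -2, 5), (95040, -2, 5), (443520, 5, 6), (443520, -2, 6), (175560, 11, 3), (175560, 11, 4),
   (175560, -11, 6), (175560, -7, 6), (604800, 4, 3), (604800, 2, 4), (604800, -7, 4),
   (604800, -3, 4), (604800, 5, 6), (604800, -5, 3), (604800, -5, 4), (50232960, -2, 9),
   (64561751654400, 5, 6), (44352000, 5, 6), (44352000, -2, 6), (898128000, 5, 6),
   (898128000, -2, 6), (4030387200, 4, 4), (145926144000, 17, 6), (145926144000, -17, 4),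
   (448345497600, 5, 6), (460815505920, -2, 10), (273030912000000, 11, 3), (273030912000000, 11, 4),
   (273030912000000, -11, 6), (273030912000000, -7, 6), (17971200, 3, 4), (17971200, -3, 6),
   (17971200, -4, 3)]

def chkL (n M q : ℕ) (ε : ℤ) (N : ℕ) : Bool :=
  ([N, N - 1].any fun m => gL (ε * q) N m && bad n M q (nu ε m)) ||
    xp n q (ε * q) (List.range' 1 N) || npp q || decide ((n, ε * q, N) ∈ survL)

def fL (n M i q : ℕ) : Bool :=
  [(1 : ℤ), -1].all fun ε => [i, 2 * i, i / 2].all fun m => [m, m + 1].all fun N =>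
    !(decide (2 ≤ q ∧ nu ε m = i) && gL (ε * q) N m) || chkL n M q ε N

/-! ### `G₂`, `E₇`, `L₂` -/

def fG (n M i q : ℕ) : Bool :=
  decide (i ≠ 3 ∨ q < 2) || bad n M q 3 || bad n M q 6 || xp n q q [6] || npp q

def fE (n M i q : ℕ) : Bool :=
  decide (¬ (i = 9 ∨ (i = 18 ∧ q % 4 = 1))) || bad n M q i

def surv2 : List (ℕ × ℕ) :=
  [(7920, 11), (95040, 11), (175560, 1331), (604800, 125), (604800, 49), (273030912000000, 1331),
   (17971200, 25)]

/-- the part of `M` on the primes of `n` -/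
def b2 (n M : ℕ) : ℕ := Nat.gcd M (n ^ 230)

def chk2 (n M q : ℕ) : Bool :=
  (if q % 2 = 0 then decide (b2 n M % (q - 1) ≠ 0 ∨ b2 n M % (q + 1) ≠ 0)
    else if q % 4 = 1 then decide (b2 n M % ((q + 1) / 2) ≠ 0)
    else decide (b2 n M % ((q - 1) / 2) ≠ 0)) || xp n q q [2] || decide ((n, q) ∈ surv2)

def f2 (n M : ℕ) : Bool :=
  PS.all fun p => decide (n % p ≠ 0) || (List.range' 1 231).all fun f => chk2 n M (p ^ f)

theorem allL : ords.all (cN fun n M => (List.range' 3 68).all (cI (fL n M) n M)) = true := by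
  decide +kernel

theorem allG : ords.all (cN fun n M => (List.range' 3 68).all (cI (fG n M) n M)) = true := by
  decide +kernel

theorem allE : ords.all (cN fun n M => (List.range' 3 68).all (cI (fE n M) n M)) = true := by
  decide +kernel

theorem all2 : ords.all (cN f2) = true := by decide +kernel

theorem gL_basic {Q : ℤ} {N m : ℕ} (h : gL Q N m = true) :
    3 ≤ m ∧ ((m = N ∧ Odd (tN Q N)) ∨ (m + 1 = N ∧ Odd (tM Q N))) := by
  simpa [gL, Nat.odd_iff] using h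

theorem three_le_nu {ε : ℤ} {m : ℕ} (h : 3 ≤ m) : 3 ≤ nu ε m := by
  unfold nu
  split_ifs <;> omega

theorem two_le_pp {p f : ℕ} (hp : p.Prime) (hf : 0 < f) : 2 ≤ p ^ f :=
  hp.two_le.trans (Nat.le_self_pow hf.ne' p)

theorem ntL (hn : n ∈ ords) {a : ℕ} (ha : PP 2 a n) {ε : ℤ} (hε : ε = 1 ∨ ε = -1) {p f N : ℕ}
    (hp : p.Prime) (hf : 0 < f) (hq : q = p ^ f)
    (hg : ∀ m, gL (ε * q) N m = true → Gd q (nu ε m) n (n * (2 ^ a - 1)))
    (he : ∃ m, gL (ε * q) N m = true ∧ ¬ (q = 2 ∧ nu ε m = 6))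
    (hx : ∀ r, r.Prime → r ∣ n → r ∣ q ∨ ∃ e, 0 < e ∧ e ≤ N ∧ (r : ℤ) ∣ (ε * q) ^ e - 1) :
    (n, ε * q, N) ∈ survL := by
  obtain ⟨b, hc⟩ := of_cN (List.all_eq_true.1 allL n hn) ha
  obtain ⟨m, h1, h2⟩ := he
  have q2 : 2 ≤ q := hq ▸ two_le_pp hp hf
  obtain ⟨h3, h4⟩ := gL_basic h1
  have h5 := (hg m h1).of_cI b q2 (three_le_nu h3) h2 hc
  simp only [fL, List.all_eq_true] at h5
  have h6 := h5 ε (by simpa using hε) m (by
    simp only [nu, List.mem_cons, List.not_mem_nil, or_false]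
    split_ifs <;> omega) N (by simp; omega)
  rw [h1, decide_eq_true ⟨q2, rfl⟩] at h6
  simp only [Bool.and_self, Bool.not_true, Bool.false_or, chkL, Bool.or_eq_true,
    decide_eq_true_eq] at h6
  rcases h6 with ((h6 | h6) | h6) | h6
  · obtain ⟨m', -, h7⟩ := List.any_eq_true.1 h6
    rw [Bool.and_eq_true] at h7
    exact absurd h7.2 ((hg m' h7.1).not_bad b q2 (three_le_nu (gL_basic h7.1).1))
  · refine absurd h6 (not_xp fun r hr d => (hx r hr d).imp_right ?_)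
    rintro ⟨e, e0, e1, e2⟩
    exact ⟨e, List.mem_range'_1.2 (by omega), e2⟩
  · exact absurd h6 (hq ▸ not_npp hp)
  · exact h6

theorem ntG (hn : n ∈ ords) {a : ℕ} (ha : PP 2 a n) {p f : ℕ} (hp : p.Prime) (hf : 0 < f)
    (hq : q = p ^ f) (h3 : Gd q 3 n (n * (2 ^ a - 1))) (h6 : Gd q 6 n (n * (2 ^ a - 1)))
    (hx : ∀ r, r.Prime → r ∣ n → r ∣ q ∨ (r : ℤ) ∣ (q : ℤ) ^ 6 - 1) : False := by
  obtain ⟨b, hc⟩ := of_cN (List.all_eq_true.1 allG n hn) ha
  have q2 : 2 ≤ q := hq ▸ two_le_pp hp hf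
  have h5 := h3.of_cI b q2 le_rfl (by omega) hc
  simp only [fG, Bool.or_eq_true, decide_eq_true_eq] at h5
  rcases h5 with (((h5 | h5) | h5) | h5) | h5
  · omega
  · exact h3.not_bad b q2 le_rfl h5
  · exact h6.not_bad b q2 (by omega) h5
  · exact not_xp (fun r hr d => (hx r hr d).imp_right fun e => ⟨6, by simp, e⟩) h5
  · exact absurd h5 (hq ▸ not_npp hp)

theorem ntE (hn : n ∈ ords) {a : ℕ} (ha : PP 2 a n) (q2 : 2 ≤ q)
    (hi : i = 9 ∨ (i = 18 ∧ q % 4 = 1)) (h : Gd q i n (n * (2 ^ a - 1))) : False := by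
  obtain ⟨b, hc⟩ := of_cN (List.all_eq_true.1 allE n hn) ha
  have h5 := h.of_cI b q2 (by omega) (by omega) hc
  simp only [fE, Bool.or_eq_true, decide_eq_true_eq] at h5
  exact h5.elim (fun h6 => h6 hi) (h.not_bad b q2 (by omega))

theorem dvd_b2 (b : Bd n M) {k : ℕ}
    (h : ∀ r e, r.Prime → 0 < e → r ^ e ∣ k → r ∣ n ∧ r ^ e ∣ M) : k ∣ b2 n M := by
  refine (Nat.dvd_iff_prime_pow_dvd_dvd _ _).2 fun r e hr he => ?_
  rcases Nat.eq_zero_or_pos e with rfl | e0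
  · simp
  obtain ⟨h1, h5⟩ := h r e hr e0 he
  refine Nat.dvd_gcd h5 ((pow_dvd_pow r ?_).trans (pow_dvd_pow_of_dvd h1 230))
  exact ((Nat.pow_lt_pow_iff_right one_lt_two).1 (((Nat.pow_le_pow_left hr.two_le e).trans
    (Nat.le_of_dvd b.pos h5)).trans_lt b.lt)).le

theorem nt2 (hn : n ∈ ords) {a : ℕ} (ha : PP 2 a n) {p f : ℕ} (hp : p.Prime) (hf : 0 < f)
    (hq : q = p ^ f) (hpn : p ∣ n)
    (hg : ∀ k, (q % 2 = 0 ∧ (k = q - 1 ∨ k = q + 1)) ∨ (q % 4 = 1 ∧ k = (q + 1) / 2) ∨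
      (q % 4 = 3 ∧ k = (q - 1) / 2) →
      ∀ r e, r.Prime → 0 < e → r ^ e ∣ k → r ∣ n ∧ r ^ e ∣ n * (2 ^ a - 1))
    (hx : ∀ r, r.Prime → r ∣ n → r ∣ q ∨ (r : ℤ) ∣ (q : ℤ) ^ 2 - 1) : (n, q) ∈ surv2 := by
  obtain ⟨b, hc⟩ := of_cN (List.all_eq_true.1 all2 n hn) ha
  have hb : ∀ k, _ → k ∣ b2 n (n * (2 ^ a - 1)) := fun k hk => dvd_b2 b (hg k hk)
  have hl : b2 n (n * (2 ^ a - 1)) < 2 ^ 230 :=
    (Nat.le_of_dvd b.pos (Nat.gcd_dvd_left _ _)).trans_lt b.lt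
  have h0 : 0 < b2 n (n * (2 ^ a - 1)) := Nat.gcd_pos_of_pos_left _ b.pos
  have hq' : q < 2 ^ 232 := by
    by_cases h2 : q % 2 = 0
    · have := Nat.le_of_dvd h0 (hb _ (.inl ⟨h2, .inr rfl⟩))
      omega
    by_cases h4 : q % 4 = 1
    · have := Nat.le_of_dvd h0 (hb _ (.inr (.inl ⟨h4, rfl⟩)))
      omega
    · have := Nat.le_of_dvd h0 (hb _ (.inr (.inr ⟨by omega, rfl⟩)))
      omega
  have hf' : f < 232 := (Nat.pow_lt_pow_iff_right one_lt_two).1
    ((Nat.pow_le_pow_left hp.two_le f).trans_lt (hq ▸ hq'))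
  have h5 := List.all_eq_true.1 hc p (mem_ps hp (hpn.trans b.ps))
  rw [decide_eq_false (not_not.2 (Nat.mod_eq_zero_of_dvd hpn)), Bool.false_or] at h5
  have h6 := List.all_eq_true.1 h5 f (List.mem_range'_1.2 (by omega))
  rw [← hq] at h6
  simp only [chk2, Bool.or_eq_true, decide_eq_true_eq] at h6
  rcases h6 with (h6 | h6) | h6
  · exfalso
    split_ifs at h6 with h2 h4 <;> rw [decide_eq_true_eq] at h6
    · exact h6.elim (fun h => h (Nat.mod_eq_zero_of_dvd (hb _ (.inl ⟨h2, .inl rfl⟩))))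
        fun h => h (Nat.mod_eq_zero_of_dvd (hb _ (.inl ⟨h2, .inr rfl⟩)))
    · exact h6 (Nat.mod_eq_zero_of_dvd (hb _ (.inr (.inl ⟨h4, rfl⟩))))
    · exact h6 (Nat.mod_eq_zero_of_dvd (hb _ (.inr (.inr ⟨by omega, rfl⟩))))
  · exact absurd h6 (not_xp fun r hr d => (hx r hr d).imp_right fun e => ⟨2, by simp, e⟩)
  · exact h6

end H70.IS
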