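/- S3586: a group of the order of `HS` acting on an abelian `3`-group, local lemmas. -/
import Cfsg.Agent.H11.SPIso
import Cfsg.Agent.H87.SylowInter
import Cfsg.Agent.H1.CoprimeGen

set_option autoImplicit false

namespace H70.IS

open H40.SP Subgroup H11.SP

universe u

variable {S V : Type u} [Group S] [Finite S] [CommGroup V] [Finite V] {φ : S →* MulAut V}

theorem fill {A C B : Subgroup S} {p : ℕ} (hp : p.Prime) (h : Nat.card B = p * Nat.card A)
    (h1 : A < C) (h2 : C ≤ B) : C = B := by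
  obtain ⟨i, hi⟩ := card_dvd_of_le h1.le
  obtain ⟨j, hj⟩ := card_dvd_of_le h2
  have e : p = i * j := Nat.eq_of_mul_eq_mul_right (Nat.card_pos (α := A))
    (by rw [← h, hj, hi]; ring)
  rcases hp.eq_one_or_self_of_dvd j (Dvd.intro_left i e.symm) with rfl | rfl
  · exact eq_of_le_of_card_ge h2 (by omega)
  · obtain rfl : i = 1 := Nat.eq_of_mul_eq_mul_right hp.pos (by omega)
    exact absurd (eq_of_le_of_card_ge h1.le (by omega)) h1.ne

theorem zp {p : ℕ} (hp : p.Prime) {z c : S} (hz : orderOf z = p) (h : c ∈ zpowers z) (h1 : c ≠ 1) :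
    z ∈ zpowers c :=
  H18.mem_zpowers_of_orderOf_dvd (K := zpowers z) inferInstance (mem_zpowers z) h
    (hz ▸ dvd_ord hp (.of_card (n := 1) (by rw [Nat.card_zpowers, hz, pow_one])) h h1)

/-- the stabilizer of `v` -/
def St (φ : S →* MulAut V) (v : V) : Subgroup S := (MulAction.stabilizer (MulAut V) v).comap φ

omit [Finite S] [Finite V] in
theorem mem_St {a : S} {v : V} : a ∈ St φ v ↔ φ a v = v := Iff.rfl

omit [Finite S] [Finite V] in
theorem ap (a b : S) (v : V) : φ a (φ b v) = φ (a * b) v := by rw [map_mul]; rfl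

omit [Finite S] [Finite V] in
theorem conj_St {a p : S} {v : V} : a ∈ St φ (φ p⁻¹ v) ↔ p * a * p⁻¹ ∈ St φ v := by
  rw [mem_St, mem_St, ← (φ p).apply_eq_iff_eq, ap, ap, ap, mul_inv_cancel, map_one]
  rfl

structure HV (φ : S →* MulAut V) : Prop where
  card : Nat.card S = 44352000
  cen : ∀ t : S, (∀ s, s * t = t * s) → t = 1
  inj : ∀ s, (∀ v, φ s v = v) → s = 1
  cop : IsPGroup 3 V
  ten : ∀ s v, orderOf s = 10 → φ s v = v → v = 1
  n20 : 4 * 5 ∉ om S
  n25 : 25 ∉ om S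
  n35 : ∀ r, r = 7 ∨ r = 11 → 5 * r ∉ om S

variable (h : HV φ)
include h

omit [Finite V] in
theorem HV.o5 {B : Subgroup S} (hB : IsPGroup 5 B) {x : S} (hx : x ∈ B) (h1 : x ≠ 1) :
    orderOf x = 5 := by
  have := Fact.mk Nat.prime_five
  obtain ⟨k, hk⟩ := IsPGroup.iff_orderOf.1 hB ⟨x, hx⟩
  rw [orderOf_mk] at hk
  rcases k with _ | _ | k
  · exact absurd (orderOf_eq_one_iff.1 hk) h1
  · exact hk
  · exact absurd (om_dvd ⟨5 ^ k, by ring⟩ ⟨x, hk⟩) h.n25

omit [Finite S] [Finite V] in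
theorem HV.inv {t x : S} (ht : orderOf t = 2) (hx : orderOf x = 5) (c : Commute t x) {v : V}
    (hv : φ x v = v) : φ t v = v⁻¹ := by
  have t2 : t * t = 1 := by rw [← pow_two, ← ht, pow_orderOf_eq_one]
  refine eq_inv_of_mul_eq_one_left (h.ten (t * x) _ (by
    rw [c.orderOf_mul_eq_mul_orderOf_of_coprime (by rw [ht, hx]; decide), ht, hx]) ?_)
  rw [map_mul (φ _), ap, c.eq, mul_assoc, t2, mul_one, ← c.eq, ← ap, hv, mul_comm]

theorem HV.gen {B : Subgroup S} (pB : IsPGroup 5 B) [IsMulCommutative B] (nc : ¬ IsCyclic B)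
    (L : Subgroup V) (hL : ∀ b ∈ B, orderOf b = 5 → ∀ v, φ b v = v → v ∈ L) (v : V) : v ∈ L :=
  have := Fact.mk Nat.prime_five
  have := Fact.mk Nat.prime_three
  H1.le_of_noncyclic_fixed nc (φ.comp B.subtype) ⊤ (fun _ _ _ => trivial)
    (IsPGroup.coprime_card_of_ne 5 3 (by decide) _ _ pB (h.cop.to_subgroup ⊤)) L
    (fun a h1 x _ e => hL a a.2 (h.o5 pB a.2 fun e => h1 (Subtype.ext e)) x e) trivial

theorem HV.l0 {B : Subgroup S} (hB : Nat.card B = 5 ^ 2) {t : S} (ht : orderOf t = 2)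
    (c : ∀ b ∈ B, Commute t b) : False := by
  have := Fact.mk Nat.prime_five
  have := IsPGroup.isMulCommutative_of_card_eq_prime_sq hB
  have k : ∀ v, φ t v = v⁻¹ := h.gen (.of_card hB) (fun _ => by
      obtain ⟨g, hg⟩ := IsCyclic.exists_ofOrder_eq_natCard (α := B)
      exact h.n25 ⟨g, by rw [orderOf_coe, hg, hB]; rfl⟩)
    ((φ t).toMonoidHom.eqLocus invMonoidHom) fun b hb o v e => h.inv ht o (c b hb) e
  rw [h.cen t fun s => mul_inv_eq_one.1 (h.inj _ fun v => ?_), orderOf_one] at ht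
  · omega
  · rw [← (φ (t * s)).apply_symm_apply v, ← MulAut.inv_apply, ← map_inv]
    generalize φ (t * s)⁻¹ v = w
    rw [ap, inv_mul_cancel_right, ← ap, ← ap, k, k, map_inv]

omit [Finite S] [Finite V] in
theorem HV.l1 {s x z : S} (hs : orderOf s = 2) (hx : orderOf x = 5) (hz : orderOf z = 5)
    (c : Commute s x) (c' : Commute z x) (i : s * z * s⁻¹ = z⁻¹) {v : V} (hv : x ∈ St φ v) :
    z ∈ St φ v := by
  have a := h.inv hs hx c (v := φ z v) (by rw [ap, ← c'.eq, ← ap, mem_St.1 hv])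
  rw [ap, mul_inv_eq_iff_eq_mul.1 i, ← ap, h.inv hs hx c hv, map_inv, inv_inj] at a
  have b : z * z ∈ St φ v := by rw [mem_St, ← ap, ← a, ap, mul_inv_cancel, map_one]; rfl
  have := pow_mem b 3
  rwa [← pow_two, ← pow_mul, ← pow_mod_orderOf, hz, pow_one] at this

theorem HV.g {x z p : S} (hx : orderOf x = 5) (hz : orderOf z = 5) (c : Commute z x)
    (cp : Commute p z) (m : p * x * p⁻¹ * x⁻¹ ∈ zpowers z) (ne : ¬ Commute p x)
    (f : ∀ v, x ∈ St φ v → z ∈ St φ v) : False := by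
  have := Fact.mk Nat.prime_five
  obtain ⟨c0, e0⟩ : ∃ c0, c0 = p * x * p⁻¹ * x⁻¹ := ⟨_, rfl⟩
  rw [← e0] at m
  have cz : ∀ {w}, w ∈ zpowers z → Commute p w := fun ⟨i, e⟩ => e ▸ cp.zpow_right i
  have k1 : ∀ k : ℕ, p ^ k * x * (p ^ k)⁻¹ = c0 ^ k * x := fun k => by
    induction k with
    | zero => simp
    | succ k ih =>
      rw [show p ^ (k + 1) * x * (p ^ (k + 1))⁻¹ = p * (p ^ k * x * (p ^ k)⁻¹) * p⁻¹ by group, ih,
        ← mul_assoc, ((cz m).pow_right k).eq, pow_succ c0, mul_assoc _ c0, e0]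
      group
  have k2 : ∀ w ∈ zpowers z, ∀ v, w * x ∈ St φ v → z ∈ St φ v := fun w hw v hv => by
    obtain ⟨k, rfl⟩ := mem_powers_iff_mem_zpowers.2 (zpowers_le.2 (zp Nat.prime_five hz m fun e =>
      ne (by rwa [e0, mul_inv_eq_one, mul_inv_eq_iff_eq_mul] at e)) hw)
    have := conj_St.1 (f _ (conj_St.2 (k1 k ▸ hv)))
    rwa [(cp.pow_left k).eq, mul_inv_cancel_right] at this
  obtain ⟨e1, e2, e3⟩ := H99.exists_noncyclic_of_commute hz hx c fun e => ne (cz e)
  rw [h.inj z (h.gen e1 e3 ((φ z).toMonoidHom.eqLocus (.id V)) fun b hb o v hv => ?_),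
    orderOf_one] at hz
  · omega
  obtain ⟨j, i, rfl⟩ := mem_sup_zp c hb
  by_cases d : 5 ∣ i
  · rw [orderOf_dvd_iff_pow_eq_one (x := x).1 (hx ▸ d), mul_one] at hv o
    exact zpowers_le.2 (mem_St.2 hv) (zp Nat.prime_five hz (npow_mem_zpowers z j) fun e => by
      rw [e, orderOf_one] at o; omega)
  · obtain ⟨m, -, e⟩ := Nat.exists_mul_mod_eq_one_of_coprime
      (Nat.prime_five.coprime_iff_not_dvd.2 d).symm (by decide)
    have := pow_mem (mem_St.2 hv) m
    rw [(c.pow_pow j i).mul_pow, ← pow_mul, ← pow_mul, ← pow_mod_orderOf x, hx, e, pow_one] at this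
    exact k2 _ (npow_mem_zpowers z _) v this

omit [Finite V] in
theorem HV.cP (P : Sylow 5 S) : Nat.card P = 5 ^ 3 := by
  have := Fact.mk Nat.prime_five
  rw [P.card_eq_multiplicity, h.card, show 44352000 = 5 ^ 3 * 354816 from rfl,
    Nat.factorization_mul (by decide) (by decide), Nat.prime_five.factorization_pow, Finsupp.add_apply,
    Finsupp.single_eq_same, Nat.factorization_eq_zero_of_not_dvd (by decide)]

omit [Finite V] in
theorem HV.dv {D : Subgroup S} {a b : ℕ} (e : 44352000 = a * b)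
    (h1 : ∀ r, r.Prime → r ∣ a → ¬ r ∣ Nat.card D) : Nat.card D ∣ b :=
  (Nat.coprime_of_dvd fun r hr d d' => h1 r hr d' d).dvd_of_dvd_mul_left
    (e ▸ h.card ▸ card_subgroup_dvd_card D)

omit [Finite V] in
theorem HV.uniq (D : Subgroup S) {P Q : Sylow 5 S} (hP : ↑P ≤ D) (hQ : ↑Q ≤ D)
    (h2 : ¬ 2 ∣ Nat.card D) (h7 : ∀ r, r = 7 ∨ r = 11 → ¬ r ∣ Nat.card D) : P = Q := by
  have := Fact.mk Nat.prime_five
  have d := h.dv (D := D) (a := 2 ^ 9 * (7 * 11)) (b := 5 ^ 3 * 3 ^ 2) rfl fun r hr d => by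
    rcases (hr.dvd_mul).1 d with d | d
    · rwa [(Nat.prime_dvd_prime_iff_eq hr Nat.prime_two).1 (hr.dvd_of_dvd_pow d)]
    · exact h7 r (((hr.dvd_mul).1 d).imp (Nat.prime_dvd_prime_iff_eq hr Nat.prime_seven).1
        (Nat.prime_dvd_prime_iff_eq hr (by norm_num)).1)
  rw [← card_mul_index (P.subtype hP : Subgroup D), Sylow.coe_subtype,
    Nat.card_congr (subgroupOfEquivOfLe hP).toEquiv, h.cP] at d
  obtain ⟨i, hi, e⟩ := (Nat.dvd_prime_pow Nat.prime_three).1
    ((P.subtype hP).card_dvd_index.trans (Nat.dvd_of_mul_dvd_mul_left (by decide) d))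
  have m := card_sylow_modEq_one 5 D
  rw [e] at m
  obtain rfl : i = 0 := by interval_cases i <;> first | rfl | exact absurd m (by decide)
  have := (Nat.card_eq_one_iff_unique.1 e).1
  exact Sylow.subtype_injective (Subsingleton.elim (P.subtype hP) (Q.subtype hQ))

omit [Finite V] in
theorem HV.cm (P : Sylow 5 S) {z p x : S} (hz : orderOf z = 5) (zP : z ∈ P)
    (cz : ∀ p ∈ P, Commute p z) (hp : p ∈ P) (hx : x ∈ P) : p * x * p⁻¹ * x⁻¹ ∈ zpowers z := by
  have := Fact.mk Nat.prime_five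
  let Z := (zpowers z).subgroupOf P
  have : Z.Normal := ⟨fun n ⟨i, e⟩ g => ⟨i, by
    have := (cz g g.2).zpow_right i
    simp only at e
    rw [e] at this
    simpa [e] using (mul_inv_eq_iff_eq_mul.2 this.eq).symm⟩⟩
  have c := card_eq_card_quotient_mul_card_subgroup Z
  rw [Nat.card_congr (subgroupOfEquivOfLe (zpowers_le.2 zP)).toEquiv, Nat.card_zpowers, hz, h.cP] at c
  have := IsPGroup.isMulCommutative_of_card_eq_prime_sq (p := 5) (G := P ⧸ Z) (by omega)
  refine (QuotientGroup.eq_one_iff (N := Z) (⟨p, hp⟩ * ⟨x, hx⟩ * ⟨p, hp⟩⁻¹ * ⟨x, hx⟩⁻¹)).1 ?_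
  simp only [QuotientGroup.mk_mul, QuotientGroup.mk_inv]
  rw [this.is_comm.comm (QuotientGroup.mk ⟨p, hp⟩), mul_inv_cancel_right, mul_inv_cancel]

theorem HV.uniq' {B : Subgroup S} (hB : Nat.card B = 5 ^ 2) {P Q : Sylow 5 S} (lP : B ≤ P)
    (lQ : B ≤ Q) {z : S} (hz : orderOf z = 5) (zB : z ∈ B) (cP : ∀ p ∈ P, Commute p z)
    (cQ : ∀ p ∈ Q, Commute p z) : P = Q := by
  have cz : ∀ {d w}, Commute d z → w ∈ zpowers z → d * w * d⁻¹ = w := fun c ⟨i, e⟩ =>
    mul_inv_eq_iff_eq_mul.2 (e ▸ (c.zpow_right i).eq)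
  let D : Subgroup S :=
    { carrier := {d | Commute d z ∧ ∀ a ∈ B, d * a * d⁻¹ * a⁻¹ ∈ zpowers z}
      one_mem' := ⟨Commute.one_left z, fun a _ => by simp⟩
      mul_mem' := fun {d e} a b => ⟨a.1.mul_left b.1, fun x hx => by
        have := mul_mem (b.2 x hx) (a.2 x hx)
        rw [← cz a.1 (b.2 x hx)] at this
        convert this using 1
        group⟩
      inv_mem' := fun {d} a => ⟨a.1.inv_left, fun x hx => by
        have := inv_mem (a.2 x hx)
        rw [← cz a.1.inv_left this] at this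
        convert this using 1
        group⟩ }
  refine h.uniq D (fun p hp => ⟨cP p hp, fun a ha => h.cm P hz (lP zB) cP hp (lP ha)⟩)
    (fun p hp => ⟨cQ p hp, fun a ha => h.cm Q hz (lQ zB) cQ hp (lQ ha)⟩) (fun d => ?_) fun r hr d => ?_
  · obtain ⟨⟨t, ht⟩, o⟩ := exists_prime_orderOf_dvd_card' 2 d
    rw [orderOf_mk] at o
    refine h.l0 hB o fun b hb => by_contra fun ne => ?_
    have t2 : t * t = 1 := by rw [← pow_two, ← o, pow_orderOf_eq_one]
    have e := cz ht.1 (ht.2 b hb)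
    have d := dvd_ord Nat.prime_five (.of_card (n := 1) (by rw [Nat.card_zpowers, hz, pow_one]))
      (ht.2 b hb) fun e => ne (by rwa [mul_inv_eq_one, mul_inv_eq_iff_eq_mul] at e)
    refine absurd (d.trans (orderOf_dvd_of_pow_eq_one (n := 2) ?_)) (by decide)
    rw [pow_two]
    nth_rw 1 [← e]
    rw [inv_eq_of_mul_eq_one_left t2]
    simp only [← mul_assoc, t2, one_mul]
    simp [mul_assoc, ← mul_assoc t t, t2]
  · have hp : r.Prime := by rcases hr with rfl | rfl <;> norm_num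
    have := Fact.mk hp
    obtain ⟨⟨t, ht⟩, o⟩ := exists_prime_orderOf_dvd_card' r d
    rw [orderOf_mk] at o
    exact h.n35 r hr (mem_om (by rcases hr with rfl | rfl <;> decide) hz.symm.dvd o.symm.dvd ht.1.symm)

omit [Finite V] in
theorem HV.nor {B : Subgroup S} {k : ℕ} (hB : Nat.card B = 5 ^ k) (hk : k = 2 ∨ k = 3) (r : ℕ)
    (hr : r = 7 ∨ r = 11) : ¬ r ∣ Nat.card (normalizer (B : Set S)) := fun d => by
  have hp : r.Prime := by rcases hr with rfl | rfl <;> norm_num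
  obtain ⟨T, l, c⟩ := exists_psub hp (b := 1) (by rwa [pow_one])
  have := H5.card_modEq_one_of_fpf_subgroup l (fpf Nat.prime_five hp (by omega) (h.n35 r hr)
    (.of_card hB) (.of_card c))
  rw [hB, c] at this
  rcases hr with rfl | rfl <;> rcases hk with rfl | rfl <;> exact absurd this (by decide)

end H70.IS
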