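/- S3586: a group of the order of `HS` acting on an abelian `3`-group. -/
import Cfsg.Agent.H70.IsHS1

set_option autoImplicit false

namespace H70.IS

open H40.SP Subgroup H11.SP

universe u

variable {S V : Type u} [Group S] [Finite S] [CommGroup V] [Finite V] {φ : S →* MulAut V}
  (h : HV φ)
include h

theorem HV.case1 (P : Sylow 5 S) (hI : Nat.card (Sylow 5 S) ≡ 1 [MOD 5 ^ 2]) : False := by
  have := Fact.mk Nat.prime_five
  have cP := h.cP P
  obtain ⟨e, he⟩ := card_dvd_of_le (le_normalizer (H := (P : Subgroup S)))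
  have d := h.dv (D := normalizer ((P : Subgroup S) : Set S)) (a := 7 * 11) (b := 5 ^ 3 * 4608) rfl
    fun r hr d => h.nor cP (.inr rfl) r (((hr.dvd_mul).1 d).imp
      (Nat.prime_dvd_prime_iff_eq hr Nat.prime_seven).1
      (Nat.prime_dvd_prime_iff_eq hr (by norm_num)).1)
  have c := card_mul_index (normalizer ((P : Subgroup S) : Set S))
  rw [Sylow.coe_coe, ← P.card_eq_index_normalizer, ← Sylow.coe_coe, he, cP, h.card] at c
  rw [he, cP] at d
  replace d := Nat.dvd_of_mul_dvd_mul_left (by decide) d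
  have e16 : 2 ^ 4 ∣ e := by
    have := hI.mul_left e
    rw [show e * Nat.card (Sylow 5 S) = 354816 by rw [mul_assoc] at c; omega, mul_one] at this
    obtain ⟨a, b, ha, hb, rfl⟩ := (Nat.dvd_mul (m := 2 ^ 9) (n := 3 ^ 2)).1 d
    obtain ⟨i, hi, rfl⟩ := (Nat.dvd_prime_pow Nat.prime_two).1 ha
    obtain ⟨j, hj, rfl⟩ := (Nat.dvd_prime_pow Nat.prime_three).1 hb
    revert this
    interval_cases i <;> interval_cases j <;> decide
  obtain ⟨W, hW, cW⟩ := exists_psub Nat.prime_two (he ▸ e16.mul_left _ :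
    2 ^ 4 ∣ Nat.card (normalizer ((P : Subgroup S) : Set S)))
  let ψ : W →* MulAut P := (P : Subgroup S).normalizerMonoidHom.comp (inclusion hW)
  letI : MulAction W P := MulAction.compHom P ψ
  obtain ⟨x, x1, hx⟩ : ∃ x : (P : Subgroup S), x ≠ 1 ∧ ¬ 8 ∣ Nat.card (MulAction.orbit W x) := by
    by_contra! c
    have := H87.card_modEq_one_of_orbits (G := W) 8 (1 : (P : Subgroup S)) (fun g => map_one (ψ g)) c
    rw [cP] at this
    exact absurd this (by decide)
  have c := card_mul_index (MulAction.stabilizer W x)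
  rw [← H87.card_orbit_eq_index, cW] at c
  obtain ⟨E, hE, cE⟩ := exists_psub Nat.prime_two (N := (MulAction.stabilizer W x).map W.subtype)
    (b := 2) (by
      rw [card_map_of_injective W.subtype_injective]
      obtain ⟨i, hi, e⟩ := (Nat.dvd_prime_pow Nat.prime_two).1 (Dvd.intro_left _ c)
      rw [e] at c hx
      interval_cases i <;> omega)
  have ox := h.o5 P.isPGroup' x.2 fun e => x1 (Subtype.ext e)
  have cx : ∀ a ∈ E, Commute a x := fun a ha => by
    obtain ⟨w, hw, rfl⟩ := hE ha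
    exact mul_inv_eq_iff_eq_mul.1 (congrArg Subtype.val hw)
  have n4 : ∀ a ∈ E, ¬ 4 ∣ orderOf a := fun a ha d =>
    h.n20 (mem_om (by decide) d ox.symm.dvd (cx a ha))
  have := IsPGroup.isMulCommutative_of_card_eq_prime_sq cE
  have l := H1.le_of_noncyclic_centralizer_le (A := E) (K := P) (fun _ => by
      obtain ⟨g, hg⟩ := IsCyclic.exists_ofOrder_eq_natCard (α := E)
      exact n4 g g.2 (by rw [orderOf_coe, hg, cE]; rfl))
    (hE.trans ((map_subtype_le _).trans hW)) (by rw [cE, cP]; decide) (zpowers (x : S))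
    fun a ha a1 => by
      have oa : orderOf a = 2 := by
        obtain ⟨i, hi, e⟩ := (Nat.dvd_prime_pow Nat.prime_two).1 (cE ▸ E.orderOf_dvd_natCard ha)
        have := n4 a ha
        have := mt orderOf_eq_one_iff.1 a1
        interval_cases i <;> omega
      refine (eq_of_le_of_card_ge (zpowers_le.2 (show _ ∈ _ ⊓ _ from
        ⟨x.2, mem_centralizer_singleton_iff.2 (cx a ha).symm⟩)) ?_).ge
      obtain ⟨i, -, e⟩ := (Nat.dvd_prime_pow Nat.prime_five).1
        (cP ▸ card_dvd_of_le (inf_le_left (b := centralizer {a})))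
      rw [e, Nat.card_zpowers, ox]
      refine (Nat.pow_le_pow_right (by decide) (not_lt.1 fun c => ?_) : 5 ^ i ≤ 5 ^ 1)
      obtain ⟨B, lB, cB⟩ := exists_psub Nat.prime_five (e ▸ pow_dvd_pow 5 (c : 2 ≤ i))
      exact h.l0 cB oa fun b hb => (mem_centralizer_singleton_iff.1 (lB hb).2).symm
  have := card_le_of_le l
  rw [cP, Nat.card_zpowers, ox] at this
  omega

theorem HV.case2 {P Q : Sylow 5 S} (ne : P ≠ Q) {B : Subgroup S} (cB : Nat.card B = 5 ^ 2)
    (lP : B ≤ P) (lQ : B ≤ Q) : False := by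
  have := Fact.mk Nat.prime_five
  have pB : IsPGroup 5 B := .of_card cB
  have ab : ∀ a ∈ B, ∀ b ∈ B, Commute a b := fun a ha b hb => congrArg Subtype.val
    ((IsPGroup.isMulCommutative_of_card_eq_prime_sq cB).is_comm.comm ⟨a, ha⟩ ⟨b, hb⟩)
  have fl : ∀ {R : Sylow 5 S} {C}, B < C → C ≤ R → C = R := fun {R _} =>
    fill Nat.prime_five (by rw [h.cP, cB]; rfl)
  have nr : ∀ {R : Sylow 5 S}, B ≤ R → ↑R ≤ normalizer (B : Set S) := fun {R} l =>
    inf_eq_right.1 (fl (H87.lt_normalizer_inf R.isPGroup' (lt_of_le_of_ne l fun e => by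
      rw [e, h.cP] at cB; omega)) inf_le_right)
  have zc : ∀ {R : Sylow 5 S}, B ≤ R → ∃ z ∈ B, orderOf z = 5 ∧ ∀ p ∈ R, Commute p z := fun {R} l => by
    obtain ⟨⟨z, hz⟩, z1⟩ := ne_bot_iff_exists_ne_one.1 (H98.inf_centralizer_ne_bot pB R.isPGroup'
      (nr l) fun e => by rw [e, card_bot] at cB; omega)
    exact ⟨z, hz.1, h.o5 pB hz.1 fun e => z1 (Subtype.ext e), hz.2⟩
  obtain ⟨⟨s, hs⟩, os⟩ := exists_prime_orderOf_dvd_card' (G := normalizer (B : Set S)) 2
    (by_contra fun c => ne (h.uniq _ (nr lP) (nr lQ) c (h.nor cB (.inl rfl))))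
  rw [orderOf_mk] at os
  have s2 : s * s = 1 := by rw [← pow_two, ← os, pow_orderOf_eq_one]
  have ni : ∀ {w}, orderOf w = 5 → s * w * s⁻¹ = w⁻¹ → ¬ Commute s w := fun o e c => by
    rw [c.eq, mul_inv_cancel_right, ← mul_eq_one_iff_eq_inv, ← pow_two] at e
    exact absurd (o ▸ orderOf_dvd_of_pow_eq_one e) (by decide)
  by_cases hc : B ⊓ centralizer {s} = ⊥
  · have iv := inverts s2 hs hc
    obtain ⟨z, zB, oz, cz⟩ := zc lP
    obtain ⟨y, yB, oy, cy⟩ := zc lQ
    have ms : ∀ {p}, p ∈ s • P ↔ s⁻¹ * p * s ∈ P := fun {p} =>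
      mem_pointwise_smul_iff_inv_smul_mem (a := MulAut.conj s) (S := (P : Subgroup S))
    have si : s⁻¹ = s := inv_eq_of_mul_eq_one_left s2
    have sP : s ∈ normalizer ((P : Subgroup S) : Set S) :=
      Sylow.smul_eq_iff_mem_normalizer.1 (h.uniq' cB (fun b hb => ms.2 (by
        rw [si, show s * b * s = b⁻¹ by simpa only [si] using iv b hb]; exact lP (inv_mem hb))) lP oz zB (fun p hp => by
          have := (cz _ (ms.1 hp)).inv_right.map (MulAut.conj s)
          simp only [MulAut.conj_apply, ← iv z zB] at this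
          simpa [mul_assoc, si, ← mul_assoc s s, s2] using this) cz)
    obtain ⟨p, hp, np⟩ : ∃ p ∈ P, ¬ Commute p y := by
      by_contra! c
      exact ne (h.uniq' cB lP lQ oy yB c cy)
    obtain ⟨⟨u, hu⟩, u1⟩ := ne_bot_iff_exists_ne_one.1 fun e => np (by
      have k := inverts s2 sP e
      have := k _ (mul_mem hp (lP yB))
      rw [show s * (p * y) * s⁻¹ = s * p * s⁻¹ * (s * y * s⁻¹) by group, k p hp, k y (lP yB),
        ← mul_inv_rev, inv_inj] at this
      exact this.symm)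
    have ou := h.o5 P.isPGroup' hu.1 fun e => u1 (Subtype.ext e)
    have cu : Commute s u := (mem_centralizer_singleton_iff.1 hu.2).symm
    obtain ⟨q, hq, nq⟩ : ∃ q ∈ P, ¬ Commute q u := by
      by_contra! c
      exact np (mem_centralizer_singleton_iff.1 ((fl (C := P ⊓ centralizer {y}) (lt_of_le_of_ne
        (fun b hb => ⟨lP hb, mem_centralizer_singleton_iff.2 (ab b hb y yB)⟩) fun e => ni ou
          (iv u (e.ge ⟨hu.1, mem_centralizer_singleton_iff.2 (c y (lP yB)).symm⟩)) cu)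
        inf_le_left).ge hp).2)
    exact h.g ou oz (cz u hu.1).symm (cz q hq) (h.cm P oz (lP zB) cz hq hu.1) nq
      fun v => h.l1 os ou oz cu (cz u hu.1).symm (iv z zB)
  obtain ⟨⟨x, hx⟩, x1⟩ := ne_bot_iff_exists_ne_one.1 hc
  have ox := h.o5 pB hx.1 fun e => x1 (Subtype.ext e)
  have cx : Commute s x := (mem_centralizer_singleton_iff.1 hx.2).symm
  obtain ⟨a, ha, na⟩ : ∃ a ∈ B, ¬ Commute s a := by
    by_contra! c
    exact h.l0 cB os c
  have sa : s * a * s⁻¹ ∈ B := (hs a).1 ha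
  have yB := mul_mem (inv_mem ha) sa
  have oy := h.o5 pB yB fun e => na (by
    rw [inv_mul_eq_one, eq_mul_inv_iff_mul_eq] at e; exact e.symm)
  have iy : s * (a⁻¹ * (s * a * s⁻¹)) * s⁻¹ = (a⁻¹ * (s * a * s⁻¹))⁻¹ := by
    rw [mul_inv_rev, inv_inv]
    calc _ = (s * a * s⁻¹)⁻¹ * ((s * s) * a * (s * s)⁻¹) := by group
      _ = _ := by rw [s2]; group
  have key : ∀ {R : Sylow 5 S}, B ≤ R → ∀ p ∈ R, Commute p x := fun {R} l p hp => by_contra fun np => by
    obtain ⟨z, zB, oz, cz⟩ := zc l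
    refine h.g ox oz (ab z zB x hx.1) (cz p hp) (h.cm R oz (l zB) cz hp (l hx.1)) np fun v hv => ?_
    refine ((fill (A := zpowers x) (C := B ⊓ St φ v) Nat.prime_five
      (by rw [cB, Nat.card_zpowers, ox]; rfl) (lt_of_le_of_ne (zpowers_le.2 ⟨hx.1, hv⟩) fun e => ?_)
      inf_le_left).ge zB).2
    obtain ⟨i, e⟩ := e.ge ⟨yB, h.l1 os ox oy cx (ab _ yB x hx.1) iy hv⟩
    exact ni oy iy (e ▸ cx.zpow_right i)
  exact ne (h.uniq' cB lP lQ ox hx.1 (key lP) (key lQ))

theorem HV.false : False := by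
  have := Fact.mk Nat.prime_five
  obtain ⟨P⟩ := (inferInstance : Nonempty (Sylow 5 S))
  obtain ⟨Q, ne, j, hj, e⟩ := H87.exists_sylow_index_le P 2 (h.case1 P)
  have c := card_mul_index ((Q : Subgroup S).subgroupOf P)
  rw [e, h.cP, ← inf_subgroupOf_right, Nat.card_congr (subgroupOfEquivOfLe inf_le_right).toEquiv] at c
  interval_cases j
  · exact ne (H87.sylow_eq_of_le (subgroupOf_eq_top.1 (index_eq_one.1 e))).symm
  · exact h.case2 ne (by omega) inf_le_left inf_le_right

end H70.IS
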