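import Cfsg.Agent.H70.Maz
import Cfsg.Agent.H46.Nil
import Cfsg.Agent.H42.OddOrder

/-! A finite group in which the centralizer of every element of odd prime order `p` has exponent
`p` has TI Sylow `p`-subgroups. -/

set_option autoImplicit false

namespace H70.L2

open Cfsg Subgroup H46

variable {G : Type*} [Group G] [Finite G] {p : ℕ}

theorem ti [hp : Fact p.Prime] (h2 : p ≠ 2)
    (hC : ∀ x y : G, x ≠ 1 → x ^ p = 1 → x * y = y * x → y ^ p = 1) (P₀ Q₀ : Sylow p G)
    (h0 : P₀ ≠ Q₀) : (P₀ : Subgroup G) ⊓ Q₀ = ⊥ := by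
  have hp' := hp.out
  have hexp : ∀ K : Subgroup G, IsPGroup p K → ∀ x ∈ K, x ^ p = 1 := by
    intro K hK x hx
    by_cases x1 : x = 1
    · simp [x1]
    have h1 : IsPGroup p (zpowers x) := hK.to_le (zpowers_le.2 hx)
    obtain ⟨y, hy, oy⟩ := cauchy hp' ((isPi_of_isPGroup hp' h1).prime_and_dvd (by simpa using x1)).2
    obtain ⟨i, rfl⟩ := mem_zpowers_iff.1 hy
    exact hC _ x (fun e => hp'.one_lt.ne (by rw [← oy, e, orderOf_one]))
      (oy ▸ pow_orderOf_eq_one _) (Commute.zpow_self x i)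
  obtain ⟨⟨P, Q⟩, hPQ, hmax⟩ := Set.exists_max_image {x : Sylow p G × Sylow p G | x.1 ≠ x.2}
    (fun x => Nat.card ↥((x.1 : Subgroup G) ⊓ x.2)) (Set.toFinite _) ⟨(P₀, Q₀), h0⟩
  simp only [Set.mem_ofPred_eq] at hPQ hmax
  suffices h : (P : Subgroup G) ⊓ Q = ⊥ by
    have := hmax (P₀, Q₀) h0
    rw [h, card_bot] at this
    exact (card_le_one_iff_eq_bot _).1 this
  by_contra hD
  set D := (P : Subgroup G) ⊓ Q with hDdef
  have pD : IsPGroup p D := P.isPGroup'.to_le inf_le_left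
  have grow : ∀ S : Sylow p G, D ≤ S → D < (S : Subgroup G) ⊓ Nrm D := fun S hS => by
    refine nil_lt_inf_nrm (nil_of_isPGroup hp' S.isPGroup') (lt_of_le_of_ne hS fun e => hPQ ?_)
    exact (Sylow.ext (S.is_maximal' P.isPGroup' (e.ge.trans inf_le_left))).trans
      (Sylow.ext (S.is_maximal' Q.isPGroup' (e.ge.trans inf_le_right))).symm
  have inv : ∀ E : Subgroup G, IsPGroup p E → Nrm D ≤ Nrm E → E ≤ D := by
    intro E hE hn
    have k : ∀ S : Sylow p G, D ≤ S → E ≤ S := fun S hS => by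
      obtain ⟨U, hU⟩ := (hE.to_sup_of_normal_left' (S.isPGroup'.to_le inf_le_left)
        (inf_le_right.trans hn : (S : Subgroup G) ⊓ Nrm D ≤ _)).exists_le_sylow
      by_cases e : U = S
      · exact le_sup_left.trans (e ▸ hU)
      · exact absurd (hmax (U, S) e) (not_le.2 (card_lt_of_lt ((grow S hS).trans_le
          (le_inf (le_sup_right.trans hU) inf_le_left))))
    exact le_inf (k P inf_le_left) (k Q inf_le_right)
  obtain ⟨v, hv, v1⟩ := exists_ne_one_of_ne_bot (zc_ne_bot_of_isPGroup hp' pD hD)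
  have nV : Nrm D ≤ Nrm (Zc D) := nrm_zc le_rfl
  have cV : Nrm D ⊓ Cent (Zc D) ≤ D := inv _ (fun y => ⟨1, Subtype.ext (by
      rw [pow_one]; exact hC v y v1 (hexp D pD v hv.1) (mem_cent.1 y.2.2 v hv))⟩)
    (nrm_inf le_nrm_self (nrm_cent nV))
  obtain ⟨x, hx, hxD⟩ := SetLike.exists_of_lt (grow P inf_le_left)
  have step : ∀ (r : ℕ) (R : Subgroup G), r.Prime → r ≠ p → IsPGroup r R → R ≤ Nrm D →
      Nrm D ≤ Nrm (D ⊔ R) → R = ⊥ := by
    intro r R hr hrp hR h1 h3
    have piD : IsPi {r}ᶜ D := (isPi_of_isPGroup hp' pD).of_singleton fun e => hrp e.symm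
    have piR := isPi_of_isPGroup hr hR
    have triv : ∀ k ∈ R, k ^ p = 1 → k = 1 := fun k hk e =>
      (piR.elt hk).eq_one (PNat.of_dvd ((pnat_prime hp').2 fun e => hrp e.symm)
        (orderOf_dvd_of_pow_eq_one e))
    have fr := frattini_arg hr (N := D ⊔ R) (K := Nrm D) ⟨sup_le le_nrm_self h1, h3⟩
      (isPiHallOf_of_sup h1 piD piR)
    obtain ⟨l, hl, y, hy, e⟩ := (mem_sup_of_nrm (inf_le_left.trans h3)).1 (fr.ge hx.2)
    obtain ⟨d, hd, k, hk, rfl⟩ := (mem_sup_of_nrm h1).1 hl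
    have yP : k * y ∈ (P : Subgroup G) := by
      have := (P : Subgroup G).mul_mem ((P : Subgroup G).inv_mem hd.1) hx.1
      rwa [e, mul_assoc, inv_mul_cancel_left] at this
    have y1 : k * y ≠ 1 := fun e1 => hxD (by rw [e, mul_assoc, e1, mul_one]; exact hd)
    have yp := hexp _ P.isPGroup' _ yP
    have oy : orderOf (k * y) = p := orderOf_eq_prime yp y1
    have := Maz.cent_of_pow (V := Zc D) (K := R) (fun a ha b hb => mem_cent.1 hb.2 a ha.1)
      (h1.trans nV) (x := k * y) (nV (mul_mem (h1 hk) hy.1)) (mul_mem (le_nrm_self hk) hy.2)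
      hp'.pos (fun i i0 ip s hs e => triv s hs (hC _ s (pow_ne_one_of_lt_orderOf i0.ne' (oy ▸ ip))
        (by rw [← pow_mul, mul_comm, pow_mul, yp, one_pow]) e))
      ((piD.of_le inf_le_left).coprime' piR)
      fun w hw => by rw [yp]; exact hexp _ P.isPGroup' _ (mul_mem hw.1.1 yP)
    exact eq_bot_iff.2 fun s hs => triv s hs (hC v s v1 (hexp D pD v hv.1) (this s hs v hv).symm)
  rcases Nat.even_or_odd (Nat.card (Nrm D)) with he | ho
  · obtain ⟨t, ht, ot⟩ := cauchy Nat.prime_two he.two_dvd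
    have invs : ∀ s ∈ Nrm D, orderOf s = 2 → ∀ w ∈ Zc D, s * w * s⁻¹ = w⁻¹ := by
      intro s hs os w hw
      have ss : s * s = 1 := by rw [← pow_two, ← os, pow_orderOf_eq_one]
      have h1 := conj_mem_of_mem_nrm (nV hs) hw
      by_contra h3
      have h4 : w * (s * w * s⁻¹) ≠ 1 := fun e => h3 (eq_inv_of_mul_eq_one_right e)
      have h5 := hC _ s h4 (hexp D pD _ (mul_mem hw.1 h1.1)) (by
        calc w * (s * w * s⁻¹) * s = (s * s) * w * s * w := by rw [ss]; group
          _ = s * (s * w * s⁻¹ * w) * (w⁻¹ * (s * s) * w) := by group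
          _ = s * (w * (s * w * s⁻¹)) := by rw [ss, mem_cent.1 hw.2 _ h1.1]; group)
      exact h2 ((Nat.prime_dvd_prime_iff_eq Nat.prime_two hp').1
        (os ▸ orderOf_dvd_of_pow_eq_one h5)).symm
    have h6 := step 2 (zpowers t) Nat.prime_two h2.symm
      (IsPGroup.of_card (n := 1) (by rw [Nat.card_zpowers, ot, pow_one])) (zpowers_le.2 ht)
      fun g hg => mem_nrm_of_cj_le (by
        rw [cj_sup, cj_of_mem_nrm hg, cj_zpowers]
        refine sup_le le_sup_left (zpowers_le.2 ?_)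
        have h7 : g * t * g⁻¹ ∈ Nrm D := mul_mem (mul_mem hg ht) (inv_mem hg)
        have h8 : t⁻¹ * (g * t * g⁻¹) ∈ D := cV ⟨(Nrm D).mul_mem ((Nrm D).inv_mem ht) h7, mem_cent.2 fun w hw => by
          have e1 := invs t ht ot w hw
          have e2 := invs _ h7 ((orderOf_conj g t).trans ot) w hw
          calc w * (t⁻¹ * (g * t * g⁻¹)) = t⁻¹ * (t * w * t⁻¹) * (g * t * g⁻¹) := by group
            _ = t⁻¹ * ((g * t * g⁻¹) * w * (g * t * g⁻¹)⁻¹)⁻¹⁻¹ * (g * t * g⁻¹) := by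
              rw [e1, e2, inv_inv]
            _ = _ := by group⟩
        have := mul_mem (mem_sup_right (S := D) (mem_zpowers t)) (mem_sup_left h8)
        rwa [mul_inv_cancel_left] at this)
    rw [zpowers_eq_bot] at h6
    simp [h6] at ot
  · have hlt : D < Nrm D := (grow P inf_le_left).trans_le inf_le_right
    obtain ⟨L, hL, hch⟩ := exists_chiefFactor_above (normalIn_nrm D) (NormalIn.refl _) hlt
    obtain ⟨r, hr, -, he⟩ := hch.minNormal.exists_elem
      (sol_quo (sol_of_le (H42.odd_order ho) hL) D)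
    have h1 : PNat {r} (D.relIndex L) := (isPi_quo_iff hL).1 (isPi_of_elem hr he)
    by_cases hrp : r = p
    · subst hrp
      exact hch.2.2.1.not_ge (inv L ((isPi_of_relIndex hch.2.2.1.le (isPi_of_isPGroup hr pD)
        h1).isPGroup hr) hch.2.1.2)
    · obtain ⟨R, hR⟩ := exists_sylow hr L
      have h3 := hR.sup_eq_of_idx hch.2.2.1.le h1
      have h4 := step r R hr hrp (hR.isPGroup hr) (hR.le.trans hL) (h3 ▸ hch.2.1.2)
      rw [h4, sup_bot_eq] at h3
      exact hch.2.2.1.ne h3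

end H70.L2
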