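import Cfsg.Agent.H23.NDSpec
import Cfsg.Agent.H1.Coprime

/-! Tower ND (S4780), item G1: coprime action facts. -/

set_option autoImplicit false

namespace H70.NDG1

open Cfsg Subgroup H23.ND

universe u

variable {G : Type u} [Group G] [Finite G] {p : ℕ} {P : Subgroup G} [P.Normal] {h : G}

omit [Finite G] in
theorem L2_le_CC : L2 P ≤ CC P := fun x hx => mem_CC.2 ⟨commutator_le_left P P hx, fun g =>
  mul_mem (Normal.conj_mem inferInstance x hx g) (inv_mem hx)⟩

theorem cop (H : PG p P h) {d : G} (hd : d ∈ zpowers h) {X : Type*} [Group X] [Finite X]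
    (hX : IsPGroup p X) : (orderOf d).Coprime (Nat.card X) := by
  have := Fact.mk H.b.hp
  obtain ⟨k, hk⟩ := hX.exists_card_eq
  rw [hk]
  exact (Nat.Coprime.coprime_dvd_left (orderOf_dvd_of_mem_zpowers hd) H.co).pow_right k

theorem lift (H : PG p P h) : ∀ d ∈ zpowers h, ∀ (B : Subgroup G) [B.Normal], B ≤ P → ∀ a ∈ P,
    d * a * d⁻¹ * a⁻¹ ∈ B → ∃ b ∈ B, d * (a * b) = a * b * d := by
  intro d hd B _ hB a _ e
  have c : Commute (d : G ⧸ B) (a : G ⧸ B) := by
    have := (QuotientGroup.eq_one_iff _).2 e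
    simp only [QuotientGroup.mk_mul, QuotientGroup.mk_inv] at this
    rwa [mul_inv_eq_one, mul_inv_eq_iff_eq_mul] at this
  obtain ⟨b, hb, e1⟩ := H1.exists_centralizer_mem_coset (A := zpowers d) (N := B)
    le_normalizer_of_normal (by rw [Nat.card_zpowers]; exact cop H hd (H.pg.to_le hB))
    (.inl (H1.isSolvable_of_isMulCommutative _)) a (by
      rintro _ ⟨k, rfl⟩
      refine (QuotientGroup.eq_one_iff _).1 ?_
      simp only [QuotientGroup.mk_mul, QuotientGroup.mk_inv, QuotientGroup.mk_zpow]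
      rw [(c.zpow_left k).eq]
      group)
  exact ⟨b, hb, e1 d (mem_zpowers d)⟩

theorem fc (H : PG p P h) : ∀ d ∈ zpowers h, d ∉ P → ∀ y ∈ P, d * y * d⁻¹ * y⁻¹ ∈ CC P →
    y ∈ CC P := by
  intro d hd d1 y hy e
  obtain ⟨b, hb, e1⟩ := lift H d hd (CC P) (CC_le P) y hy e
  have := H.f.fr d d1 (y * b) (mul_mem hy (CC_le P hb)) (by
    rw [e1, mul_inv_cancel_right, mul_inv_cancel]; exact one_mem _)
  exact (mul_mem_cancel_right hb).1 this

theorem jobG1 : JobG1.{u} := by
  intro G _ _ p P _ h H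
  refine ⟨le_antisymm (fun x hx => ?_) (sup_le (fun x hx => ?_) L2_le_CC), fun A B _ _ BA AP c => ?_,
    lift H, fun d hd d1 x hx => ?_, fc H⟩
  · obtain ⟨x1, x2⟩ := mem_CC.1 hx
    obtain ⟨b, hb, e⟩ := lift H h (mem_zpowers h) (L2 P) (commutator_le_left P P) x x1 (x2 h)
    have := mul_mem (mem_sup_left (T := L2 P) (mem_C0.2
      ⟨mul_mem x1 (commutator_le_left P P hb), e⟩)) (mem_sup_right (inv_mem hb))
    rwa [mul_inv_cancel_right] at this
  · obtain ⟨x1, x2⟩ := mem_C0.1 hx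
    refine mem_CC.2 ⟨x1, fun g => ?_⟩
    obtain ⟨y, hy, _, ⟨k, rfl⟩, rfl⟩ := dec_gen H.b.gen g
    have := commutator_mem_commutator hy x1
    convert this using 1
    have e := (Commute.zpow_left (show Commute h x from x2) k).eq
    calc y * h ^ k * x * (y * h ^ k)⁻¹ * x⁻¹ = y * (h ^ k * x) * (h ^ k)⁻¹ * y⁻¹ * x⁻¹ := by group
      _ = _ := by rw [e, commutatorElement_def]; group
  · let π := QuotientGroup.mk' B
    let W := A.map π
    have hW : W.Normal := Normal.map inferInstance π (QuotientGroup.mk'_surjective B)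
    have AP' : A ≤ P := AP.trans (commutator_le_left P P)
    have ker : ∀ g a : G, π g * π a * (π g)⁻¹ = π a ↔ g * a * g⁻¹ * a⁻¹ ∈ B := fun g a => by
      rw [← mul_inv_eq_one, ← map_inv, ← map_inv, ← map_mul, ← map_mul, ← map_mul]
      exact QuotientGroup.eq_one_iff _
    letI : CommGroup W := { (inferInstance : Group W) with
      mul_comm := by
        rintro ⟨_, a, ha, rfl⟩ ⟨_, b, hb, rfl⟩
        exact Subtype.ext (mul_inv_eq_iff_eq_mul.1 ((ker a b).2
          (c (commutator_mem_commutator ha (AP' hb))))) }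
    letI : MulDistribMulAction G W := MulDistribMulAction.compHom W
      ((MulAut.conjNormal : G ⧸ B →* MulAut W).comp π)
    have sm : ∀ (g : G) (w : W), ((g • w : W) : G ⧸ B) = π g * w * (π g)⁻¹ := fun _ _ => rfl
    obtain ⟨⟨_, a, ha, rfl⟩, -, hw⟩ := H23.Garr.reg (G := G) (W := W) ⊤ (Q := zpowers h)
      (fun _ _ _ _ => mem_top _) (by
        rintro _ ⟨i, rfl⟩ _ ⟨j, rfl⟩
        exact (Commute.zpow_zpow_self h i j).eq)
      fun x hx => cop H hx ((H.pg.to_le AP').map π)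
    obtain ⟨g, g1, e⟩ := H.f.st a (L2_le_CC (AP ha))
    obtain ⟨y, hy, d, hd, rfl⟩ := dec_gen H.b.gen g
    refine ⟨d, hd, fun d1 => g1 (mul_mem hy d1), fun b hb => (ker d b).1 ?_⟩
    refine congrArg Subtype.val (hw d hd (Subtype.ext ((sm _ _).trans ((ker d a).2 ?_)))
      ⟨_, b, hb, rfl⟩ (mem_top _))
    have := inv_mem (c (commutator_mem_commutator ha (inv_mem hy)))
    convert this using 1
    rw [commutatorElement_def]
    calc d * a * d⁻¹ * a⁻¹ = y⁻¹ * (y * d * a) * d⁻¹ * a⁻¹ := by group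
      _ = _ := by rw [e]; group
  · let π := QuotientGroup.mk' (CC P)
    let W := P.map π
    have hW : W.Normal := Normal.map inferInstance π (QuotientGroup.mk'_surjective _)
    let f : W → W := fun w => ⟨π d * w * (π d)⁻¹ * (w : G ⧸ CC P)⁻¹,
      mul_mem (hW.conj_mem _ w.2 _) (inv_mem w.2)⟩
    have fi : Function.Injective f := by
      rintro ⟨_, y, hy, rfl⟩ ⟨_, z, hz, rfl⟩ e
      have e1 : π d * π y * (π d)⁻¹ * (π y)⁻¹ = π d * π z * (π d)⁻¹ * (π z)⁻¹ :=
        congrArg Subtype.val e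
      refine Subtype.ext (QuotientGroup.eq.2 (fc H d hd d1 _ (mul_mem (inv_mem hy) hz)
        ((QuotientGroup.eq_one_iff _).1 ?_)))
      change π _ = 1
      simp only [map_mul, map_inv]
      calc _ = π d * (π y)⁻¹ * (π d)⁻¹ * (π d * π z * (π d)⁻¹ * (π z)⁻¹) * π y := by group
        _ = 1 := by rw [← e1]; group
    obtain ⟨⟨_, y, hy, rfl⟩, e⟩ := Finite.injective_iff_surjective.1 fi ⟨_, x, hx, rfl⟩
    have e1 : π d * π y * (π d)⁻¹ * (π y)⁻¹ = π x := congrArg Subtype.val e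
    rw [← map_inv, ← map_inv, ← map_mul, ← map_mul, ← map_mul] at e1
    exact ⟨y, hy, _, QuotientGroup.eq.1 e1, by group⟩

end H70.NDG1
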