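import Cfsg.Agent.H70.QuadPair

/-! Quadratic elements of a linear group in endomorphism language: `QE`, `QD`, root spaces and root groups. -/

namespace H70

open Cfsg

variable {k : Type*} [Field k] {M : Type*} [AddCommGroup M] [Module k M]

/-- square zero endomorphisms whose family `1 + kα` lies in `G` (including `0`) -/
structure QE (G : Subgroup (LinearMap.GeneralLinearGroup k M)) (α : Module.End k M) : Prop where
  sq : α * α = 0
  mem : ∀ c : k, 1 + c • α ∈ gS G

/-- the rank of an endomorphism -/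
noncomputable def rk (α : Module.End k M) : ℕ := Module.finrank k (LinearMap.range α)

/-- non-zero members of `QE` of minimal rank -/
structure QD (G : Subgroup (LinearMap.GeneralLinearGroup k M)) (α : Module.End k M) : Prop where
  qe : QE G α
  ne : α ≠ 0
  min : ∀ β, QE G β → β ≠ 0 → rk α ≤ rk β

variable {G : Subgroup (LinearMap.GeneralLinearGroup k M)} {α β : Module.End k M}

theorem QE.qu_mem (h : QE G α) (c : k) : qu (c • α) (smul_sq_zero h.sq c) ∈ G := coe_mem_gS.1 (h.mem c)

theorem QE.qu_mem' (h : QE G α) : qu α h.sq ∈ G := coe_mem_gS.1 (by simpa using h.mem 1)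

theorem QE.fam_subset (h : QE G α) : fam α ⊆ G := by
  rintro g ⟨c, hc⟩
  exact coe_mem_gS.1 (hc ▸ h.mem c)

theorem QE.closure_le (h : QE G α) (h' : QE G β) : Subgroup.closure (fam α ∪ fam β) ≤ G :=
  (Subgroup.closure_le _).2 (Set.union_subset h.fam_subset h'.fam_subset)

theorem QE.smul (h : QE G α) (c : k) : QE G (c • α) :=
  ⟨smul_sq_zero h.sq c, fun d => by rw [smul_smul]; exact h.mem _⟩

theorem QE.neg (h : QE G α) : QE G (-α) := by simpa using h.smul (-1)

theorem QE.mono {H : Subgroup (LinearMap.GeneralLinearGroup k M)} (h : QE G α) (hle : G ≤ H) : QE H α :=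
  ⟨h.sq, fun c => gS_mono hle (h.mem c)⟩

theorem qe_zero : QE G 0 := ⟨by simp, fun c => by simp⟩

theorem mem_quadraticElements {σ : LinearMap.GeneralLinearGroup k M} :
    σ ∈ quadraticElements G ↔ QE G ((σ : Module.End k M) - 1) ∧ (σ : Module.End k M) - 1 ≠ 0 := by
  constructor
  · rintro ⟨-, ⟨h1, h2⟩, h3⟩
    exact ⟨⟨h1, fun c => ⟨_, h3 (qu_mem_fam h1 c), rfl⟩⟩, h2⟩
  · rintro ⟨h1, h2⟩
    exact ⟨coe_mem_gS.1 (by simpa using h1.mem 1), ⟨h1.sq, h2⟩, h1.fam_subset⟩

theorem mem_minimalQuadraticElements {σ : LinearMap.GeneralLinearGroup k M} :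
    σ ∈ minimalQuadraticElements G ↔ QD G ((σ : Module.End k M) - 1) := by
  constructor
  · rintro ⟨h1, h2⟩
    obtain ⟨h3, h4⟩ := mem_quadraticElements.1 h1
    refine ⟨h3, h4, fun β hβ hβ0 => ?_⟩
    have := h2 (qu β hβ.sq) (mem_quadraticElements.2 (by simpa using ⟨hβ, hβ0⟩))
    rw [commutatorRank, commutatorRank, qu_val, add_sub_cancel_left] at this
    exact this
  · intro h
    refine ⟨mem_quadraticElements.2 ⟨h.qe, h.ne⟩, fun τ hτ => ?_⟩
    obtain ⟨h3, h4⟩ := mem_quadraticElements.1 hτ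
    exact h.min _ h3 h4

theorem QD.rk_eq (h : QD G α) (h' : QD G β) : rk α = rk β :=
  le_antisymm (h.min β h'.qe h'.ne) (h'.min α h.qe h.ne)

theorem QD.of_rk_le (h : QD G α) (h' : QE G β) (h0 : β ≠ 0) (hr : rk β ≤ rk α) : QD G β :=
  ⟨h', h0, fun γ h1 h2 => hr.trans (h.min γ h1 h2)⟩

theorem range_le_ker_of_mul_eq_zero (h : α * β = 0) : LinearMap.range β ≤ LinearMap.ker α :=
  LinearMap.range_le_ker_iff.2 h

theorem mul_eq_zero_of_range_le_ker (h : LinearMap.range β ≤ LinearMap.ker α) : α * β = 0 :=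
  LinearMap.range_le_ker_iff.1 h

/-- the root space of `α` -/
def rootSp (G : Subgroup (LinearMap.GeneralLinearGroup k M)) (α : Module.End k M) :
    Submodule k (Module.End k M) where
  carrier := {β | (∀ c : k, 1 + c • β ∈ gS G) ∧ LinearMap.ker α ≤ LinearMap.ker β ∧
    LinearMap.range α ≤ LinearMap.ker β ∧ LinearMap.range β ≤ LinearMap.range α}
  zero_mem' := ⟨by simp, by simp, by simp, by simp⟩
  add_mem' := by
    rintro a b ⟨a1, a2, a3, a4⟩ ⟨b1, b2, b3, b4⟩
    refine ⟨fun c => ?_, fun m hm => ?_, fun m hm => ?_, ?_⟩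
    · have := mul_mem (a1 c) (b1 c)
      have e : a * b = 0 := mul_eq_zero_of_range_le_ker (b4.trans a3)
      convert this using 1
      simp [mul_add, add_mul, e]; abel
    · simpa [LinearMap.mem_ker.1 (a2 hm)] using b2 hm
    · simpa [LinearMap.mem_ker.1 (a3 hm)] using b3 hm
    · rintro _ ⟨m, rfl⟩
      exact Submodule.add_mem _ (a4 ⟨m, rfl⟩) (b4 ⟨m, rfl⟩)
  smul_mem' := by
    rintro c a ⟨a1, a2, a3, a4⟩
    refine ⟨fun d => by rw [smul_smul]; exact a1 _, fun m hm => ?_, fun m hm => ?_, ?_⟩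
    · simp [LinearMap.mem_ker.1 (a2 hm)]
    · simp [LinearMap.mem_ker.1 (a3 hm)]
    · rintro _ ⟨m, rfl⟩
      exact Submodule.smul_mem _ c (a4 ⟨m, rfl⟩)

theorem rootSp_mul {a b : Module.End k M} (ha : a ∈ rootSp G α) (hb : b ∈ rootSp G α) : a * b = 0 :=
  mul_eq_zero_of_range_le_ker (hb.2.2.2.trans ha.2.2.1)

theorem rootSp_qe {a : Module.End k M} (ha : a ∈ rootSp G α) : QE G a := ⟨rootSp_mul ha ha, ha.1⟩

theorem QE.mem_rootSp {a : Module.End k M} (ha : QE G a) (hα : α * α = 0) (h1 : LinearMap.ker α ≤ LinearMap.ker a)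
    (h2 : LinearMap.range a ≤ LinearMap.range α) : a ∈ rootSp G α :=
  ⟨ha.mem, h1, (range_le_ker_of_mul_eq_zero hα).trans h1, h2⟩

theorem QE.self_mem (h : QE G α) : α ∈ rootSp G α := h.mem_rootSp h.sq le_rfl le_rfl

theorem rootSp_congr (h1 : LinearMap.ker α = LinearMap.ker β) (h2 : LinearMap.range α = LinearMap.range β) :
    rootSp G α = rootSp G β := by
  ext a
  change (_ ∧ _ ∧ _ ∧ _) ↔ (_ ∧ _ ∧ _ ∧ _)
  rw [h1, h2]

/-- the root group of `α` -/
def rootGrp (G : Subgroup (LinearMap.GeneralLinearGroup k M)) (α : Module.End k M) :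
    Subgroup (LinearMap.GeneralLinearGroup k M) where
  carrier := {g | (g : Module.End k M) - 1 ∈ rootSp G α}
  one_mem' := by simp
  mul_mem' := by
    intro x y hx hy
    have e := rootSp_mul hx hy
    have := (rootSp G α).add_mem hx hy
    simp only [Set.mem_ofPred_eq, Units.val_mul]
    convert this using 1
    rw [← sub_eq_zero, ← e]; noncomm_ring
  inv_mem' := by
    intro x hx
    simp only [Set.mem_ofPred_eq]
    rw [inv_val_of_sq_zero (rootSp_mul hx hx) (by simp)]
    simpa using (rootSp G α).neg_mem hx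

theorem mem_rootGrp {g : LinearMap.GeneralLinearGroup k M} :
    g ∈ rootGrp G α ↔ (g : Module.End k M) - 1 ∈ rootSp G α := Iff.rfl

theorem qu_mem_rootGrp {a : Module.End k M} (ha : a ∈ rootSp G α) : qu a (rootSp_mul ha ha) ∈ rootGrp G α := by
  simpa [mem_rootGrp] using ha

theorem rootGrp_le : rootGrp G α ≤ G := fun g hg => coe_mem_gS.1 (by simpa using hg.1 1)

theorem rootGrp_congr (h : rootSp G α = rootSp G β) : rootGrp G α = rootGrp G β := by
  ext g; rw [mem_rootGrp, mem_rootGrp, h]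

theorem rootSp_eq_of_rootGrp_eq (h : rootGrp G α = rootGrp G β) : rootSp G α = rootSp G β := by
  ext a
  constructor
  · intro ha
    have := h ▸ qu_mem_rootGrp ha
    simpa [mem_rootGrp] using this
  · intro ha
    have := h.symm ▸ qu_mem_rootGrp ha
    simpa [mem_rootGrp] using this

theorem rootGrp_comm {x y : LinearMap.GeneralLinearGroup k M} (hx : x ∈ rootGrp G α) (hy : y ∈ rootGrp G α) :
    x * y = y * x := by
  have e1 := rootSp_mul hx hy
  have e2 := rootSp_mul hy hx
  apply Units.ext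
  rw [Units.val_mul, Units.val_mul, ← sub_eq_zero, ← sub_self (0 : Module.End k M)]
  conv_rhs => rw [← e1]; enter [2]; rw [e1, ← e2]
  noncomm_ring

theorem rootGrp_isMulCommutative : IsMulCommutative (rootGrp G α) :=
  isMulCommutative_iff.2 fun _ hx _ hy => rootGrp_comm hx hy

theorem rootGrp_nilpotent : Group.IsNilpotent (rootGrp G α) := by
  have := rootGrp_isMulCommutative (G := G) (α := α)
  open scoped IsMulCommutative in exact CommGroup.isNilpotent

theorem fam_subset_rootGrp {a : Module.End k M} (ha : a ∈ rootSp G α) : fam a ⊆ rootGrp G α := by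
  rintro g ⟨c, hc⟩
  simpa [mem_rootGrp, hc] using (rootSp G α).smul_mem c ha

theorem uJ_rootGrp : uJ (rootGrp G α) = rootSp G α := by
  refine le_antisymm (uJ_le.2 fun g hg => hg) fun a ha => ?_
  simpa using sub_one_mem_uJ (qu_mem_rootGrp ha)

theorem ne_one_iff_sub {g : LinearMap.GeneralLinearGroup k M} : g ≠ 1 ↔ (g : Module.End k M) - 1 ≠ 0 := by
  rw [Ne, Ne, sub_eq_zero, Units.ext_iff, Units.val_one]

section fd

variable [FiniteDimensional k M]

theorem ker_eq_of_le_of_rk (h : LinearMap.ker α ≤ LinearMap.ker β) (hr : rk α ≤ rk β) :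
    LinearMap.ker α = LinearMap.ker β := by
  refine Submodule.eq_of_le_of_finrank_le h ?_
  have h1 := LinearMap.finrank_range_add_finrank_ker α
  have h2 := LinearMap.finrank_range_add_finrank_ker β
  unfold rk at hr
  omega

theorem QD.of_mem (h : QD G α) {a : Module.End k M} (ha : a ∈ rootSp G α) (h0 : a ≠ 0) :
    QD G a ∧ LinearMap.ker a = LinearMap.ker α ∧ LinearMap.range a = LinearMap.range α := by
  have h1 := h.min a (rootSp_qe ha) h0
  exact ⟨h.of_rk_le (rootSp_qe ha) h0 (Submodule.finrank_mono ha.2.2.2), (ker_eq_of_le_of_rk ha.2.1 h1).symm,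
    Submodule.eq_of_le_of_finrank_le ha.2.2.2 h1⟩

theorem QD.rootSp_eq (h : QD G α) {a : Module.End k M} (ha : a ∈ rootSp G α) (h0 : a ≠ 0) :
    rootSp G a = rootSp G α := rootSp_congr (h.of_mem ha h0).2.1 (h.of_mem ha h0).2.2

theorem QD.rootGrp_eq (h : QD G α) {a : Module.End k M} (ha : a ∈ rootSp G α) (h0 : a ≠ 0) :
    rootGrp G a = rootGrp G α := rootGrp_congr (h.rootSp_eq ha h0)

theorem QD.smul (h : QD G α) {c : k} (hc : c ≠ 0) : QD G (c • α) :=
  (h.of_mem ((rootSp G α).smul_mem c h.qe.self_mem) (smul_ne_zero hc h.ne)).1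

theorem QD.neg (h : QD G α) : QD G (-α) := by simpa using h.smul (neg_ne_zero.2 one_ne_zero)

theorem mem_sameActionClass {σ τ : LinearMap.GeneralLinearGroup k M} (hσ : σ ∈ minimalQuadraticElements G) :
    τ ∈ sameActionClass G σ ↔ τ ∈ rootGrp G ((σ : Module.End k M) - 1) ∧ τ ≠ 1 := by
  have h := mem_minimalQuadraticElements.1 hσ
  constructor
  · rintro ⟨h1, h2, h3⟩
    have h' := mem_minimalQuadraticElements.1 h1
    exact ⟨h'.qe.mem_rootSp h.qe.sq h2.ge h3.le, ne_one_iff_sub.2 h'.ne⟩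
  · rintro ⟨h1, h2⟩
    obtain ⟨h3, h4, h5⟩ := h.of_mem h1 (ne_one_iff_sub.1 h2)
    exact ⟨mem_minimalQuadraticElements.2 h3, h4, h5⟩

theorem sameActionSubgroup_eq {σ : LinearMap.GeneralLinearGroup k M} (hσ : σ ∈ minimalQuadraticElements G) :
    sameActionSubgroup G σ = rootGrp G ((σ : Module.End k M) - 1) := by
  refine le_antisymm ((Subgroup.closure_le _).2 fun τ hτ => ((mem_sameActionClass hσ).1 hτ).1) fun τ hτ => ?_
  by_cases h1 : τ = 1
  · rw [h1]; exact Subgroup.one_mem _
  · exact Subgroup.subset_closure ((mem_sameActionClass hσ).2 ⟨hτ, h1⟩)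

theorem mem_quadraticRootSubgroups {A : Subgroup (LinearMap.GeneralLinearGroup k M)} :
    A ∈ quadraticRootSubgroups G ↔ ∃ α, QD G α ∧ A = rootGrp G α := by
  constructor
  · rintro ⟨σ, hσ, rfl⟩
    exact ⟨_, mem_minimalQuadraticElements.1 hσ, sameActionSubgroup_eq hσ⟩
  · rintro ⟨α, hα, rfl⟩
    have h : qu α hα.qe.sq ∈ minimalQuadraticElements G := mem_minimalQuadraticElements.2 (by simpa using hα)
    exact ⟨_, h, by rw [sameActionSubgroup_eq h]; simp⟩

end fd

/-- conjugation of endomorphisms by a unit -/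
def cj (g : LinearMap.GeneralLinearGroup k M) : Module.End k M ≃ₐ[k] Module.End k M where
  toFun x := g * x * (g⁻¹ : LinearMap.GeneralLinearGroup k M)
  invFun x := (g⁻¹ : LinearMap.GeneralLinearGroup k M) * x * g
  left_inv x := by simp [← mul_assoc]
  right_inv x := by simp [← mul_assoc]
  map_mul' x y := by simp [← mul_assoc]
  map_add' x y := by simp [mul_add, add_mul]
  commutes' c := by simp [Algebra.algebraMap_eq_smul_one]

theorem cj_apply (g : LinearMap.GeneralLinearGroup k M) (x : Module.End k M) :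
    cj g x = g * x * (g⁻¹ : LinearMap.GeneralLinearGroup k M) := rfl

theorem cj_cj (g h : LinearMap.GeneralLinearGroup k M) (x : Module.End k M) : cj g (cj h x) = cj (g * h) x := by
  simp [cj_apply, mul_assoc]

@[simp] theorem cj_one (x : Module.End k M) : cj (1 : LinearMap.GeneralLinearGroup k M) x = x := by
  simp [cj_apply]

@[simp] theorem cj_inv_cj (g : LinearMap.GeneralLinearGroup k M) (x : Module.End k M) : cj g⁻¹ (cj g x) = x := by
  rw [cj_cj]; simp

@[simp] theorem cj_cj_inv (g : LinearMap.GeneralLinearGroup k M) (x : Module.End k M) : cj g (cj g⁻¹ x) = x := by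
  rw [cj_cj]; simp

theorem cj_coe (g h : LinearMap.GeneralLinearGroup k M) :
    cj g (h : Module.End k M) = (g * h * g⁻¹ : LinearMap.GeneralLinearGroup k M) := rfl

theorem cj_qu {a : Module.End k M} (ha : a * a = 0) (x : Module.End k M) :
    cj (qu a ha) x = (1 + a) * x * (1 - a) := rfl

theorem cj_eq_self_iff {g : LinearMap.GeneralLinearGroup k M} {x : Module.End k M} :
    cj g x = x ↔ g * x = x * g := by
  rw [cj_apply, Units.mul_inv_eq_iff_eq_mul]

theorem cj_mem_gS {g : LinearMap.GeneralLinearGroup k M} (hg : g ∈ G) {x : Module.End k M} (hx : x ∈ gS G) :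
    cj g x ∈ gS G :=
  mul_mem (mul_mem (coe_mem_gS.2 hg) hx) (coe_mem_gS.2 (G.inv_mem hg))

theorem QE.cj {g : LinearMap.GeneralLinearGroup k M} (h : QE G α) (hg : g ∈ G) : QE G (cj g α) :=
  ⟨by rw [← map_mul, h.sq, map_zero], fun c => by simpa using cj_mem_gS hg (h.mem c)⟩

theorem unit_apply_inv (g : LinearMap.GeneralLinearGroup k M) (m : M) :
    (g : Module.End k M) (((g⁻¹ : LinearMap.GeneralLinearGroup k M) : Module.End k M) m) = m := by
  rw [← Module.End.mul_apply, Units.mul_inv]; rfl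

theorem unit_inv_apply (g : LinearMap.GeneralLinearGroup k M) (m : M) :
    ((g⁻¹ : LinearMap.GeneralLinearGroup k M) : Module.End k M) ((g : Module.End k M) m) = m := by
  rw [← Module.End.mul_apply, Units.inv_mul]; rfl

theorem unit_injective (g : LinearMap.GeneralLinearGroup k M) : Function.Injective (g : Module.End k M) :=
  Function.LeftInverse.injective (unit_inv_apply g)

theorem range_cj (g : LinearMap.GeneralLinearGroup k M) (x : Module.End k M) :
    LinearMap.range (cj g x) = (LinearMap.range x).map (g : Module.End k M) := by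
  ext m
  constructor
  · rintro ⟨m, rfl⟩
    exact ⟨_, ⟨_, rfl⟩, rfl⟩
  · rintro ⟨_, ⟨m, rfl⟩, rfl⟩
    exact ⟨(g : Module.End k M) m, by simp only [cj_apply, Module.End.mul_apply, unit_inv_apply]⟩

theorem ker_cj (g : LinearMap.GeneralLinearGroup k M) (x : Module.End k M) :
    LinearMap.ker (cj g x) = (LinearMap.ker x).map (g : Module.End k M) := by
  ext m
  constructor
  · intro h
    refine ⟨((g⁻¹ : LinearMap.GeneralLinearGroup k M) : Module.End k M) m, ?_, unit_apply_inv g m⟩
    exact unit_injective g (h.trans (map_zero _).symm)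
  · rintro ⟨m, hm, rfl⟩
    rw [LinearMap.mem_ker]
    simp only [cj_apply, Module.End.mul_apply, unit_inv_apply, LinearMap.mem_ker.1 hm, map_zero]

theorem rk_cj (g : LinearMap.GeneralLinearGroup k M) (x : Module.End k M) : rk (cj g x) = rk x := by
  rw [rk, rk, range_cj]
  exact (Submodule.equivMapOfInjective _ (unit_injective g) _).finrank_eq.symm

theorem QD.cj {g : LinearMap.GeneralLinearGroup k M} (h : QD G α) (hg : g ∈ G) : QD G (cj g α) :=
  h.of_rk_le (h.qe.cj hg) (by simpa using h.ne) (rk_cj g α).le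

theorem cj_mem_rootSp {g : LinearMap.GeneralLinearGroup k M} (hg : g ∈ G) {a : Module.End k M}
    (ha : a ∈ rootSp G α) : cj g a ∈ rootSp G (cj g α) := by
  refine ⟨((rootSp_qe ha).cj hg).mem, ?_, ?_, ?_⟩
  · rw [ker_cj, ker_cj]; exact Submodule.map_mono ha.2.1
  · rw [range_cj, ker_cj]; exact Submodule.map_mono ha.2.2.1
  · rw [range_cj, range_cj]; exact Submodule.map_mono ha.2.2.2

theorem mem_rootSp_cj {g : LinearMap.GeneralLinearGroup k M} (hg : g ∈ G) {a : Module.End k M} :
    a ∈ rootSp G (cj g α) ↔ cj g⁻¹ a ∈ rootSp G α :=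
  ⟨fun h => by simpa using cj_mem_rootSp (G.inv_mem hg) h, fun h => by simpa using cj_mem_rootSp hg h⟩

theorem conjBy_rootGrp {g : LinearMap.GeneralLinearGroup k M} (hg : g ∈ G) :
    conjBy (rootGrp G α) g = rootGrp G (cj g α) := by
  ext x
  rw [mem_conjBy, mem_rootGrp, mem_rootGrp, mem_rootSp_cj hg, map_sub, map_one, cj_coe, inv_inv]

theorem finrank_rootSp_cj {g : LinearMap.GeneralLinearGroup k M} (hg : g ∈ G) :
    Module.finrank k (rootSp G (cj g α)) = Module.finrank k (rootSp G α) := by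
  have : rootSp G (cj g α) = (rootSp G α).map (cj g).toLinearEquiv.toLinearMap := by
    ext a
    rw [mem_rootSp_cj hg]
    exact ⟨fun h => ⟨_, h, by simp⟩, by rintro ⟨b, hb, rfl⟩; simpa using hb⟩
  rw [this, LinearEquiv.finrank_map_eq]

theorem finrank_rootSp_of_conj {g : LinearMap.GeneralLinearGroup k M} (hg : g ∈ G)
    (h : conjBy (rootGrp G α) g = rootGrp G β) :
    Module.finrank k (rootSp G β) = Module.finrank k (rootSp G α) := by
  rw [conjBy_rootGrp hg] at h
  rw [← rootSp_eq_of_rootGrp_eq h, finrank_rootSp_cj hg]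

end H70
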