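import Cfsg.Agent.H70.Quad1

/-! Pairs of minimal quadratic elements: opposite pairs and pairs of class at most two. -/

namespace H70

open Cfsg LinearMap Module

variable {k : Type*} [Field k] {M : Type*} [AddCommGroup M] [Module k M]

/-- opposite pairs -/
def Opp (α β : Module.End k M) : Prop := Disjoint (range α) (ker β) ∧ Disjoint (range β) (ker α)

variable {G : Subgroup (LinearMap.GeneralLinearGroup k M)} {α β ε δ : Module.End k M}

theorem Opp.symm (h : Opp α β) : Opp β α := ⟨h.2, h.1⟩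

theorem Opp.not_nilpotent (h : Opp α β) (hα : α * α = 0) (h0 : α ≠ 0) : ¬ IsNilpotent (α * β + β * α) := by
  rintro ⟨n, hn⟩
  have key : ∀ j : ℕ, ∀ m, ((α * β + β * α) ^ j) (α m) = 0 → α m = 0 := by
    intro j
    induction j with
    | zero => simp
    | succ j ih =>
      intro m hm
      have e : (α * β + β * α) (α m) = α (β (α m)) := LinearMap.congr_fun (gam_left (β := β) hα) m
      rw [pow_succ, Module.End.mul_apply, e] at hm
      have h1 := Submodule.disjoint_def.1 h.2 _ ⟨_, rfl⟩ (ih _ hm)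
      exact Submodule.disjoint_def.1 h.1 _ ⟨_, rfl⟩ h1
  exact h0 (LinearMap.ext fun m => key n m (by rw [hn]; rfl))

theorem Opp.cj (h : Opp α β) (g : LinearMap.GeneralLinearGroup k M) : Opp (cj g α) (cj g β) := by
  rw [Opp, range_cj, range_cj, ker_cj, ker_cj]
  exact ⟨Submodule.disjoint_map (unit_injective g) h.1, Submodule.disjoint_map (unit_injective g) h.2⟩

theorem Opp.not_comm (h : Opp α β) (hα : α * α = 0) (h0 : α ≠ 0) : α * β ≠ β * α := by
  intro e
  refine h.not_nilpotent hα h0 ⟨2, ?_⟩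
  have : α * β * (α * β) = 0 := by
    rw [mul_assoc α, ← mul_assoc β, ← e, ← mul_assoc α, ← mul_assoc α, hα]; simp
  rw [← e, pow_two]
  simp only [mul_add, add_mul, this, add_zero]

theorem Fit.nilpotent_of_eq_zero (F : Fit α β 0 δ) : IsNilpotent (α * β + β * α) := by
  obtain ⟨n, hn⟩ := F.nil
  exact ⟨n, by rw [← hn, zero_mul]⟩

theorem Fit.eps_mul_ne (F : Fit α β ε δ) (h : ε ≠ 0) : ε * α ≠ 0 := by
  intro e
  apply h
  have : ε * (α * β + β * α) = 0 := by
    rw [mul_add, ← mul_assoc, e, ← mul_assoc, ← F.cb F.ε_mem, mul_assoc, e]; simp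
  rw [← F.idem]
  conv_lhs => enter [2]; rw [← F.δγ]
  rw [← mul_assoc, Fit.cc F.ε_mem F.δ_mem, mul_assoc, this, mul_zero]

section fd

variable [FiniteDimensional k M]

theorem Fit.mem_rootSp (F : Fit α β ε δ) (hk : BigField k) (hα : QE G α) (hβ : QE G β) {r : Module.End k M}
    (hr : r ∈ Algebra.adjoin k {α * β + β * α}) : r * ε * α ∈ rootSp G α := by
  have hre := mul_mem hr F.ε_mem
  refine QE.mem_rootSp ⟨?_, fun c => ?_⟩ hα.sq (ker_le_ker_comp _ _) ?_
  · rw [mul_assoc, ← mul_assoc α, F.ca hre, mul_assoc (r * ε) α, F.aa]; simp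
  · have := gS_mono (hα.closure_le hβ) (F.mem_gS_lcs hk 0 (Subalgebra.smul_mem _ hr c)).1
    simpa using this
  · rw [← F.ca hre]; exact range_comp_le_range _ _

theorem Fit.eps_mul (F : Fit α β ε δ) (hk : BigField k) (hα : QD G α) (hβ : QE G β) (h : ε ≠ 0) : ε * α = α := by
  have h1 := F.mem_rootSp hk hα.qe hβ (one_mem _)
  rw [one_mul] at h1
  have h2 := (hα.of_mem h1 (F.eps_mul_ne h)).2.2
  ext m
  obtain ⟨m', hm'⟩ : α m ∈ range (ε * α) := h2 ▸ ⟨m, rfl⟩
  rw [Module.End.mul_apply, ← hm', ← Module.End.mul_apply, ← mul_assoc, F.idem]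

theorem Fit.opp (F : Fit α β ε δ) (hk : BigField k) (hα : QD G α) (hβ : QD G β) (h : ε ≠ 0) : Opp α β := by
  have key : ∀ {α β : Module.End k M}, Fit α β ε δ → QD G α → QD G β → Disjoint (range α) (ker β) := by
    intro α β F hα hβ
    rw [Submodule.disjoint_def]
    rintro _ ⟨m, rfl⟩ hm
    have e : (α * β + β * α) (α m) = α (β (α m)) := LinearMap.congr_fun (gam_left (β := β) F.aa) m
    rw [← F.eps_mul hk hα hβ.qe h, ← F.δγ, Module.End.mul_apply, Module.End.mul_apply, e, mem_ker.1 hm]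
    simp
  exact ⟨key F hα hβ, key F.symm hβ hα⟩

theorem opp_iff (hk : BigField k) (hα : QD G α) (hβ : QD G β) : Opp α β ↔ ¬ IsNilpotent (α * β + β * α) := by
  refine ⟨fun h => h.not_nilpotent hα.qe.sq hα.ne, fun h => ?_⟩
  obtain ⟨ε, δ, F⟩ := exists_fit hα.qe.sq hβ.qe.sq
  exact F.opp hk hα hβ fun e => h (by subst e; exact F.nilpotent_of_eq_zero)

theorem opp_congr (hα : QD G α) (hβ : QD G β) {a b : Module.End k M} (ha : a ∈ rootSp G α) (ha0 : a ≠ 0)
    (hb : b ∈ rootSp G β) (hb0 : b ≠ 0) : Opp a b ↔ Opp α β := by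
  obtain ⟨-, h1, h2⟩ := hα.of_mem ha ha0
  obtain ⟨-, h3, h4⟩ := hβ.of_mem hb hb0
  rw [Opp, Opp, h1, h2, h3, h4]

/-- normalized partner in an opposite root space -/
theorem Opp.exists_partner (h : Opp α β) (hk : BigField k) (hα : QD G α) (hβ : QD G β) :
    ∃ b ∈ rootSp G β, b ≠ 0 ∧ α * b * α = α ∧ b * α * b = b := by
  obtain ⟨ε, δ, F⟩ := exists_fit hα.qe.sq hβ.qe.sq
  have hε : ε ≠ 0 := fun e => h.not_nilpotent hα.qe.sq hα.ne (by subst e; exact F.nilpotent_of_eq_zero)
  have h1 := F.eps_mul hk hα hβ.qe hε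
  have h2 := F.aba
  have h3 := F.bab
  rw [h1] at h2 h3
  have h4 := F.symm.mem_rootSp hk hβ.qe hα.qe F.symm.δ_mem
  rw [Fit.cc F.δ_mem F.ε_mem, F.εδ] at h4
  exact ⟨δ * β, h4, fun e => hα.ne (by rw [← h2, e]; simp), h2, h3⟩

omit [FiniteDimensional k M] in
theorem opp_of_normalized (h1 : α * β * α = α) (h2 : β * α * β = β) : Opp α β := by
  constructor <;> rw [Submodule.disjoint_def] <;> rintro _ ⟨m, rfl⟩ hm
  · rw [← h1, Module.End.mul_apply, Module.End.mul_apply, mem_ker.1 hm, map_zero]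
  · rw [← h2, Module.End.mul_apply, Module.End.mul_apply, mem_ker.1 hm, map_zero]

theorem rk_mul_add (α β : Module.End k M) : rk (α * β) + finrank k ↥(range β ⊓ ker α) = rk β := by
  have h := finrank_range_add_finrank_ker (α.domRestrict (range β))
  rw [range_domRestrict, ker_domRestrict, ← range_comp] at h
  rw [rk, rk, ← h]
  congr 1
  rw [← Submodule.finrank_map_subtype_eq (range β), Submodule.map_comap_subtype]

/-- structure of a non commuting pair of class two -/
structure CTwo (G : Subgroup (LinearMap.GeneralLinearGroup k M)) (α β : Module.End k M) : Prop where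
  qd : QD G (α * β - β * α)
  r1 : range (α * β) = range α ⊓ ker β
  r2 : range (β * α) = range β ⊓ ker α
  disj : Disjoint (range (α * β)) (range (β * α))
  range_eq : range (α * β - β * α) = range (α * β) ⊔ range (β * α)
  ker_eq : ker (α * β - β * α) = (range α ⊔ ker β) ⊓ (range β ⊔ ker α)

omit [FiniteDimensional k M] in
theorem comm_val (hα : α * α = 0) (hβ : β * β = 0) (h1 : α * β * α = 0) (h2 : β * α * β = 0) :
    (1 + α) * (1 + β) * (1 - α) * (1 - β) = 1 + (α * β - β * α) := by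
  rw [mul_assoc α] at h1
  rw [mul_assoc β] at h2
  simp only [mul_add, add_mul, mul_sub, sub_mul, one_mul, mul_one, mul_assoc, hα, hβ, h1, h2, mul_zero, zero_mul]
  abel

omit [FiniteDimensional k M] in
theorem qe_comm (hα : QE G α) (hβ : QE G β) (h1 : α * β * α = 0) (h2 : β * α * β = 0) :
    QE G (α * β - β * α) := by
  constructor
  · have e2 : ∀ x, β * (β * x) = 0 := fun x => by rw [← mul_assoc, hβ.sq, zero_mul]
    have e1 : ∀ x, α * (α * x) = 0 := fun x => by rw [← mul_assoc, hα.sq, zero_mul]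
    have e3 : ∀ x, α * (β * (α * x)) = 0 := fun x => by rw [← mul_assoc, ← mul_assoc, h1, zero_mul]
    have e4 : ∀ x, β * (α * (β * x)) = 0 := fun x => by rw [← mul_assoc, ← mul_assoc, h2, zero_mul]
    simp only [mul_sub, sub_mul, mul_assoc, e1, e2, e3, e4, mul_zero, sub_zero]
  · intro c
    have := mul_mem (mul_mem (mul_mem (hα.mem 1) (hβ.mem c)) (hα.mem (-1))) (hβ.mem (-c))
    rw [one_smul, neg_smul, one_smul, neg_smul, ← sub_eq_add_neg, ← sub_eq_add_neg,
      comm_val hα.sq (smul_sq_zero hβ.sq c) (by simp [h1]) (by simp [h2])] at this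
    simpa [smul_sub] using this

theorem ctwo_of (hα : QD G α) (hβ : QD G β) (h1 : α * β * α = 0) (h2 : β * α * β = 0)
    (hne : α * β - β * α ≠ 0) : CTwo G α β := by
  have hq := qe_comm hα.qe hβ.qe h1 h2
  have hmin := hα.min _ hq hne
  have hrk := hα.rk_eq hβ
  have a1 : range (α * β) ≤ range α ⊓ ker β :=
    le_inf (range_comp_le_range _ _) (range_le_ker_of_mul_eq_zero (by rw [← mul_assoc, h2]))
  have a2 : range (β * α) ≤ range β ⊓ ker α :=
    le_inf (range_comp_le_range _ _) (range_le_ker_of_mul_eq_zero (by rw [← mul_assoc, h1]))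
  have a3 : range (α * β - β * α) ≤ range (α * β) ⊔ range (β * α) := by
    rintro _ ⟨m, rfl⟩
    exact Submodule.sub_mem _ (Submodule.mem_sup_left ⟨m, rfl⟩) (Submodule.mem_sup_right ⟨m, rfl⟩)
  have b1 := rk_mul_add α β
  have b2 := rk_mul_add β α
  have c1 := Submodule.finrank_mono a1
  have c2 := Submodule.finrank_mono a2
  have c3 := Submodule.finrank_mono a3
  have c4 := Submodule.finrank_sup_add_finrank_inf_eq (range (α * β)) (range (β * α))
  unfold rk at hmin hrk b1 b2
  have r1 : range (α * β) = range α ⊓ ker β := Submodule.eq_of_le_of_finrank_le a1 (by omega)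
  have r2 : range (β * α) = range β ⊓ ker α := Submodule.eq_of_le_of_finrank_le a2 (by omega)
  have disj : Disjoint (range (α * β)) (range (β * α)) :=
    disjoint_iff.2 (Submodule.finrank_eq_zero.1 (by omega))
  have kk : ∀ {α β : Module.End k M}, β * α * β = 0 → α * β * α = 0 → range (β * α) = range β ⊓ ker α →
      ker (α * β) = range α ⊔ ker β := by
    intro α β h2 h1 r2
    refine le_antisymm (fun m hm => ?_) (sup_le (range_le_ker_of_mul_eq_zero h1) (ker_le_ker_comp _ _))
    obtain ⟨m', hm'⟩ : β m ∈ range (β * α) := r2 ▸ ⟨⟨m, rfl⟩, hm⟩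
    rw [← add_sub_cancel (α m') m]
    refine Submodule.add_mem _ (Submodule.mem_sup_left ⟨m', rfl⟩) (Submodule.mem_sup_right ?_)
    rw [mem_ker, map_sub, ← hm']; simp
  refine ⟨hα.of_rk_le hq hne (by unfold rk; omega), r1, r2, disj,
    Submodule.eq_of_le_of_finrank_le a3 (by omega), ?_⟩
  rw [← kk h2 h1 r2, ← kk h1 h2 r1]
  refine le_antisymm (fun m hm => ?_) fun m hm => ?_
  · have e : (α * β) m = (β * α) m := sub_eq_zero.1 hm
    have z := Submodule.disjoint_def.1 disj _ ⟨m, rfl⟩ ⟨m, e.symm⟩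
    exact ⟨z, e.symm.trans z⟩
  · rw [mem_ker, LinearMap.sub_apply, mem_ker.1 hm.1, mem_ker.1 hm.2, sub_zero]

omit [FiniteDimensional k M] in
theorem gam_conj (hα : α * α = 0) (β : Module.End k M) (t : k) :
    α * ((1 + t • β) * α * (1 - t • β)) = t • (α * β * α) - (t * t) • (α * β * α * β) ∧
    ((1 + t • β) * α * (1 - t • β)) * α = -(t • (α * β * α)) - (t * t) • (β * α * β * α) := by
  have e1 : ∀ x, α * (α * x) = 0 := fun x => by rw [← mul_assoc, hα, zero_mul]
  constructor <;>
  · simp only [mul_add, add_mul, mul_sub, sub_mul, one_mul, mul_one, mul_assoc, e1, hα, mul_zero, smul_mul_assoc,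
      mul_smul_comm, smul_zero, smul_add, smul_smul]
    abel

omit [FiniteDimensional k M] in
theorem gam_sq (hα : α * α = 0) (hβ : β * β = 0) :
    (α * β + β * α) ^ 2 = α * β * α * β + β * α * β * α := by
  have e1 : ∀ x, α * (α * x) = 0 := fun x => by rw [← mul_assoc, hα, zero_mul]
  have e2 : ∀ x, β * (β * x) = 0 := fun x => by rw [← mul_assoc, hβ, zero_mul]
  simp only [pow_two, mul_add, add_mul, mul_assoc, e1, e2, mul_zero, add_zero, zero_add]

theorem nil_step (hk : BigField k) (hα : QD G α) (hβ : QD G β) (h1 : (α * β + β * α) ^ 2 * α = 0)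
    (hne : α * β * α ≠ 0) : Disjoint (range α) (ker β) := by
  have e1 : ∀ x, α * (α * x) = 0 := fun x => by rw [← mul_assoc, hα.qe.sq, zero_mul]
  have e5 : α * (β * (α * (β * α))) = 0 := by
    rw [gam_sq hα.qe.sq hβ.qe.sq] at h1
    simpa only [add_mul, mul_assoc, hα.qe.sq, mul_zero, add_zero] using h1
  have key : ∀ t : k, t * t = 1 → (2 * t) • (α * β * α) - (α * β * α * β - β * α * β * α) ≠ 0 →
      Disjoint (range α) (ker β) := by
    intro t ht hζ
    have ht0 : t ≠ 0 := by rintro rfl; simp at ht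
    obtain ⟨g1, g2⟩ := gam_conj hα.qe.sq β t
    have hα' : QD G ((1 + t • β) * α * (1 - t • β)) := hα.cj (hβ.qe.qu_mem t)
    generalize (1 + t • β) * α * (1 - t • β) = α' at g1 g2 hα'
    rw [ht, one_smul] at g1 g2
    have C := ctwo_of hα hα'
      (by rw [g1]; simp only [sub_mul, smul_mul_assoc, mul_assoc, hα.qe.sq, e5, mul_zero, smul_zero, sub_zero])
      (by
        have z : α' * α * β * α = 0 := by
          rw [g2]
          simp only [sub_mul, neg_mul, smul_mul_assoc, mul_assoc, e5, mul_zero, smul_zero, neg_zero, sub_zero]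
        rw [mul_assoc, g1, mul_sub, mul_smul_comm, ← mul_assoc, ← mul_assoc, ← mul_assoc, ← mul_assoc,
          ← mul_assoc, z]
        simp)
      (by rw [g1, g2]; convert hζ using 1; rw [mul_smul, two_smul]; abel)
    -- ranges
    have u1 : α * α' = α * β * α * (t • (1 - t • β)) := by
      rw [g1]; simp only [mul_sub, mul_smul_comm, smul_sub, mul_one, smul_smul, ht, one_smul]
    have u2 : α' * α = -(t • (1 + t • β)) * (α * β * α) := by
      rw [g2]; simp only [neg_mul, add_mul, smul_mul_assoc, smul_add, one_mul, smul_smul, ht, one_smul, mul_assoc]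
      abel
    have v1 : range (α * α') = range (α * β * α) := by
      rw [u1]
      refine range_comp_of_range_eq_top _ (range_eq_top.2 fun m => ⟨t • (1 + t • β) m, ?_⟩)
      have := unit_inv_apply (qu _ (smul_sq_zero hβ.qe.sq t)) m
      simp only [LinearMap.smul_apply, map_smul, smul_smul, ht, one_smul]
      exact this
    have v2 : rk (α' * α) ≤ rk (α * β * α) := by
      rw [u2, rk, rk, Module.End.mul_eq_comp, range_comp]; exact Submodule.finrank_map_le _ _
    have w1 := rk_mul_add (α * β) α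
    have w2 : range (α * β * α) ≤ range α ⊓ ker (α * β) :=
      le_inf (by rw [mul_assoc]; exact range_comp_le_range _ _)
        (range_le_ker_of_mul_eq_zero (by simpa only [mul_assoc] using e5))
    have w3 := Submodule.finrank_sup_add_finrank_inf_eq (range (α * α')) (range (α' * α))
    have w4 := hα.rk_eq C.qd
    rw [rk, rk, C.range_eq] at w4
    rw [v1] at w3 w4
    unfold rk at v2 w1
    have w5 : range (α * β * α) = range α ⊓ ker (α * β) := Submodule.eq_of_le_of_finrank_le w2 (by omega)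
    rw [Submodule.disjoint_def]
    intro u hu hu'
    have x1 : u ∈ range (α * β * α) := 
      w5 ▸ ⟨hu, mem_ker.2 (by rw [Module.End.mul_apply, mem_ker.1 hu', map_zero])⟩
    refine Submodule.disjoint_def.1 C.disj u (v1 ▸ x1) ?_
    obtain ⟨m, rfl⟩ := x1
    refine ⟨-(t • m), ?_⟩
    rw [u2, Module.End.mul_apply, map_neg, map_smul]
    simp [mem_ker.1 hu', smul_smul, ht, -Module.End.mul_apply]
  by_contra hcon
  have k1 := mt (key 1 (by simp)) hcon
  have k2 := mt (key (-1) (by simp)) hcon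
  rw [not_not, sub_eq_zero] at k1 k2
  rw [← k2, ← sub_eq_zero, ← sub_smul, smul_eq_zero] at k1
  rcases k1 with k1 | k1
  · exact hk.1 (mul_self_eq_zero.1 (by linear_combination k1))
  · exact hne k1

theorem nil_aux (hk : BigField k) (m : ℕ) : ∀ α β : Module.End k M, QD G α → QD G β →
    (α * β + β * α) ^ m * α = 0 → (α * β + β * α) ^ m * β = 0 → α * β * α = 0 ∧ β * α * β = 0 := by
  have base : ∀ α β : Module.End k M, QD G α → QD G β →
      (α * β + β * α) ^ 2 * α = 0 → (α * β + β * α) ^ 2 * β = 0 → α * β * α = 0 := by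
    intro α β hα hβ h1 h2
    by_contra hne
    have d1 := nil_step hk hα hβ h1 hne
    by_cases hb : β * α * β = 0
    · refine hne (LinearMap.ext fun m => Submodule.disjoint_def.1 d1 _ ⟨β (α m), rfl⟩ ?_)
      exact LinearMap.congr_fun hb (α m)
    · have d2 := nil_step hk hβ hα (by rwa [add_comm]) hb
      refine Opp.not_nilpotent ⟨d1, d2⟩ hα.qe.sq hα.ne ⟨3, ?_⟩
      rw [pow_succ, mul_add, ← mul_assoc, ← mul_assoc, h1, h2]; simp
  induction m using Nat.strong_induction_on with
  | _ m ih =>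
  have red : 3 ≤ m → ∀ α β : Module.End k M, QD G α → QD G β → (α * β + β * α) ^ m * α = 0 →
      (α * β + β * α) ^ 2 * α = 0 := by
    intro hm α β hα hβ h1
    obtain ⟨g1, g2⟩ := gam_conj hα.qe.sq β (1 : k)
    have hα' : QD G ((1 + (1 : k) • β) * α * (1 - (1 : k) • β)) := hα.cj (hβ.qe.qu_mem 1)
    have hγ : α * ((1 + (1 : k) • β) * α * (1 - (1 : k) • β)) + ((1 + (1 : k) • β) * α * (1 - (1 : k) • β)) * α =
        -(α * β + β * α) ^ 2 := by
      rw [g1, g2, gam_sq hα.qe.sq hβ.qe.sq]; simp; abel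
    have h3 : (-(α * β + β * α) ^ 2) ^ (m - 1) * α = 0 := by
      rw [neg_pow, ← pow_mul, show 2 * (m - 1) = (m - 2) + m by omega, pow_add, mul_assoc, mul_assoc, h1]; simp
    have hc : Commute β ((-(α * β + β * α) ^ 2) ^ (m - 1)) :=
      (((gam_comm_right hβ.qe.sq).pow_right 2).neg_right).pow_right _
    have := (ih (m - 1) (by omega) α _ hα hα' (by rw [hγ, h3]) (by
      rw [hγ, ← mul_assoc, ← mul_assoc, one_smul, ← ((Commute.one_left _).add_left hc).eq, mul_assoc (1 + β), h3]
      simp)).1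
    rw [← gam_left hα.qe.sq, hγ] at this
    simpa using this
  intro α β hα hβ h1 h2
  have h3 : (α * β + β * α) ^ 2 * α = 0 ∧ (α * β + β * α) ^ 2 * β = 0 := by
    by_cases hm : 3 ≤ m
    · exact ⟨red hm α β hα hβ h1, by rw [add_comm] at h2 ⊢; exact red hm β α hβ hα h2⟩
    · rw [show 2 = (2 - m) + m by omega, pow_add, mul_assoc, mul_assoc, h1, h2]; simp
  exact ⟨base α β hα hβ h3.1 h3.2, base β α hβ hα (by rw [add_comm]; exact h3.2) (by rw [add_comm]; exact h3.1)⟩

theorem nopp_two (hk : BigField k) (hα : QD G α) (hβ : QD G β) (h : ¬ Opp α β) :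
    α * β * α = 0 ∧ β * α * β = 0 := by
  rw [opp_iff hk hα hβ, not_not] at h
  obtain ⟨m, hm⟩ := h
  exact nil_aux hk m α β hα hβ (by rw [hm, zero_mul]) (by rw [hm, zero_mul])

theorem nopp_three (hk : BigField k) (hα : QD G α) (hβ : QD G β) (h : ¬ Opp α β) {a b a' : Module.End k M}
    (ha : a ∈ rootSp G α) (hb : b ∈ rootSp G β) (ha' : a' ∈ rootSp G α) : a * b * a' = 0 := by
  by_cases hb0 : b = 0
  · simp [hb0]
  have h1 := (nopp_two hk hα (hβ.of_mem hb hb0).1
    (by rwa [opp_congr hα hβ hα.qe.self_mem hα.ne hb hb0])).1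
  ext m
  obtain ⟨m', hm'⟩ := ha'.2.2.2 ⟨m, rfl⟩
  have : b (α m') ∈ ker α := LinearMap.congr_fun h1 m'
  rw [Module.End.mul_apply, Module.End.mul_apply, ← hm']
  exact ha.2.1 this

end fd

end H70
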