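import Cfsg.Agent.H70.Quad2
import Cfsg.Agent.H70.RankOne2

/-! Pairs of root groups of a quadratic pair. -/

namespace H70

open Cfsg LinearMap Module

variable {k : Type*} [Field k] {M : Type*} [AddCommGroup M] [Module k M]

variable {G : Subgroup (LinearMap.GeneralLinearGroup k M)} {α β : Module.End k M}

theorem eq_qu_of_mem {g : LinearMap.GeneralLinearGroup k M} (hg : g ∈ rootGrp G α) :
    ∃ a, ∃ ha : a ∈ rootSp G α, g = qu a (rootSp_mul ha ha) :=
  ⟨_, hg, Units.ext (by simp)⟩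

theorem qu_eq_one_iff {a : Module.End k M} {h : a * a = 0} : qu a h = 1 ↔ a = 0 := by
  rw [Units.ext_iff]; simp

theorem qu_comm_iff {a b : Module.End k M} {ha : a * a = 0} {hb : b * b = 0} :
    qu a ha * qu b hb = qu b hb * qu a ha ↔ a * b = b * a := by
  rw [Units.ext_iff]
  simp only [Units.val_mul, qu_val, mul_add, add_mul, one_mul, mul_one]
  constructor
  · intro h
    rw [← sub_eq_zero] at h ⊢
    rw [← h]; abel
  · intro h; rw [h]; abel

theorem rootGrp_commutator_eq_bot_iff :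
    ⁅rootGrp G α, rootGrp G β⁆ = ⊥ ↔ ∀ a ∈ rootSp G α, ∀ b ∈ rootSp G β, a * b = b * a := by
  rw [commutator_eq_bot_iff]
  constructor
  · intro h a ha b hb
    exact qu_comm_iff.1 (h _ (qu_mem_rootGrp ha) _ (qu_mem_rootGrp hb))
  · intro h x hx y hy
    obtain ⟨a, ha, rfl⟩ := eq_qu_of_mem hx
    obtain ⟨b, hb, rfl⟩ := eq_qu_of_mem hy
    exact qu_comm_iff.2 (h a ha b hb)

theorem QD.rootGrp_ne_bot (hα : QD G α) : rootGrp G α ≠ ⊥ := fun e => hα.ne (by
  have := qu_mem_rootGrp hα.qe.self_mem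
  rw [e, Subgroup.mem_bot] at this
  exact qu_eq_one_iff.1 this)

theorem sl2_identity {a b : Module.End k M} (h1 : a * b * a = a) (h2 : b * a * b = b) :
    (1 - b) * a * (1 + b) = (1 - a) * (-b) * (1 + a) := by
  rw [mul_assoc a] at h1
  rw [mul_assoc b] at h2
  simp only [mul_add, sub_mul, one_mul, mul_one, mul_assoc, h1, h2, mul_neg, neg_mul]
  abel

variable [FiniteDimensional k M]

theorem Opp.group_partner (h : Opp α β) (hk : BigField k) (hα : QD G α) (hβ : QD G β)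
    {x : LinearMap.GeneralLinearGroup k M} (hx : x ∈ rootGrp G α) (hx1 : x ≠ 1) :
    ∃ y ∈ rootGrp G β, y ≠ 1 ∧ conjBy (rootGrp G α) y⁻¹ = conjBy (rootGrp G β) x⁻¹ ∧
      y⁻¹ * x * y = x⁻¹ * y⁻¹ * x := by
  obtain ⟨a, ha, rfl⟩ := eq_qu_of_mem hx
  have ha0 : a ≠ 0 := fun e => hx1 (qu_eq_one_iff.2 e)
  obtain ⟨b, hb, hb0, h1, h2⟩ := ((opp_congr hα hβ ha ha0 hβ.qe.self_mem hβ.ne).2 h).exists_partner hk
    (hα.of_mem ha ha0).1 hβ
  have e := sl2_identity h1 h2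
  refine ⟨_, qu_mem_rootGrp hb, fun e => hb0 (qu_eq_one_iff.1 e), ?_, Units.ext ?_⟩
  · rw [← hα.rootGrp_eq ha ha0, ← hβ.rootGrp_eq ((rootSp G β).neg_mem hb) (neg_ne_zero.2 hb0),
      conjBy_rootGrp (G.inv_mem (rootSp_qe hb).qu_mem'), conjBy_rootGrp (G.inv_mem (rootSp_qe ha).qu_mem')]
    exact congrArg _ e
  · simp only [Units.val_mul, qu_val, qu_inv_val]
    have e1 : (1 - b) * (1 + b) = 1 := (qu b (rootSp_mul hb hb)).inv_mul
    have e2 : (1 - a) * (1 + a) = 1 := (qu a (rootSp_mul ha ha)).inv_mul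
    rw [mul_add (1 - b), add_mul, mul_one, e1, e, sub_eq_add_neg 1 b, mul_add (1 - a), add_mul, mul_one, e2]

theorem Opp.r1 (h : Opp α β) (hk : BigField k) (hα : QD G α) (hβ : QD G β) :
    IsRankOnePair (rootGrp G α) (rootGrp G β) := by
  refine ⟨fun e => ?_, rootGrp_nilpotent, rootGrp_nilpotent, fun x hx hx1 => ?_, fun x hx hx1 => ?_⟩
  · have h1 : β ∈ rootSp G α := rootSp_eq_of_rootGrp_eq e ▸ hβ.qe.self_mem
    exact hα.ne (range_eq_bot.1 (h.1.eq_bot_of_le h1.2.2.1))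
  · obtain ⟨y, h1, h2, h3, -⟩ := h.group_partner hk hα hβ hx hx1
    exact ⟨y, h1, h2, h3⟩
  · obtain ⟨y, h1, h2, h3, -⟩ := h.symm.group_partner hk hβ hα hx hx1
    exact ⟨y, h1, h2, h3⟩

theorem Opp.special (h : Opp α β) (hk : BigField k) (hα : QD G α) (hβ : QD G β) :
    IsSpecialRankOnePair (rootGrp G α) (rootGrp G β) := by
  refine ⟨h.r1 hk hα hβ, fun x hx hx1 y hy _ e => ?_⟩
  obtain ⟨y', h1, -, h3, h4⟩ := h.group_partner hk hα hβ hx hx1
  have := r1_conj_inj (r1_symm (h.r1 hk hα hβ)) (Subgroup.inv_mem _ hy) (Subgroup.inv_mem _ h1) (e.trans h3.symm)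
  rwa [inv_inj.1 this]

theorem nopp_uJ_pow (hk : BigField k) (hα : QD G α) (hβ : QD G β) (h : ¬ Opp α β) :
    uJ (rootGrp G α ⊔ rootGrp G β) ^ 3 = ⊥ := by
  rw [Subgroup.sup_eq_closure]
  refine uJ_closure_pow (S := rootSp G α ⊔ rootSp G β) ?_ ?_
  · have h1 : ∀ γ : Module.End k M, rootSp G γ * rootSp G γ = ⊥ := fun γ =>
      eq_bot_iff.2 (Submodule.mul_le.2 fun a ha b hb => rootSp_mul ha hb)
    have h2 : ∀ {α β : Module.End k M}, QD G α → QD G β → ¬ Opp α β →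
        rootSp G α * (rootSp G β * rootSp G α) = ⊥ := by
      intro α β hα hβ h
      rw [eq_bot_iff, Submodule.mul_le]
      intro a ha x hx
      refine Submodule.mul_induction_on hx (fun b hb a' ha' => ?_) fun x y hx hy => ?_
      · rw [← mul_assoc]; exact nopp_three hk hα hβ h ha hb ha'
      · rw [mul_add]; exact Submodule.add_mem _ hx hy
    have h3 : ∀ γ X, rootSp G γ * (rootSp G γ * X) = ⊥ := fun γ X => by
      rw [← mul_assoc, h1, Submodule.bot_mul]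
    simp only [pow_succ', pow_zero, mul_one, Submodule.mul_sup, Submodule.sup_mul, h1, h2 hα hβ h,
      h2 hβ hα (fun h' => h h'.symm), h3, sup_idem, bot_sup_eq, sup_bot_eq]
  · rintro g (hg | hg)
    · exact ⟨Submodule.mem_sup_left hg, Submodule.mem_sup_left ((rootGrp G α).inv_mem hg)⟩
    · exact ⟨Submodule.mem_sup_right hg, Submodule.mem_sup_right ((rootGrp G β).inv_mem hg)⟩

theorem nopp_uni (hk : BigField k) (hα : QD G α) (hβ : QD G β) (h : ¬ Opp α β) :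
    IsUnipotentOn (rootGrp G α ⊔ rootGrp G β) := isUnipotentOn_iff.2 ⟨3, nopp_uJ_pow hk hα hβ h⟩

theorem nopp_class_two (hk : BigField k) (hα : QD G α) (hβ : QD G β) (h : ¬ Opp α β) :
    ⁅⁅rootGrp G α ⊔ rootGrp G β, rootGrp G α ⊔ rootGrp G β⁆, rootGrp G α ⊔ rootGrp G β⁆ = ⊥ :=
  lcs_eq_bot_of_uJ_pow (n := 2) (nopp_uJ_pow hk hα hβ h)

theorem Opp.not_isNilpotent (h : Opp α β) (hk : BigField k) (hα : QD G α) (hβ : QD G β) :
    ¬ Group.IsNilpotent ↥(rootGrp G α ⊔ rootGrp G β) := r1_not_nilpotent (h.r1 hk hα hβ)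

theorem opp_iff_r1 (hk : BigField k) (hα : QD G α) (hβ : QD G β) :
    Opp α β ↔ IsRankOnePair (rootGrp G α) (rootGrp G β) :=
  ⟨fun h => h.r1 hk hα hβ, fun h => by_contra fun h' =>
    r1_not_nilpotent h (uni_isNilpotent (nopp_uni hk hα hβ h'))⟩

theorem opp_iff_not_uni (hk : BigField k) (hα : QD G α) (hβ : QD G β) :
    Opp α β ↔ ¬ IsUnipotentOn (rootGrp G α ⊔ rootGrp G β) :=
  ⟨fun h h' => h.not_isNilpotent hk hα hβ (uni_isNilpotent h'), fun h => by_contra fun h' =>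
    h (nopp_uni hk hα hβ h')⟩

theorem nopp_ctwo (hk : BigField k) (hα : QD G α) (hβ : QD G β) (h : ¬ Opp α β) {a b : Module.End k M}
    (ha : a ∈ rootSp G α) (hb : b ∈ rootSp G β) (hne : a * b - b * a ≠ 0) : CTwo G a b :=
  ctwo_of (hα.of_mem ha (by rintro rfl; simp at hne)).1 (hβ.of_mem hb (by rintro rfl; simp at hne)).1
    (nopp_three hk hα hβ h ha hb ha) (nopp_three hk hβ hα (fun h' => h h'.symm) hb ha hb) hne

/-- if one pair of non zero elements of two root spaces commutes, the root spaces commute. -/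
theorem comm_of_comm (hk : BigField k) (hα : QD G α) (hβ : QD G β) {a b : Module.End k M}
    (ha : a ∈ rootSp G α) (ha0 : a ≠ 0) (hb : b ∈ rootSp G β) (hb0 : b ≠ 0) (e : a * b = b * a) :
    ∀ a' ∈ rootSp G α, ∀ b' ∈ rootSp G β, a' * b' = b' * a' := by
  obtain ⟨a1, a2, a3⟩ := hα.of_mem ha ha0
  obtain ⟨b1, b2, b3⟩ := hβ.of_mem hb hb0
  have h : ¬ Opp α β := fun h => ((opp_congr hα hβ ha ha0 hb hb0).2 h).not_comm a1.qe.sq ha0 e
  intro a' ha' b' hb'
  by_contra hne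
  rw [← sub_eq_zero] at hne
  have C := nopp_ctwo hk hα hβ h ha' hb' hne
  obtain ⟨-, c2, c3⟩ := hα.of_mem ha' (by rintro rfl; simp at hne)
  obtain ⟨-, d2, d3⟩ := hβ.of_mem hb' (by rintro rfl; simp at hne)
  have r1 := C.r1
  have r2 := C.r2
  rw [c3, d2] at r1
  rw [d3, c2] at r2
  have s1 := rk_mul_add a b
  have s2 := rk_mul_add b a
  have t1 := rk_mul_add a' b'
  have t2 := rk_mul_add b' a'
  rw [b3, a2] at s1
  rw [a3, b2] at s2
  rw [d3, c2] at t1
  rw [c3, d2] at t2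
  unfold rk at s1 s2 t1 t2
  rw [b3] at s1
  rw [a3, ← e] at s2
  rw [d3, r1] at t1
  rw [c3, r2] at t2
  have u1 : range (a * b) = range α ⊓ ker β := by
    refine Submodule.eq_of_le_of_finrank_le (le_inf (a3 ▸ range_comp_le_range _ _) ?_) (by omega)
    rw [← b2]
    exact range_le_ker_of_mul_eq_zero (by rw [e, ← mul_assoc, b1.qe.sq, zero_mul])
  have u2 : range (a * b) = range β ⊓ ker α := by
    refine Submodule.eq_of_le_of_finrank_le (le_inf (by rw [e, ← b3]; exact range_comp_le_range _ _) ?_) (by omega)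
    rw [← a2]
    exact range_le_ker_of_mul_eq_zero (by rw [← mul_assoc, a1.qe.sq, zero_mul])
  have d := C.disj
  rw [r2, ← u2, u1, ← r1, disjoint_self, range_eq_bot] at d
  have d' : b' * a' = 0 := by rw [← range_eq_bot, r2, ← u2, u1, ← r1, range_eq_bot, d]
  exact hne (by rw [d, d', sub_zero])

theorem rootGrp_comm_of_comm (hk : BigField k) (hα : QD G α) (hβ : QD G β)
    {x y : LinearMap.GeneralLinearGroup k M} (hx : x ∈ rootGrp G α) (hx1 : x ≠ 1) (hy : y ∈ rootGrp G β)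
    (hy1 : y ≠ 1) (e : x * y = y * x) : ⁅rootGrp G α, rootGrp G β⁆ = ⊥ := by
  obtain ⟨a, ha, rfl⟩ := eq_qu_of_mem hx
  obtain ⟨b, hb, rfl⟩ := eq_qu_of_mem hy
  exact rootGrp_commutator_eq_bot_iff.2 (comm_of_comm hk hα hβ ha (fun e => hx1 (qu_eq_one_iff.2 e)) hb
    (fun e => hy1 (qu_eq_one_iff.2 e)) (qu_comm_iff.1 e))

theorem rootGrp_comm_of_normalizes (hk : BigField k) (hα : QD G α) (hβ : QD G β)
    {x : LinearMap.GeneralLinearGroup k M} (hx : x ∈ rootGrp G α) (hx1 : x ≠ 1)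
    (hn : x ∈ Subgroup.normalizer (rootGrp G β : Set (LinearMap.GeneralLinearGroup k M))) :
    ⁅rootGrp G α, rootGrp G β⁆ = ⊥ := by
  have h : ¬ Opp α β := fun h => hx1 (r1_eq_one_of_norm (h.r1 hk hα hβ) hx (conjBy_eq_self_iff.2 hn))
  obtain ⟨a, ha, rfl⟩ := eq_qu_of_mem hx
  have ha0 : a ≠ 0 := fun e => hx1 (qu_eq_one_iff.2 e)
  have hb := hβ.qe.self_mem
  have h1 := nopp_three hk hα hβ h ha hb ha
  have h2 := nopp_three hk hβ hα (fun h' => h h'.symm) hb ha hb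
  rw [rootGrp_commutator_eq_bot_iff]
  by_cases hz : a * β - β * a = 0
  · exact comm_of_comm hk hα hβ ha ha0 hb hβ.ne (sub_eq_zero.1 hz)
  have hm := (rootGrp G β).mul_mem ((Subgroup.mem_normalizer_iff.1 hn _).1 (qu_mem_rootGrp hb))
    ((rootGrp G β).inv_mem (qu_mem_rootGrp hb))
  rw [mem_rootGrp] at hm
  simp only [Units.val_mul, qu_val, qu_inv_val] at hm
  rw [comm_val (rootSp_mul ha ha) hβ.qe.sq h1 h2, add_sub_cancel_left] at hm
  refine comm_of_comm hk hα hβ ha ha0 hm hz ?_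
  rw [mul_sub, sub_mul, ← mul_assoc, ← mul_assoc, h1, mul_assoc β, rootSp_mul ha ha]; simp

end H70
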