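import Cfsg.Agent.H70.Quad3

/-! Fixed and commutator spaces; the `SL₂(k)` inside an opposite pair of root groups. -/

open Matrix MatrixGroups

namespace H70

open Cfsg Module
open LinearMap hiding fixedSubmodule

variable {k : Type*} [Field k] {M : Type*} [AddCommGroup M] [Module k M]

variable {G A B : Subgroup (LinearMap.GeneralLinearGroup k M)} {α β : Module.End k M}

theorem mem_fixedSubmodule {m : M} : m ∈ fixedSubmodule A ↔ ∀ g ∈ A, (g : Module.End k M) m = m := by
  simp [Cfsg.fixedSubmodule, sub_eq_zero]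

theorem commutatorSubmodule_le {W : Submodule k M} :
    commutatorSubmodule A ≤ W ↔ ∀ g ∈ A, ∀ m, (g : Module.End k M) m - m ∈ W := by
  simp only [commutatorSubmodule, iSup_le_iff]
  exact forall₂_congr fun g _ => ⟨fun h m => h ⟨m, rfl⟩, by rintro h _ ⟨m, rfl⟩; exact h m⟩

theorem fixedSubmodule_anti (h : A ≤ B) : fixedSubmodule B ≤ fixedSubmodule A := fun _ hm =>
  mem_fixedSubmodule.2 fun g hg => mem_fixedSubmodule.1 hm g (h hg)

theorem commutatorSubmodule_mono (h : A ≤ B) : commutatorSubmodule A ≤ commutatorSubmodule B :=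
  commutatorSubmodule_le.2 fun g hg => commutatorSubmodule_le.1 le_rfl g (h hg)

/-- the pointwise stabilizer of a vector -/
def fixGrp (m : M) : Subgroup (LinearMap.GeneralLinearGroup k M) where
  carrier := {g | (g : Module.End k M) m = m}
  one_mem' := rfl
  mul_mem' := by
    intro x y hx hy
    simp only [Set.mem_ofPred_eq, Units.val_mul, Module.End.mul_apply] at hx hy ⊢
    rw [hy, hx]
  inv_mem' := by
    intro x hx
    simp only [Set.mem_ofPred_eq] at hx ⊢
    conv_lhs => rw [← hx]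
    exact unit_inv_apply x m

/-- the elements acting trivially on `M / W` -/
def cofixGrp (W : Submodule k M) : Subgroup (LinearMap.GeneralLinearGroup k M) where
  carrier := {g | ∀ m, (g : Module.End k M) m - m ∈ W}
  one_mem' := by simp
  mul_mem' := by
    intro x y hx hy m
    simpa using W.add_mem (hx ((y : Module.End k M) m)) (hy m)
  inv_mem' := by
    intro x hx m
    have := W.neg_mem (hx (((x⁻¹ : LinearMap.GeneralLinearGroup k M) : Module.End k M) m))
    rwa [unit_apply_inv, neg_sub] at this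

theorem fixedSubmodule_sup : fixedSubmodule (A ⊔ B) = fixedSubmodule A ⊓ fixedSubmodule B := by
  refine le_antisymm (le_inf (fixedSubmodule_anti le_sup_left) (fixedSubmodule_anti le_sup_right)) ?_
  rintro m ⟨h1, h2⟩
  have : A ⊔ B ≤ fixGrp m := sup_le (mem_fixedSubmodule.1 h1) (mem_fixedSubmodule.1 h2)
  exact mem_fixedSubmodule.2 this

theorem commutatorSubmodule_sup : commutatorSubmodule (A ⊔ B) = commutatorSubmodule A ⊔ commutatorSubmodule B := by
  refine le_antisymm ?_ (sup_le (commutatorSubmodule_mono le_sup_left) (commutatorSubmodule_mono le_sup_right))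
  have : A ⊔ B ≤ cofixGrp (commutatorSubmodule A ⊔ commutatorSubmodule B) :=
    sup_le (commutatorSubmodule_le.1 le_sup_left) (commutatorSubmodule_le.1 le_sup_right)
  exact commutatorSubmodule_le.2 this

theorem QE.fixedSubmodule_eq (h : QE G α) : fixedSubmodule (rootGrp G α) = ker α := by
  refine le_antisymm (fun m hm => ?_) fun m hm => mem_fixedSubmodule.2 fun g hg => ?_
  · simpa using mem_fixedSubmodule.1 hm _ (qu_mem_rootGrp h.self_mem)
  · simpa [sub_eq_zero] using hg.2.1 hm

theorem QE.commutatorSubmodule_eq (h : QE G α) : commutatorSubmodule (rootGrp G α) = range α := by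
  refine le_antisymm (commutatorSubmodule_le.2 fun g hg m => hg.2.2.2 ⟨m, rfl⟩) ?_
  rintro _ ⟨m, rfl⟩
  simpa using commutatorSubmodule_le.1 le_rfl _ (qu_mem_rootGrp h.self_mem) m

section normalized

variable {a b : Module.End k M} (aa : a * a = 0) (bb : b * b = 0) (aba : a * b * a = a) (bab : b * a * b = b)

theorem muOf_hom_xu (c : k) : ((muOf (k := k) aa bb aba bab).hom (xu c) : Module.End k M) = 1 + c • a := by
  rw [MU.hom_xu, Algebra.smul_def]; rfl

theorem muOf_hom_xl (c : k) : ((muOf (k := k) aa bb aba bab).hom (xl c) : Module.End k M) = 1 + c • b := by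
  rw [MU.hom_xl, Algebra.smul_def]; rfl

theorem muOf_hom_injective (ha : a ≠ 0) : Function.Injective (muOf (k := k) aa bb aba bab).hom :=
  MU.hom_injective _ fun r hr => by
    have : r • a = 0 := by rw [Algebra.smul_def]; exact hr
    exact (smul_eq_zero.1 this).resolve_right ha

theorem muOf_upper_le (ha : a ∈ rootSp G α) :
    (upperUnipotentSL2 k).map (muOf (k := k) aa bb aba bab).hom ≤ rootGrp G α := by
  rintro _ ⟨g, hg, rfl⟩
  obtain ⟨c, rfl⟩ := (upperUnipotentSL2_eq k).1 hg
  exact fam_subset_rootGrp ha ⟨c, muOf_hom_xu aa bb aba bab c⟩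

theorem muOf_lower_le (hb : b ∈ rootSp G β) :
    (lowerUnipotentSL2 k).map (muOf (k := k) aa bb aba bab).hom ≤ rootGrp G β := by
  rintro _ ⟨g, hg, rfl⟩
  obtain ⟨c, rfl⟩ := (lowerUnipotentSL2_eq k).1 hg
  exact fam_subset_rootGrp hb ⟨c, muOf_hom_xl aa bb aba bab c⟩

theorem muOf_mem_sup (ha : a ∈ rootSp G α) (hb : b ∈ rootSp G β) (g : SL(2, k)) :
    (muOf (k := k) aa bb aba bab).hom g ∈ rootGrp G α ⊔ rootGrp G β := by
  have : (⊤ : Subgroup SL(2, k)).map (muOf (k := k) aa bb aba bab).hom ≤ rootGrp G α ⊔ rootGrp G β := by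
    rw [← upper_sup_lower, Subgroup.map_sup]
    exact sup_le_sup (muOf_upper_le aa bb aba bab ha) (muOf_lower_le aa bb aba bab hb)
  exact this ⟨g, trivial, rfl⟩

include aa bb aba bab

theorem norm_idem : (a * b + b * a) * (a * b + b * a) = a * b + b * a := by
  rw [mul_add, ← mul_assoc, ← mul_assoc, gam_left aa, gam_right bb, aba, bab]

theorem norm_range : range (a * b + b * a) = range a ⊔ range b := by
  refine le_antisymm ?_ (sup_le ?_ ?_)
  · rintro _ ⟨m, rfl⟩
    exact Submodule.add_mem _ (Submodule.mem_sup_left ⟨_, rfl⟩) (Submodule.mem_sup_right ⟨_, rfl⟩)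
  · rintro _ ⟨m, rfl⟩
    exact ⟨a m, by rw [← Module.End.mul_apply, gam_left aa, aba]⟩
  · rintro _ ⟨m, rfl⟩
    exact ⟨b m, by rw [← Module.End.mul_apply, gam_right bb, bab]⟩

theorem norm_ker : ker (a * b + b * a) = ker a ⊓ ker b := by
  refine le_antisymm (le_inf (fun m hm => ?_) fun m hm => ?_) fun m hm => ?_
  · rw [mem_ker, ← aba, ← gam_left aa, ← (gam_comm_left aa).eq, Module.End.mul_apply, mem_ker.1 hm, map_zero]
  · rw [mem_ker, ← bab, ← gam_right bb, ← (gam_comm_right bb).eq, Module.End.mul_apply, mem_ker.1 hm, map_zero]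
  · simp [mem_ker.1 hm.1, mem_ker.1 hm.2]

end normalized

theorem idem_mul_of_range_le {e x : Module.End k M} (he : e * e = e) (h : range x ≤ range e) : e * x = x := by
  ext m
  obtain ⟨m', hm'⟩ := h ⟨m, rfl⟩
  rw [Module.End.mul_apply, ← hm', ← Module.End.mul_apply, he]

theorem mul_idem_of_ker_le {e x : Module.End k M} (he : e * e = e) (h : ker e ≤ ker x) : x * e = x := by
  ext m
  have : m - e m ∈ ker e := by rw [mem_ker, map_sub, ← Module.End.mul_apply, he, sub_self]
  have := mem_ker.1 (h this)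
  rw [map_sub, sub_eq_zero] at this
  exact this.symm

variable [FiniteDimensional k M]

theorem Opp.psl2 (h : Opp α β) (hk : BigField k) (hα : QD G α) (hβ : QD G β) :
    ∃ A₀ B₀ : Subgroup (LinearMap.GeneralLinearGroup k M), A₀ ≤ rootGrp G α ∧ B₀ ≤ rootGrp G β ∧
      IsPSL2PairOver k A₀ B₀ := by
  obtain ⟨b, hb, -, h1, h2⟩ := h.exists_partner hk hα hβ
  exact ⟨_, _, muOf_upper_le hα.qe.sq (rootSp_mul hb hb) h1 h2 hα.qe.self_mem,
    muOf_lower_le hα.qe.sq (rootSp_mul hb hb) h1 h2 hb,
    isPSL2PairOver_of_hom _ (muOf_hom_injective _ _ _ _ hα.ne)⟩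

theorem Opp.involution (h : Opp α β) (hk : BigField k) (hα : QD G α) (hβ : QD G β) :
    (∃! i : LinearMap.GeneralLinearGroup k M, i ∈ rootGrp G α ⊔ rootGrp G β ∧ i ≠ 1 ∧ i * i = 1 ∧
        (∀ x ∈ rootGrp G α ⊔ rootGrp G β, i * x = x * i) ∧
        (∀ m ∈ commutatorSubmodule (rootGrp G α ⊔ rootGrp G β), (i : M →ₗ[k] M) m = -m) ∧
        (∀ m ∈ fixedSubmodule (rootGrp G α ⊔ rootGrp G β), (i : M →ₗ[k] M) m = m)) ∧
      IsCompl (fixedSubmodule (rootGrp G α ⊔ rootGrp G β)) (commutatorSubmodule (rootGrp G α ⊔ rootGrp G β)) := by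
  obtain ⟨b, hb, hb0, h1, h2⟩ := h.exists_partner hk hα hβ
  obtain ⟨-, b1, b2⟩ := hβ.of_mem hb hb0
  have bb := rootSp_mul hb hb
  have he := norm_idem hα.qe.sq bb h1 h2
  have hr := norm_range hα.qe.sq bb h1 h2
  have hke := norm_ker hα.qe.sq bb h1 h2
  have hi := (muOf (k := k) hα.qe.sq bb h1 h2).hom_neg_one
  have hiX := muOf_mem_sup hα.qe.sq bb h1 h2 hα.qe.self_mem hb (-1)
  have hii : (muOf (k := k) hα.qe.sq bb h1 h2).hom (-1) * (muOf (k := k) hα.qe.sq bb h1 h2).hom (-1) = 1 := by
    rw [← map_mul]; simp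
  have hi1 : (muOf (k := k) hα.qe.sq bb h1 h2).hom (-1) ≠ 1 := fun e =>
    H61.sl_neg_one_ne_one hk.1 (muOf_hom_injective _ _ _ _ hα.ne (e.trans (map_one _).symm))
  change _ = 1 - 2 * (α * b + b * α) at hi
  generalize (muOf (k := k) hα.qe.sq bb h1 h2).hom (-1) = i at hi hiX hii hi1
  rw [b1] at hke
  rw [b2] at hr
  generalize α * b + b * α = e at he hr hke hi
  rw [fixedSubmodule_sup, commutatorSubmodule_sup, hα.qe.fixedSubmodule_eq, hβ.qe.fixedSubmodule_eq,
    hα.qe.commutatorSubmodule_eq, hβ.qe.commutatorSubmodule_eq, ← hr, ← hke]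
  have hC : ∀ γ : Module.End k M, range γ ≤ range e → ker e ≤ ker γ → rootGrp G γ ≤ centE e := by
    intro γ r1 r2 g hg
    have e1 := idem_mul_of_range_le he (hg.2.2.2.trans r1)
    have e2 := mul_idem_of_ker_le he (r2.trans hg.2.1)
    change (g : Module.End k M) * e = e * g
    rw [mul_sub, mul_one] at e1
    rw [sub_mul, one_mul, ← e1] at e2
    exact sub_left_inj.1 e2
  have hX : rootGrp G α ⊔ rootGrp G β ≤ centE e :=
    sup_le (hC α (hr ▸ le_sup_left) (hke ▸ inf_le_left)) (hC β (hr ▸ le_sup_right) (hke ▸ inf_le_right))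
  refine ⟨⟨i, ⟨hiX, hi1, hii, fun x hx => Units.ext ?_, ?_, fun m hm => ?_⟩, ?_⟩,
    (LinearMap.IsIdempotentElem.isCompl he).symm⟩
  · have : (x : Module.End k M) * e = e * x := hX hx
    rw [Units.val_mul, Units.val_mul, hi, two_mul, mul_sub, sub_mul, mul_add, add_mul, this]; simp
  · rintro _ ⟨m, rfl⟩
    rw [hi, two_mul, ← Module.End.mul_apply, sub_mul, add_mul, he]; simp
  · rw [hi, two_mul]; simp [mem_ker.1 hm]
  · rintro j ⟨-, -, -, -, j1, j2⟩
    refine Units.ext (LinearMap.ext fun m => ?_)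
    have : m - e m ∈ ker e := by rw [mem_ker, map_sub, ← Module.End.mul_apply, he, sub_self]
    have e1 := j2 _ this
    rw [map_sub, j1 _ ⟨m, rfl⟩] at e1
    rw [hi, two_mul]
    simp only [LinearMap.sub_apply, LinearMap.add_apply, Module.End.one_apply]
    rw [← sub_sub, ← e1]; abel

omit [FiniteDimensional k M] in
theorem BigField.three_lt_card (hk : BigField k) : 3 < ENat.card k := by
  obtain ⟨h2, a, ha, ha2⟩ := hk
  have h1 : a ≠ 1 := by rintro rfl; simp at ha2
  have h3 : a ≠ -1 := by rintro rfl; simp at ha2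
  have h4 : (1 : k) ≠ -1 := fun e => h2 (by linear_combination e)
  have : Function.Injective (![0, 1, -1, a] : Fin 4 → k) := by
    intro i j
    fin_cases i <;> fin_cases j <;> simp [ha, ha.symm, h1, h1.symm, h3, h3.symm, h4, h4.symm]
  have := ENat.card_le_card_of_injective this
  simp only [ENat.card_eq_coe_fintype_card, Fintype.card_fin] at this
  exact lt_of_lt_of_le (by norm_num) this

end H70
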