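import Cfsg.Agent.H70.Quad4

/-! Global theory of quadratic pairs: no isolated root groups, the commutator case. -/

namespace H70

open Cfsg Module
open LinearMap hiding fixedSubmodule

variable {k : Type*} [Field k] {M : Type*} [AddCommGroup M] [Module k M]

/-- no non trivial unipotent normal subgroup -/
def NU (G : Subgroup (LinearMap.GeneralLinearGroup k M)) : Prop :=
  ∀ U ≤ G, (∀ g ∈ G, conjBy U g = U) → IsUnipotentOn U → U = ⊥

/-- non trivial normal subgroups have no fixed vectors -/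
def FF (G : Subgroup (LinearMap.GeneralLinearGroup k M)) : Prop :=
  ∀ N ≤ G, (∀ g ∈ G, conjBy N g = N) → N ≠ ⊥ → fixedSubmodule N = ⊥

variable {G : Subgroup (LinearMap.GeneralLinearGroup k M)} {α β : Module.End k M}

theorem ff_of_irreducible (h : IsIrreducibleFor G) : FF G := by
  intro N _ hN hne
  refine (h.2 _ fun g hg w hw => mem_fixedSubmodule.2 fun n hn => ?_).resolve_right fun e => hne ?_
  · have h1 : g⁻¹ * n * g ∈ N := mem_conjBy.1 ((hN g hg).symm ▸ hn)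
    have h2 := congrArg (g : Module.End k M) (mem_fixedSubmodule.1 hw _ h1)
    rwa [Units.val_mul, Units.val_mul, Module.End.mul_apply, Module.End.mul_apply, unit_apply_inv] at h2
  · rw [Subgroup.eq_bot_iff_forall]
    exact fun n hn => Units.ext (LinearMap.ext fun m => mem_fixedSubmodule.1 (e ▸ Submodule.mem_top) n hn)

theorem FF.nu (h : FF G) : NU G := by
  intro U hU hn hu
  by_contra hne
  have h1 := h U hU hn hne
  by_cases ht : (⊤ : Submodule k M) = ⊥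
  · refine hne ((Subgroup.eq_bot_iff_forall _).2 fun n _ => Units.ext (LinearMap.ext fun m => ?_))
    rw [(Submodule.eq_bot_iff _).1 ht m trivial, map_zero, map_zero]
  obtain ⟨w, -, hw0, hw⟩ := uni_exists_fixed hu ht fun _ _ _ _ => trivial
  exact hw0 ((Submodule.eq_bot_iff _).1 h1 w (mem_fixedSubmodule.2 hw))

/-- the endomorphisms compatible with the flag `range ζ ≤ ker ζ` -/
def coreSp (ζ : Module.End k M) : Submodule k (Module.End k M) where
  carrier := {x | (∀ m, x m ∈ ker ζ) ∧ (∀ m ∈ ker ζ, x m ∈ range ζ) ∧ ∀ m ∈ range ζ, x m = 0}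
  zero_mem' := ⟨by simp, fun _ _ => Submodule.zero_mem _, by simp⟩
  add_mem' := by
    rintro a b ⟨a1, a2, a3⟩ ⟨b1, b2, b3⟩
    exact ⟨fun m => Submodule.add_mem _ (a1 m) (b1 m), fun m hm => Submodule.add_mem _ (a2 m hm) (b2 m hm),
      fun m hm => by simp [a3 m hm, b3 m hm]⟩
  smul_mem' := by
    rintro c a ⟨a1, a2, a3⟩
    exact ⟨fun m => Submodule.smul_mem _ c (a1 m), fun m hm => Submodule.smul_mem _ c (a2 m hm),
      fun m hm => by simp [a3 m hm]⟩

theorem coreSp_mul (ζ : Module.End k M) : coreSp ζ * coreSp ζ ≤ coreSp ζ := by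
  rw [Submodule.mul_le]
  rintro a ⟨a1, a2, a3⟩ b ⟨b1, b2, b3⟩
  exact ⟨fun m => a1 _, fun m _ => a2 _ (b1 m), fun m hm => by simp [b3 m hm]⟩

theorem coreSp_neg (ζ : Module.End k M) : coreSp (-ζ) = coreSp ζ := by
  ext x
  change (_ ∧ _ ∧ _) ↔ (_ ∧ _ ∧ _)
  rw [LinearMap.ker_neg, LinearMap.range_neg]

theorem uni_conjBy {U : Subgroup (LinearMap.GeneralLinearGroup k M)} (hu : IsUnipotentOn U)
    (g : LinearMap.GeneralLinearGroup k M) : IsUnipotentOn (conjBy U g) := by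
  obtain ⟨n, hn⟩ := isUnipotentOn_iff.1 hu
  refine isUnipotentOn_iff.2 ⟨n, eq_bot_iff.2 ?_⟩
  have : uJ (conjBy U g) ≤ (uJ U).map (cj g).toAlgHom.toLinearMap := by
    rw [uJ_le]
    rintro _ ⟨x, hx, rfl⟩
    exact ⟨_, sub_one_mem_uJ hx, by simp [cj_coe]⟩
  refine (pow_le_pow_left' this n).trans ?_
  rw [← Submodule.map_pow, hn, Submodule.map_bot]

variable [FiniteDimensional k M]

theorem NU.of_normal (h : NU G) {L : Subgroup (LinearMap.GeneralLinearGroup k M)} (hL : L ≤ G)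
    (hn : ∀ g ∈ G, conjBy L g = L) : NU L := by
  intro U hU hUn hu
  let W : Set (Subgroup (LinearMap.GeneralLinearGroup k M)) := {V | ∃ g ∈ G, V = conjBy U g}
  have hW : ∀ A ∈ W, ∀ g ∈ G, conjBy A g ∈ W := by
    rintro _ ⟨g, hg, rfl⟩ g' hg'
    exact ⟨g' * g, G.mul_mem hg' hg, conjBy_conjBy _ _ _⟩
  have hWL : ∀ A ∈ W, A ≤ L := by
    rintro _ ⟨g, hg, rfl⟩
    exact (conjBy_mono hU g).trans (hn g hg).le
  have hWu : ∀ A ∈ W, IsUnipotentOn A := by
    rintro _ ⟨g, hg, rfl⟩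
    exact uni_conjBy hu g
  have hWn : ∀ A ∈ W, L ≤ Subgroup.normalizer (A : Set _) := by
    rintro _ ⟨g, hg, rfl⟩ x hx
    rw [← conjBy_eq_self_iff, conjBy_conjBy]
    have : g⁻¹ * x * g ∈ L := mem_conjBy.1 ((hn g hg).symm ▸ hx)
    conv_rhs => rw [← hUn _ this, conjBy_conjBy]
    congr 1; group
  have := h (⨆ A ∈ W, A) (iSup₂_le fun A hA => (hWL A hA).trans hL)
    (fun g hg => conjBy_biSup (fun A hA => hW A hA g hg) fun A hA => hW A hA _ (G.inv_mem hg))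
    (uni_family (fun A hA => (hWL A hA).trans hL) (fun A hA B hB =>
      uni_sup_of_normalizes (hWu A hA) (hWu B hB) ((hWL B hB).trans (hWn A hA))) hW)
  exact eq_bot_iff.2 (this ▸ le_iSup₂_of_le (f := fun A (_ : A ∈ W) => A) U ⟨1, G.one_mem, (conjBy_one U).symm⟩ le_rfl)

theorem QD.exists_opp (hk : BigField k) (hG : NU G) (hα : QD G α) : ∃ β, QD G β ∧ Opp α β := by
  by_contra hcon
  push Not at hcon
  let W : Set (Subgroup (LinearMap.GeneralLinearGroup k M)) := {V | ∃ g ∈ G, V = rootGrp G (H70.cj g α)}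
  have hW : ∀ A ∈ W, ∀ g ∈ G, conjBy A g ∈ W := by
    rintro _ ⟨g, hg, rfl⟩ g' hg'
    exact ⟨g' * g, G.mul_mem hg' hg, by rw [conjBy_rootGrp hg', cj_cj]⟩
  have hWG : ∀ A ∈ W, A ≤ G := by rintro _ ⟨g, hg, rfl⟩; exact rootGrp_le
  have := hG (⨆ A ∈ W, A) (iSup₂_le hWG)
    (fun g hg => conjBy_biSup (fun A hA => hW A hA g hg) fun A hA => hW A hA _ (G.inv_mem hg))
    (uni_family hWG (by
      rintro _ ⟨g, hg, rfl⟩ _ ⟨g', hg', rfl⟩
      refine nopp_uni hk (hα.cj hg) (hα.cj hg') fun h => hcon _ ((hα.cj hg').cj (G.inv_mem hg)) ?_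
      simpa using h.cj g⁻¹) hW)
  exact hα.rootGrp_ne_bot (eq_bot_iff.2 (this ▸ le_iSup₂_of_le (f := fun A (_ : A ∈ W) => A) _
    ⟨1, G.one_mem, by simp⟩ le_rfl))

theorem Opp.exists_conj (h : Opp α β) (hk : BigField k) (hα : QD G α) (hβ : QD G β) :
    ∃ g ∈ rootGrp G α ⊔ rootGrp G β, conjBy (rootGrp G α) g = rootGrp G β := by
  obtain ⟨g, hg, e⟩ := r1_right_mem_unip (h.r1 hk hα hβ)
  exact ⟨g, hg, e.symm⟩

/-- the subgroup generated by all root groups -/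
def rootTop (G : Subgroup (LinearMap.GeneralLinearGroup k M)) : Subgroup (LinearMap.GeneralLinearGroup k M) :=
  ⨆ B ∈ quadraticRootSubgroups G, B

theorem QD.le_rootTop (hα : QD G α) : rootGrp G α ≤ rootTop G :=
  le_iSup₂_of_le (f := fun B (_ : B ∈ quadraticRootSubgroups G) => B) _
    (mem_quadraticRootSubgroups.2 ⟨α, hα, rfl⟩) le_rfl

theorem rootTop_le : rootTop G ≤ G := iSup₂_le fun B hB => by
  obtain ⟨α, -, rfl⟩ := mem_quadraticRootSubgroups.1 hB
  exact rootGrp_le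

omit [FiniteDimensional k M] in
theorem CTwo.mem_coreSp (C : CTwo G α β) (hα : α * α = 0) (h1 : α * β * α = 0) {a : Module.End k M}
    (ha : a ∈ rootSp G α) (h2 : β * a * β = 0) : a ∈ coreSp (α * β - β * α) := by
  refine ⟨fun m => ?_, fun m hm => ?_, ?_⟩
  · obtain ⟨m', hm'⟩ := ha.2.2.2 ⟨m, rfl⟩
    rw [← hm', mem_ker, ← Module.End.mul_apply, sub_mul, h1, mul_assoc, hα]; simp
  · rw [C.ker_eq] at hm
    obtain ⟨_, ⟨y, rfl⟩, z, hz, rfl⟩ := Submodule.mem_sup.1 hm.2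
    rw [map_add, mem_ker.1 (ha.2.1 hz), add_zero, C.range_eq, C.r1]
    exact Submodule.mem_sup_left ⟨ha.2.2.2 ⟨_, rfl⟩, LinearMap.congr_fun h2 y⟩
  · rintro _ ⟨m, rfl⟩
    refine ha.2.1 ?_
    rw [mem_ker, ← Module.End.mul_apply, mul_sub, ← mul_assoc, ← mul_assoc, hα, h1]; simp

theorem CTwo.exists_conj (C : CTwo G α β) (hk : BigField k) (hG : NU G) (hα : QD G α) (hβ : QD G β)
    (h1 : α * β * α = 0) (h2 : β * α * β = 0) :
    ∃ g ∈ rootTop G, conjBy (rootGrp G α) g = rootGrp G (α * β - β * α) := by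
  obtain ⟨η₀, hη₀, hO⟩ := C.qd.exists_opp hk hG
  obtain ⟨η, hη, hη0, e1, e2⟩ := hO.exists_partner hk C.qd hη₀
  replace hη := (hη₀.of_mem hη hη0).1
  by_cases h : Opp α η
  · obtain ⟨g, hg, e⟩ := h.exists_conj hk hα hη
    obtain ⟨g', hg', e'⟩ := (opp_of_normalized e2 e1).exists_conj hk hη C.qd
    exact ⟨g' * g, mul_mem (sup_le hη.le_rootTop C.qd.le_rootTop hg') (sup_le hα.le_rootTop hη.le_rootTop hg),
      by rw [← conjBy_conjBy, e, e']⟩
  obtain ⟨f1, f2⟩ := nopp_two hk hα hη h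
  have hc := C.mem_coreSp hα.qe.sq h1 hα.qe.self_mem h2
  have e3 : cj (qu (-β) hβ.neg.qe.sq) α = α + (α * β - β * α) := by
    rw [cj_qu]
    simp only [sub_neg_eq_add, add_mul, mul_add, one_mul, mul_one, neg_mul, h2]
    abel
  have hq := C.qd
  generalize α * β - β * α = ζ at *
  have z1 : α * ζ = 0 := LinearMap.ext fun m => hc.2.2 _ ⟨m, rfl⟩
  have z2 : ζ * α = 0 := LinearMap.ext fun m => hc.1 m
  have z3 : α * η * ζ + ζ * η * α = α := by
    ext m
    obtain ⟨y, hy⟩ := hc.2.1 (m - η (ζ m)) (by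
      rw [mem_ker, map_sub, ← Module.End.mul_apply, ← Module.End.mul_apply, e1, sub_self])
    have y1 : ζ (η (ζ y)) = ζ y := LinearMap.congr_fun e1 y
    have y2 : η (α (η (ζ m))) = 0 := LinearMap.congr_fun f2 (ζ m)
    rw [hy, map_sub, map_sub, y2, sub_zero] at y1
    simp [y1]
  have hφ := qe_comm hα.qe hη.qe f1 f2
  have e4 : cj (qu _ hφ.sq) ζ = α + ζ := by
    rw [cj_qu]
    have w2 : ∀ x, ζ * (α * x) = 0 := fun x => by rw [← mul_assoc, z2, zero_mul]
    have w3 : ∀ x, η * (ζ * (η * x)) = η * x := fun x => by rw [← mul_assoc, ← mul_assoc, e2]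
    rw [mul_assoc] at f1
    conv_rhs => rw [← z3]
    simp only [add_mul, mul_sub, sub_mul, one_mul, mul_one, mul_assoc, w2, w3, z1, f1, mul_zero, zero_mul]
    abel
  have m1 : qu _ hφ.sq ∈ rootTop G := by
    have x := hα.le_rootTop (qu_mem_rootGrp hα.qe.self_mem)
    have y := hη.le_rootTop (qu_mem_rootGrp hη.qe.self_mem)
    convert mul_mem (mul_mem (mul_mem x y) (inv_mem x)) (inv_mem y) using 1
    exact Units.ext (comm_val hα.qe.sq hη.qe.sq f1 f2).symm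
  have m2 : qu (-β) hβ.neg.qe.sq ∈ rootTop G := hβ.neg.le_rootTop (qu_mem_rootGrp hβ.neg.qe.self_mem)
  refine ⟨(qu _ hφ.sq)⁻¹ * qu (-β) hβ.neg.qe.sq, mul_mem (inv_mem m1) m2, ?_⟩
  rw [conjBy_rootGrp (rootTop_le (mul_mem (inv_mem m1) m2)), ← cj_cj, e3, ← e4, cj_inv_cj]

/-- The commutator case for two root groups. -/
theorem nopp_cc (hk : BigField k) (hG : NU G) (hα : QD G α) (hβ : QD G β) (h : ¬ Opp α β)
    (hne : ⁅rootGrp G α, rootGrp G β⁆ ≠ ⊥) :
    QD G (α * β - β * α) ∧ ⁅rootGrp G α, rootGrp G β⁆ = rootGrp G (α * β - β * α) ∧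
    (∀ x ∈ rootGrp G α, x ≠ 1 → Subgroup.closure ((fun y => x * y * x⁻¹ * y⁻¹) '' (rootGrp G β : Set _)) =
      ⁅rootGrp G α, rootGrp G β⁆) ∧
    (∀ y ∈ rootGrp G β, y ≠ 1 → Subgroup.closure ((fun x => x * y * x⁻¹ * y⁻¹) '' (rootGrp G α : Set _)) =
      ⁅rootGrp G α, rootGrp G β⁆) ∧
    ((rootGrp G α ⊔ rootGrp G β : Subgroup _) : Set (LinearMap.GeneralLinearGroup k M)) ⊆
      quadraticUnipotentCore G ⁅rootGrp G α, rootGrp G β⁆ ∧
    (∃ g ∈ rootTop G, conjBy (rootGrp G α) g = rootGrp G β) ∧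
    (∃ g ∈ rootTop G, conjBy (rootGrp G α) g = ⁅rootGrp G α, rootGrp G β⁆) := by
  have h' : ¬ Opp β α := fun h' => h h'.symm
  have hnc : ∀ a ∈ rootSp G α, a ≠ 0 → ∀ b ∈ rootSp G β, b ≠ 0 → a * b - b * a ≠ 0 := fun a ha ha0 b hb hb0 e =>
    hne (rootGrp_commutator_eq_bot_iff.2 (comm_of_comm hk hα hβ ha ha0 hb hb0 (sub_eq_zero.1 e)))
  have sa := hα.qe.self_mem
  have sb := hβ.qe.self_mem
  have t1 := fun a ha b hb => nopp_three hk hα hβ h (a := a) (b := b) ha hb ha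
  have t2 := fun a ha b hb => nopp_three hk hβ hα h' (a := b) (b := a) hb ha hb
  have C := nopp_ctwo hk hα hβ h sa sb (hnc _ sa hα.ne _ sb hβ.ne)
  have C' := nopp_ctwo hk hβ hα h' sb sa fun e => hnc _ sa hα.ne _ sb hβ.ne (by rw [← neg_sub, e, neg_zero])
  have hneg : rootGrp G (β * α - α * β) = rootGrp G (α * β - β * α) :=
    C.qd.rootGrp_eq (by rw [← neg_sub (α * β)]; exact Submodule.neg_mem _ C.qd.qe.self_mem) C'.qd.ne
  obtain ⟨g, hg, eg⟩ := C.exists_conj hk hG hα hβ (t1 _ sa _ sb) (t2 _ sa _ sb)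
  obtain ⟨g', hg', eg'⟩ := C'.exists_conj hk hG hβ hα (t2 _ sa _ sb) (t1 _ sa _ sb)
  rw [hneg] at eg'
  have d1 := finrank_rootSp_of_conj (rootTop_le hg) eg
  have d2 := finrank_rootSp_of_conj (rootTop_le hg') eg'
  have hmem : ∀ a ∈ rootSp G α, ∀ b ∈ rootSp G β, a * b - b * a ∈ rootSp G (α * β - β * α) := by
    intro a ha b hb
    by_cases e : a * b - b * a = 0
    · rw [e]; exact Submodule.zero_mem _
    have D := nopp_ctwo hk hα hβ h ha hb e
    obtain ⟨-, c2, c3⟩ := hα.of_mem ha (by rintro rfl; simp at e)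
    obtain ⟨-, d2, d3⟩ := hβ.of_mem hb (by rintro rfl; simp at e)
    refine D.qd.qe.mem_rootSp C.qd.qe.sq ?_ ?_
    · rw [D.ker_eq, C.ker_eq, c2, c3, d2, d3]
    · rw [D.range_eq, C.range_eq, D.r1, D.r2, C.r1, C.r2, c2, c3, d2, d3]
  have hval : ∀ a (ha : a ∈ rootSp G α) b (hb : b ∈ rootSp G β),
      qu a (rootSp_mul ha ha) * qu b (rootSp_mul hb hb) * (qu a (rootSp_mul ha ha))⁻¹ * (qu b (rootSp_mul hb hb))⁻¹ =
        qu _ (rootSp_mul (hmem a ha b hb) (hmem a ha b hb)) := fun a ha b hb =>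
    Units.ext (comm_val (rootSp_mul ha ha) (rootSp_mul hb hb) (t1 a ha b hb) (t2 a ha b hb))
  have hle : ⁅rootGrp G α, rootGrp G β⁆ ≤ rootGrp G (α * β - β * α) := by
    rw [Subgroup.commutator_le]
    intro x hx y hy
    obtain ⟨a, ha, rfl⟩ := eq_qu_of_mem hx
    obtain ⟨b, hb, rfl⟩ := eq_qu_of_mem hy
    rw [commutatorElement_def, hval a ha b hb]
    exact qu_mem_rootGrp (hmem a ha b hb)
  have s1 : ∀ x ∈ rootGrp G α, x ≠ 1 → rootGrp G (α * β - β * α) ≤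
      Subgroup.closure ((fun y => x * y * x⁻¹ * y⁻¹) '' (rootGrp G β : Set _)) := by
    intro x hx hx1 z hz
    obtain ⟨a, ha, rfl⟩ := eq_qu_of_mem hx
    obtain ⟨c, hc, rfl⟩ := eq_qu_of_mem hz
    have ha0 : a ≠ 0 := fun e => hx1 (qu_eq_one_iff.2 e)
    let f : rootSp G β →ₗ[k] rootSp G (α * β - β * α) :=
      (LinearMap.mulLeft k a - LinearMap.mulRight k a).restrict fun b hb => hmem a ha b hb
    have hf : Function.Injective f := by
      rw [injective_iff_map_eq_zero]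
      intro b hb
      by_contra hb0
      exact hnc a ha ha0 b b.2 (fun e => hb0 (Subtype.ext e)) (congrArg Subtype.val hb)
    obtain ⟨b, hb⟩ := (LinearMap.injective_iff_surjective_of_finrank_eq_finrank d2.symm).1 hf ⟨c, hc⟩
    obtain rfl : a * b - b * a = c := congrArg Subtype.val hb
    exact Subgroup.subset_closure ⟨_, qu_mem_rootGrp b.2, hval a ha b b.2⟩
  have s2 : ∀ y ∈ rootGrp G β, y ≠ 1 → rootGrp G (α * β - β * α) ≤
      Subgroup.closure ((fun x => x * y * x⁻¹ * y⁻¹) '' (rootGrp G α : Set _)) := by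
    intro x hx hx1 z hz
    obtain ⟨b, hb, rfl⟩ := eq_qu_of_mem hx
    obtain ⟨c, hc, rfl⟩ := eq_qu_of_mem hz
    have hb0 : b ≠ 0 := fun e => hx1 (qu_eq_one_iff.2 e)
    let f : rootSp G α →ₗ[k] rootSp G (α * β - β * α) :=
      (LinearMap.mulRight k b - LinearMap.mulLeft k b).restrict fun a ha => hmem a ha b hb
    have hf : Function.Injective f := by
      rw [injective_iff_map_eq_zero]
      intro a ha
      by_contra ha0
      exact hnc a a.2 (fun e => ha0 (Subtype.ext e)) b hb hb0 (congrArg Subtype.val ha)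
    obtain ⟨a, ha⟩ := (LinearMap.injective_iff_surjective_of_finrank_eq_finrank d1.symm).1 hf ⟨c, hc⟩
    obtain rfl : a * b - b * a = c := congrArg Subtype.val ha
    exact Subgroup.subset_closure ⟨_, qu_mem_rootGrp a.2, hval a a.2 b hb⟩
  have u1 : ∀ x ∈ rootGrp G α, Subgroup.closure ((fun y => x * y * x⁻¹ * y⁻¹) '' (rootGrp G β : Set _)) ≤
      ⁅rootGrp G α, rootGrp G β⁆ := fun x hx => (Subgroup.closure_le _).2 (by
    rintro _ ⟨y, hy, rfl⟩
    exact Subgroup.commutator_mem_commutator hx hy)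
  have u2 : ∀ y ∈ rootGrp G β, Subgroup.closure ((fun x => x * y * x⁻¹ * y⁻¹) '' (rootGrp G α : Set _)) ≤
      ⁅rootGrp G α, rootGrp G β⁆ := fun y hy => (Subgroup.closure_le _).2 (by
    rintro _ ⟨x, hx, rfl⟩
    exact Subgroup.commutator_mem_commutator hx hy)
  have heq : ⁅rootGrp G α, rootGrp G β⁆ = rootGrp G (α * β - β * α) :=
    le_antisymm hle ((s1 _ (qu_mem_rootGrp sa) fun e => hα.ne (qu_eq_one_iff.1 e)).trans (u1 _ (qu_mem_rootGrp sa)))
  refine ⟨C.qd, heq, fun x hx hx1 => le_antisymm (u1 x hx) (hle.trans (s1 x hx hx1)),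
    fun y hy hy1 => le_antisymm (u2 y hy) (hle.trans (s2 y hy hy1)), fun x hx => ?_,
    ⟨g'⁻¹ * g, mul_mem (inv_mem hg') hg, by rw [← conjBy_conjBy, eg, ← eg', conjBy_inv_cancel]⟩,
    g, hg, eg.trans heq.symm⟩
  have hJ : uJ (rootGrp G α ⊔ rootGrp G β) ≤ coreSp (α * β - β * α) := by
    refine uJ_sup_le (coreSp_mul _) ?_ ?_ <;> rw [uJ_rootGrp]
    · exact fun a ha => C.mem_coreSp hα.qe.sq (t1 _ sa _ sb) ha (t2 _ ha _ sb)
    · intro b hb
      have := C'.mem_coreSp hβ.qe.sq (t2 _ sa _ sb) hb (t1 _ sa _ hb)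
      rwa [← neg_sub (α * β), coreSp_neg] at this
  obtain ⟨j1, j2, j3⟩ := hJ (sub_one_mem_uJ hx)
  refine ⟨sup_le rootGrp_le rootGrp_le hx, ?_, ?_⟩
  · apply Subgroup.centralizer_le_normalizer
    rw [Subgroup.mem_centralizer_iff]
    intro z hz
    exact commutator_eq_bot_iff.1 (nopp_class_two hk hα hβ h) z
      (Subgroup.commutator_mono le_sup_left le_sup_right hz) x hx
  · rw [heq, C.qd.qe.fixedSubmodule_eq, C.qd.qe.commutatorSubmodule_eq]
    exact ⟨j1, j2, fun m hm => sub_eq_zero.1 (j3 m hm)⟩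

end H70
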