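import Cfsg.Agent.H70.Quad5
import Cfsg.Agent.H70.GrpAux

/-! The classes of root groups of a quadratic pair and the quasisimple groups they generate. -/

namespace H70

open Cfsg Module
open LinearMap hiding fixedSubmodule

variable {k : Type*} [Field k] {M : Type*} [AddCommGroup M] [Module k M] [FiniteDimensional k M]

variable {G : Subgroup (LinearMap.GeneralLinearGroup k M)} {α β : Module.End k M}

/-- Baer–Suzuki type consequence. -/
theorem NU.commutator_eq_bot {N A : Subgroup (LinearMap.GeneralLinearGroup k M)} (hN : NU N)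
    (hn : A ≤ Subgroup.normalizer (N : Set _)) (hu : ∀ n ∈ N, IsUnipotentOn (A ⊔ conjBy A n)) : ⁅N, A⁆ = ⊥ := by
  let W : Set (Subgroup (LinearMap.GeneralLinearGroup k M)) := {V | ∃ n ∈ N, V = conjBy A n}
  have hW : ∀ V ∈ W, ∀ g ∈ A ⊔ N, conjBy V g ∈ W := by
    rintro _ ⟨n, hn1, rfl⟩ g hg
    obtain ⟨a, ha, m, hm, rfl⟩ := (mem_sup_of_le_normalizer hn).1 hg
    refine ⟨a * (m * n) * a⁻¹, (Subgroup.mem_normalizer_iff.1 (hn ha) _).1 (N.mul_mem hm hn1), ?_⟩
    conv_rhs => rw [← conjBy_of_mem ha]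
    rw [conjBy_conjBy, conjBy_conjBy]
    congr 1; group
  have hU := uni_family (G := A ⊔ N) (W := W) (by
    rintro _ ⟨n, hn1, rfl⟩
    exact conjBy_le_of_le le_sup_left (Subgroup.mem_sup_right hn1)) (by
    rintro _ ⟨n, hn1, rfl⟩ _ ⟨m, hm, rfl⟩
    have := uni_conjBy (hu _ (N.mul_mem (N.inv_mem hn1) hm)) n
    rwa [conjBy_sup, conjBy_conjBy, mul_inv_cancel_left] at this) hW
  have := hN ((⨆ V ∈ W, V) ⊓ N) inf_le_right (fun g hg => by
    rw [conjBy_inf, conjBy_of_mem hg, conjBy_biSup (fun V hV => hW V hV g (Subgroup.mem_sup_right hg))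
      fun V hV => hW V hV _ (Subgroup.mem_sup_right (N.inv_mem hg))]) (uni_mono hU inf_le_left)
  rw [eq_bot_iff, ← this, Subgroup.commutator_le]
  intro n hn1 a ha
  refine ⟨mul_mem (le_biSup_self (S := W) ⟨n, hn1, rfl⟩ (conj_mem_conjBy n ha))
    (le_biSup_self (S := W) ⟨1, N.one_mem, (conjBy_one A).symm⟩ (A.inv_mem ha)), ?_⟩
  rw [commutatorElement_def, mul_assoc, mul_assoc, ← mul_assoc a]
  exact N.mul_mem hn1 ((Subgroup.mem_normalizer_iff.1 (hn ha) _).1 (N.inv_mem hn1))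

theorem conj_mem_qrs {A : Subgroup (LinearMap.GeneralLinearGroup k M)} (hA : A ∈ quadraticRootSubgroups G)
    {g : LinearMap.GeneralLinearGroup k M} (hg : g ∈ G) : conjBy A g ∈ quadraticRootSubgroups G := by
  obtain ⟨α, hα, rfl⟩ := mem_quadraticRootSubgroups.1 hA
  exact mem_quadraticRootSubgroups.2 ⟨_, hα.cj hg, conjBy_rootGrp hg⟩

theorem conjBy_rootTop {g : LinearMap.GeneralLinearGroup k M} (hg : g ∈ G) : conjBy (rootTop G) g = rootTop G :=
  conjBy_biSup (fun _ hA => conj_mem_qrs hA hg) fun _ hA => conj_mem_qrs hA (G.inv_mem hg)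

theorem NU.rootTop (h : NU G) : NU (rootTop G) := h.of_normal rootTop_le fun _ => conjBy_rootTop

/-- trichotomy for two root groups, relative to a conjugation invariant set of root groups -/
theorem qrs_pair (hk : BigField k) (hG : NU G) {S : Set (Subgroup (LinearMap.GeneralLinearGroup k M))}
    (hS : ∀ A ∈ S, ∀ g ∈ rootTop G, conjBy A g ∈ S) {A B : Subgroup (LinearMap.GeneralLinearGroup k M)}
    (hAS : A ∈ S) (hA : A ∈ quadraticRootSubgroups G) (hB : B ∈ quadraticRootSubgroups G) :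
    ⁅A, B⁆ = ⊥ ∨ IsRankOnePair A B ∨ RootCommutatorCase S A B := by
  obtain ⟨α, hα, rfl⟩ := mem_quadraticRootSubgroups.1 hA
  obtain ⟨β, hβ, rfl⟩ := mem_quadraticRootSubgroups.1 hB
  by_cases h : Opp α β
  · exact Or.inr (Or.inl (h.r1 hk hα hβ))
  by_cases hne : ⁅rootGrp G α, rootGrp G β⁆ = ⊥
  · exact Or.inl hne
  obtain ⟨-, -, h3, h4, -, -, g, hg, e⟩ := nopp_cc hk hG hα hβ h hne
  exact Or.inr (Or.inr ⟨e ▸ hS _ hAS g hg, fun c hc x hx => commutator_eq_bot_iff.1 (nopp_class_two hk hα hβ h) c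
    (Subgroup.commutator_mono le_sup_left le_sup_right hc) x hx, h3, h4⟩)

theorem qrs_rootSet {S : Set (Subgroup (LinearMap.GeneralLinearGroup k M))} (hk : BigField k) (hG : NU G)
    (hS0 : S ⊆ quadraticRootSubgroups G) (hS : ∀ A ∈ S, ∀ g ∈ rootTop G, conjBy A g ∈ S) :
    IsRootSubgroupSet ((fun A : Subgroup (LinearMap.GeneralLinearGroup k M) => A.subgroupOf (⨆ B ∈ S, B)) '' S) := by
  refine rootSet_subgroupOf (fun A hA => ?_) (fun A hA => ?_) (fun A hA g hg => hS A hA g ?_)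
    fun A hA B hB => qrs_pair hk hG hS hA (hS0 hA) (hS0 hB)
  · obtain ⟨α, -, rfl⟩ := mem_quadraticRootSubgroups.1 (hS0 hA)
    exact rootGrp_isMulCommutative
  · obtain ⟨α, hα, rfl⟩ := mem_quadraticRootSubgroups.1 (hS0 hA)
    exact hα.rootGrp_ne_bot
  · exact (iSup₂_le fun B hB => le_biSup_self (hS0 hB) : (⨆ B ∈ S, B) ≤ rootTop G) hg

theorem qrs_psl2 (hk : BigField k) {A B : Subgroup (LinearMap.GeneralLinearGroup k M)}
    (hA : A ∈ quadraticRootSubgroups G) (hB : B ∈ quadraticRootSubgroups G) (h : IsRankOnePair A B) :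
    ∃ A₀ B₀ : Subgroup (LinearMap.GeneralLinearGroup k M), A₀ ≤ A ∧ B₀ ≤ B ∧ IsPSL2PairOver k A₀ B₀ := by
  obtain ⟨α, hα, rfl⟩ := mem_quadraticRootSubgroups.1 hA
  obtain ⟨β, hβ, rfl⟩ := mem_quadraticRootSubgroups.1 hB
  exact ((opp_iff_r1 hk hα hβ).2 h).psl2 hk hα hβ

/-- the class of a root group under the group generated by all root groups -/
def qcls (G A : Subgroup (LinearMap.GeneralLinearGroup k M)) : Set (Subgroup (LinearMap.GeneralLinearGroup k M)) :=
  {B | ∃ g ∈ rootTop G, B = conjBy A g}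

/-- the group generated by a class -/
def qcomp (G A : Subgroup (LinearMap.GeneralLinearGroup k M)) : Subgroup (LinearMap.GeneralLinearGroup k M) :=
  ⨆ B ∈ qcls G A, B

variable {A B : Subgroup (LinearMap.GeneralLinearGroup k M)}

omit [FiniteDimensional k M] in
theorem self_mem_qcls (A : Subgroup (LinearMap.GeneralLinearGroup k M)) : A ∈ qcls G A :=
  ⟨1, one_mem _, (conjBy_one A).symm⟩

omit [FiniteDimensional k M] in
theorem conj_mem_qcls (hB : B ∈ qcls G A) {g : LinearMap.GeneralLinearGroup k M} (hg : g ∈ rootTop G) :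
    conjBy B g ∈ qcls G A := by
  obtain ⟨h, hh, rfl⟩ := hB
  exact ⟨g * h, mul_mem hg hh, conjBy_conjBy _ _ _⟩

omit [FiniteDimensional k M] in
theorem qcls_eq (hB : B ∈ qcls G A) : qcls G B = qcls G A := by
  refine Set.Subset.antisymm ?_ ?_
  · rintro _ ⟨g, hg, rfl⟩; exact conj_mem_qcls hB hg
  · obtain ⟨h, hh, rfl⟩ := hB
    rintro _ ⟨g, hg, rfl⟩
    exact ⟨g * h⁻¹, mul_mem hg (inv_mem hh), by rw [conjBy_conjBy, inv_mul_cancel_right]⟩

theorem qcls_subset (hA : A ∈ quadraticRootSubgroups G) : qcls G A ⊆ quadraticRootSubgroups G := by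
  rintro _ ⟨g, hg, rfl⟩; exact conj_mem_qrs hA (rootTop_le hg)

theorem qcomp_le (hA : A ∈ quadraticRootSubgroups G) : qcomp G A ≤ rootTop G :=
  iSup₂_le fun _ hB => le_biSup_self (qcls_subset hA hB)

omit [FiniteDimensional k M] in
theorem le_qcomp (hB : B ∈ qcls G A) : B ≤ qcomp G A := le_biSup_self hB

omit [FiniteDimensional k M] in
theorem conjBy_qcomp {g : LinearMap.GeneralLinearGroup k M} (hg : g ∈ rootTop G) :
    conjBy (qcomp G A) g = qcomp G A :=
  conjBy_biSup (fun _ hB => conj_mem_qcls hB hg) fun _ hB => conj_mem_qcls hB (inv_mem hg)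

theorem NU.qcomp (h : NU G) (hA : A ∈ quadraticRootSubgroups G) : NU (qcomp G A) :=
  h.rootTop.of_normal (qcomp_le hA) fun _ => conjBy_qcomp

theorem Opp.mem_qcls (h : Opp α β) (hk : BigField k) (hα : QD G α) (hβ : QD G β) :
    rootGrp G β ∈ qcls G (rootGrp G α) := by
  obtain ⟨g, hg, e⟩ := h.exists_conj hk hα hβ
  exact ⟨g, sup_le hα.le_rootTop hβ.le_rootTop hg, e.symm⟩

theorem comm_of_not_mem_qcls (hk : BigField k) (hG : NU G) (hA : A ∈ quadraticRootSubgroups G)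
    (hB : B ∈ quadraticRootSubgroups G) (h : B ∉ qcls G A) : ⁅A, B⁆ = ⊥ := by
  obtain ⟨α, hα, rfl⟩ := mem_quadraticRootSubgroups.1 hA
  obtain ⟨β, hβ, rfl⟩ := mem_quadraticRootSubgroups.1 hB
  by_contra hne
  obtain ⟨-, -, -, -, -, ⟨g, hg, e⟩, -⟩ := nopp_cc hk hG hα hβ (fun h' => h (h'.mem_qcls hk hα hβ)) hne
  exact h ⟨g, hg, e.symm⟩

theorem qcomp_comm_of_not_mem (hk : BigField k) (hG : NU G) (hA : A ∈ quadraticRootSubgroups G)
    (hB : B ∈ quadraticRootSubgroups G) (h : B ∉ qcls G A) : ⁅qcomp G A, qcomp G B⁆ = ⊥ :=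
  commutator_biSup_eq_bot fun A' hA' B' hB' =>
    comm_of_not_mem_qcls hk hG (qcls_subset hA hA') (qcls_subset hB hB') fun h' => h (by
      rw [← qcls_eq hA', ← qcls_eq h', qcls_eq hB']; exact self_mem_qcls B)

theorem rootTop_factor (hk : BigField k) (hG : NU G) (hA : A ∈ quadraticRootSubgroups G)
    {g : LinearMap.GeneralLinearGroup k M} (hg : g ∈ rootTop G) :
    ∃ h ∈ qcomp G A, ∀ x ∈ qcomp G A, h⁻¹ * g * x = x * (h⁻¹ * g) := by
  refine biSup_induction (P := fun g => ∃ h ∈ qcomp G A, ∀ x ∈ qcomp G A, h⁻¹ * g * x = x * (h⁻¹ * g)) hg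
    (fun B hB b hb => ?_) ⟨1, one_mem _, by simp⟩ ?_
  · by_cases h : B ∈ qcls G A
    · exact ⟨b, le_qcomp h hb, by simp⟩
    · exact ⟨1, one_mem _, fun x hx => by
        simpa using (commutator_eq_bot_iff.1 (qcomp_comm_of_not_mem hk hG hA hB h) x hx b
          (le_qcomp (self_mem_qcls B) hb)).symm⟩
  · rintro x y ⟨h1, hh1, e1⟩ ⟨h2, hh2, e2⟩
    refine ⟨h1 * h2, mul_mem hh1 hh2, fun z hz => ?_⟩
    have e : (h1 * h2)⁻¹ * (x * y) = (h1⁻¹ * x) * (h2⁻¹ * y) := by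
      rw [← mul_assoc (h1⁻¹ * x), e1 _ (inv_mem hh2)]; group
    rw [e, mul_assoc, e2 z hz, ← mul_assoc, e1 z hz, mul_assoc]

theorem qcls_conj_in_qcomp (hk : BigField k) (hG : NU G) (hA : A ∈ quadraticRootSubgroups G)
    {B C : Subgroup (LinearMap.GeneralLinearGroup k M)} (hB : B ∈ qcls G A) (hC : C ∈ qcls G A) :
    ∃ h ∈ qcomp G A, C = conjBy B h := by
  obtain ⟨g, hg, rfl⟩ : C ∈ qcls G B := qcls_eq hB ▸ hC
  obtain ⟨h, hh, e⟩ := rootTop_factor hk hG hA hg
  refine ⟨h, hh, conjBy_eq_conjBy_iff.2 (Subgroup.centralizer_le_normalizer _ ?_)⟩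
  exact Subgroup.mem_centralizer_iff.2 fun b hb => (e b (le_qcomp hB hb)).symm

theorem Opp.le_commutator (h : Opp α β) (hk : BigField k) (hα : QD G α) (hβ : QD G β) :
    rootGrp G α ≤ ⁅rootGrp G α ⊔ rootGrp G β, rootGrp G α ⊔ rootGrp G β⁆ := by
  intro x hx
  by_cases hx1 : x = 1
  · rw [hx1]; exact one_mem _
  obtain ⟨a, ha, rfl⟩ := eq_qu_of_mem hx
  have ha0 : a ≠ 0 := fun e => hx1 (qu_eq_one_iff.2 e)
  obtain ⟨b, hb, -, h1, h2⟩ := ((opp_congr hα hβ ha ha0 hβ.qe.self_mem hβ.ne).2 h).exists_partner hk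
    (hα.of_mem ha ha0).1 hβ
  set φ := (muOf (k := k) (rootSp_mul ha ha) (rootSp_mul hb hb) h1 h2).hom
  have h3 : xu (1 : k) ∈ ⁅(⊤ : Subgroup (Matrix.SpecialLinearGroup (Fin 2) k)), ⊤⁆ :=
    (xu_xl_mem_lcs hk (H := ⊤) (fun _ => ⟨trivial, trivial⟩) 1 1).1
  have h4 : φ (xu 1) ∈ ⁅(⊤ : Subgroup _).map φ, (⊤ : Subgroup _).map φ⁆ := by
    rw [← Subgroup.map_commutator]; exact ⟨_, h3, rfl⟩
  have h5 : (⊤ : Subgroup _).map φ ≤ rootGrp G α ⊔ rootGrp G β := by
    rintro _ ⟨g, -, rfl⟩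
    exact muOf_mem_sup _ _ h1 h2 ha hb g
  convert Subgroup.commutator_mono h5 h5 h4 using 1
  exact Units.ext (by rw [muOf_hom_xu]; simp)

theorem qcomp_normal_dichotomy (hk : BigField k) (hG : NU G) (hA : A ∈ quadraticRootSubgroups G)
    {N : Subgroup (LinearMap.GeneralLinearGroup k M)} (hN : N ≤ qcomp G A) (hn : ∀ g ∈ qcomp G A, conjBy N g = N) :
    N = qcomp G A ∨ ⁅N, qcomp G A⁆ = ⊥ := by
  have hnorm : ∀ B ∈ qcls G A, B ≤ Subgroup.normalizer (N : Set _) := fun B hB g hg =>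
    conjBy_eq_self_iff.1 (hn g (le_qcomp hB hg))
  by_cases h : ∀ B ∈ qcls G A, ∀ n ∈ N, IsUnipotentOn (B ⊔ conjBy B n)
  · right
    rw [Subgroup.commutator_comm, Subgroup.commutator_eq_bot_iff_le_centralizer]
    refine iSup₂_le fun B hB => ?_
    rw [← Subgroup.commutator_eq_bot_iff_le_centralizer, Subgroup.commutator_comm]
    exact ((hG.qcomp hA).of_normal hN hn).commutator_eq_bot (hnorm B hB) (h B hB)
  left
  push Not at h
  obtain ⟨B, hB, n, hnN, hu⟩ := h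
  obtain ⟨β, hβ, rfl⟩ := mem_quadraticRootSubgroups.1 (qcls_subset hA hB)
  have hnG : n ∈ G := rootTop_le (qcomp_le hA (hN hnN))
  have hle : rootGrp G β ⊔ conjBy (rootGrp G β) n ≤ rootGrp G β ⊔ N :=
    sup_le le_sup_left (conjBy_le_of_le le_sup_left (Subgroup.mem_sup_right hnN))
  rw [conjBy_rootGrp hnG] at hu hle
  have h1 := ((opp_iff_not_uni hk hβ (hβ.cj hnG)).2 hu).le_commutator hk hβ (hβ.cj hnG)
  have h2 : rootGrp G β ≤ N := h1.trans ((Subgroup.commutator_mono hle hle).trans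
    (commutator_sup_le_of_abelian (fun _ hx _ hy => rootGrp_comm hx hy) (hnorm _ hB)))
  refine le_antisymm hN (iSup₂_le fun C hC => ?_)
  obtain ⟨h, hh, rfl⟩ := qcls_conj_in_qcomp hk hG hA hB hC
  exact (conjBy_mono h2 h).trans (hn h hh).le

theorem qcomp_ne_bot (hA : A ∈ quadraticRootSubgroups G) : qcomp G A ≠ ⊥ := by
  obtain ⟨α, hα, rfl⟩ := mem_quadraticRootSubgroups.1 hA
  exact fun e => hα.rootGrp_ne_bot (eq_bot_iff.2 (e ▸ le_qcomp (self_mem_qcls _)))

theorem qcomp_quasisimple (hk : BigField k) (hG : NU G) (hA : A ∈ quadraticRootSubgroups G) :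
    IsQuasisimple (qcomp G A) := by
  refine isQuasisimple_of_subgroup (le_antisymm (Subgroup.commutator_le_self _) (iSup₂_le fun B hB => ?_))
    (qcomp_ne_bot hA) fun N hN hn => qcomp_normal_dichotomy hk hG hA hN hn
  obtain ⟨β, hβ, rfl⟩ := mem_quadraticRootSubgroups.1 (qcls_subset hA hB)
  obtain ⟨η, hη, h⟩ := hβ.exists_opp hk hG
  have : rootGrp G β ⊔ rootGrp G η ≤ qcomp G A :=
    sup_le (le_qcomp hB) (le_qcomp (qcls_eq hB ▸ h.mem_qcls hk hβ hη))
  exact (h.le_commutator hk hβ hη).trans (Subgroup.commutator_mono this this)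

theorem qcls_finite (hk : BigField k) (hG : NU G) : (qcls G '' quadraticRootSubgroups G).Finite := by
  have h1 : ∀ p : qcls G '' quadraticRootSubgroups G, ∃ α β, QD G α ∧ QD G β ∧ Opp α β ∧
      qcls G (rootGrp G α) = p := by
    rintro ⟨_, A, hA, rfl⟩
    obtain ⟨α, hα, rfl⟩ := mem_quadraticRootSubgroups.1 hA
    obtain ⟨β, hβ, h⟩ := hα.exists_opp hk hG
    exact ⟨α, β, hα, hβ, h, rfl⟩
  choose a b ha hb hab hp using h1
  have hli : LinearIndependent k a := by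
    rw [linearIndependent_iff']
    intro s c hs j hj
    have h2 : ∀ i, i ≠ j → a i * b j - b j * a i = 0 := by
      intro i hij
      have : rootGrp G (a i) ∉ qcls G (rootGrp G (b j)) := fun h => hij (Subtype.ext (by
        rw [← hp i, ← hp j, qcls_eq h, qcls_eq ((hab j).mem_qcls hk (ha j) (hb j))]))
      have := comm_of_not_mem_qcls hk hG (mem_quadraticRootSubgroups.2 ⟨_, hb j, rfl⟩)
        (mem_quadraticRootSubgroups.2 ⟨_, ha i, rfl⟩) this
      rw [rootGrp_commutator_eq_bot_iff.1 this _ (hb j).qe.self_mem _ (ha i).qe.self_mem, sub_self]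
    have h3 := congrArg (LinearMap.mulRight k (b j) - LinearMap.mulLeft k (b j)) hs
    rw [map_sum, map_zero, Finset.sum_eq_single j (fun i _ hij => by simp [h2 i hij]) (fun h => absurd hj h),
      map_smul, smul_eq_zero] at h3
    exact h3.resolve_right fun e => (hab j).not_comm (ha j).qe.sq (ha j).ne (sub_eq_zero.1 e)
  exact Set.finite_coe_iff.1 hli.finite

end H70
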