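import Cfsg.Agent.H70.Quad6

/-! Arbitrary quadratic elements versus the components generated by root groups. -/

namespace H70

open Cfsg Module
open LinearMap hiding fixedSubmodule

variable {k : Type*} [Field k] {M : Type*} [AddCommGroup M] [Module k M]

theorem exists_three_not_mem (hk : BigField k) {S : AddSubgroup k} (hS : S ≠ ⊤) :
    ∃ a b c : k, a ∉ S ∧ b ∉ S ∧ c ∉ S ∧ a ≠ b ∧ a ≠ c ∧ b ≠ c := by
  obtain ⟨h2, a, ha, ha2⟩ := hk
  by_cases h : ∃ c ∈ S, c ≠ 0
  · obtain ⟨c, hc, hc0⟩ := h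
    obtain ⟨d, hd⟩ : ∃ d, d ∉ S := by
      by_contra hcon
      push Not at hcon
      exact hS ((AddSubgroup.eq_top_iff' S).2 hcon)
    refine ⟨d, d + c, d - c, hd, fun h => hd (by simpa using S.sub_mem h hc), fun h => hd (by simpa using S.add_mem h hc),
      fun e => hc0 (by linear_combination -e), fun e => hc0 (by linear_combination e), fun e => ?_⟩
    exact mul_ne_zero h2 hc0 (by linear_combination e)
  · push Not at h
    exact ⟨1, -1, a, fun e => one_ne_zero (h _ e), fun e => neg_ne_zero.2 one_ne_zero (h _ e), fun e => ha (h _ e),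
      fun e => h2 (by linear_combination e), by rintro rfl; simp at ha2, by rintro rfl; simp at ha2⟩

theorem eq_zero_of_three {V : Type*} [AddCommGroup V] [Module k V] {x y z : V} {a b c : k} (hab : a ≠ b)
    (hac : a ≠ c) (hbc : b ≠ c) (h1 : x + a • y + (a * a) • z = 0) (h2 : x + b • y + (b * b) • z = 0)
    (h3 : x + c • y + (c * c) • z = 0) : x = 0 := by
  have : ((a - b) * (a - c) * (b - c)) • x = 0 := by
    linear_combination (norm := module) (b * c * (b - c)) • h1 - (a * c * (a - c)) • h2 + (a * b * (a - b)) • h3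
  exact (smul_eq_zero.1 this).resolve_left
    (mul_ne_zero (mul_ne_zero (sub_ne_zero.2 hab) (sub_ne_zero.2 hac)) (sub_ne_zero.2 hbc))

/-- the family `1 + kρ` as a subgroup -/
def famGrp (ρ : Module.End k M) : Subgroup (LinearMap.GeneralLinearGroup k M) := Subgroup.closure (fam ρ)

theorem mem_famGrp {ρ : Module.End k M} (h : ρ * ρ = 0) {g : LinearMap.GeneralLinearGroup k M} :
    g ∈ famGrp ρ ↔ g ∈ fam ρ := by
  refine ⟨fun hg => ?_, fun hg => Subgroup.subset_closure hg⟩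
  refine Subgroup.closure_induction (p := fun g _ => g ∈ fam ρ) (fun _ h => h) ⟨0, by simp⟩ ?_ ?_ hg
  · rintro x y - - ⟨c, hc⟩ ⟨d, hd⟩
    exact ⟨c + d, by simp [hc, hd, mul_add, add_mul, h, add_smul]; abel⟩
  · rintro x - ⟨c, hc⟩
    exact ⟨-c, by rw [inv_val_of_sq_zero (smul_sq_zero h c) hc]; simp [sub_eq_add_neg]⟩

theorem famGrp_comm {ρ : Module.End k M} (h : ρ * ρ = 0) : ∀ a ∈ famGrp ρ, ∀ b ∈ famGrp ρ, a * b = b * a := by
  intro a ha b hb
  obtain ⟨c, hc⟩ := (mem_famGrp h).1 ha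
  obtain ⟨d, hd⟩ := (mem_famGrp h).1 hb
  exact Units.ext (by simp [hc, hd, mul_add, add_mul, h]; abel)

theorem conjBy_famGrp {ρ : Module.End k M} (h : ρ * ρ = 0) (g : LinearMap.GeneralLinearGroup k M) :
    conjBy (famGrp ρ) g = famGrp (cj g ρ) := by
  ext x
  rw [mem_conjBy, mem_famGrp h, mem_famGrp (by rw [← map_mul, h, map_zero])]
  refine exists_congr fun c => ?_
  rw [← (cj g).injective.eq_iff, cj_coe]
  simp [mul_assoc]

theorem famGrp_uni {ρ : Module.End k M} (h : ρ * ρ = 0) : IsUnipotentOn (famGrp ρ) := by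
  have := uni_pair h h (n := 0 + 1) (by simp [h]) (by simp [h])
  rwa [Set.union_self] at this

theorem famGrp_le_iff {ρ : Module.End k M} (h : ρ * ρ = 0) {H : Subgroup (LinearMap.GeneralLinearGroup k M)} :
    famGrp ρ ≤ H ↔ QE H ρ :=
  ⟨fun hle => ⟨h, fun c => ⟨_, hle (Subgroup.subset_closure (qu_mem_fam h c)), rfl⟩⟩,
    fun hq => (Subgroup.closure_le _).2 hq.fam_subset⟩

theorem famGrp_comm_iff {ρ : Module.End k M} (h : ρ * ρ = 0) {H : Subgroup (LinearMap.GeneralLinearGroup k M)} :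
    ⁅H, famGrp ρ⁆ = ⊥ ↔ ∀ g ∈ H, (g : Module.End k M) * ρ = ρ * g := by
  rw [commutator_eq_bot_iff]
  refine forall₂_congr fun g _ => ⟨fun h1 => ?_, fun h1 x hx => ?_⟩
  · have := congrArg Units.val (h1 _ (Subgroup.subset_closure (qu_mem_fam h 1)))
    simpa [mul_add, add_mul] using this
  · obtain ⟨c, hc⟩ := (mem_famGrp h).1 hx
    exact Units.ext (by simp [hc, mul_add, add_mul, h1])

variable [FiniteDimensional k M]

variable {G A : Subgroup (LinearMap.GeneralLinearGroup k M)} {ρ : Module.End k M}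

/-- the stabilizer of a class of root groups -/
def qstab (G A : Subgroup (LinearMap.GeneralLinearGroup k M)) : Subgroup (LinearMap.GeneralLinearGroup k M) where
  carrier := {g | g ∈ G ∧ conjBy A g ∈ qcls G A}
  one_mem' := ⟨G.one_mem, by rw [conjBy_one]; exact self_mem_qcls A⟩
  mul_mem' := by
    rintro x y ⟨hx, u, hu, eu⟩ ⟨hy, v, hv, ev⟩
    refine ⟨G.mul_mem hx hy, x * v * x⁻¹ * u, mul_mem (conjBy_rootTop hx ▸ conj_mem_conjBy x hv) hu, ?_⟩
    rw [← conjBy_conjBy, ev, ← conjBy_conjBy A u, ← eu, conjBy_conjBy, conjBy_conjBy, inv_mul_cancel_right]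
  inv_mem' := by
    rintro x ⟨hx, u, hu, eu⟩
    refine ⟨G.inv_mem hx, x⁻¹ * u⁻¹ * x, mem_conjBy.1 ((conjBy_rootTop hx).symm ▸ inv_mem hu), ?_⟩
    rw [← conjBy_conjBy A x, eu, conjBy_conjBy, inv_mul_cancel_right]

theorem conj_mem_qcls_of_qstab {g : LinearMap.GeneralLinearGroup k M} (hg : g ∈ qstab G A)
    {B : Subgroup (LinearMap.GeneralLinearGroup k M)} (hB : B ∈ qcls G A) : conjBy B g ∈ qcls G A := by
  obtain ⟨u, hu, rfl⟩ := hB
  rw [conjBy_conjBy]
  exact ((qstab G A).mul_mem hg ⟨rootTop_le hu, u, hu, rfl⟩).2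

theorem QE.mem_qstab (hk : BigField k) (hG : NU G) (hA : A ∈ quadraticRootSubgroups G) (hρ : QE G ρ) (c : k) :
    qu (c • ρ) (smul_sq_zero hρ.sq c) ∈ qstab G A := by
  let S : AddSubgroup k :=
    { carrier := {c | qu (c • ρ) (smul_sq_zero hρ.sq c) ∈ qstab G A}
      zero_mem' := by
        have e : qu ((0 : k) • ρ) (smul_sq_zero hρ.sq 0) = 1 := qu_eq_one_iff.2 (by simp)
        exact (e ▸ (qstab G A).one_mem : qu _ _ ∈ qstab G A)
      add_mem' := by
        intro a b ha hb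
        have e : qu ((a + b) • ρ) (smul_sq_zero hρ.sq _) =
            qu (a • ρ) (smul_sq_zero hρ.sq _) * qu (b • ρ) (smul_sq_zero hρ.sq _) :=
          Units.ext (by simp [mul_add, add_mul, hρ.sq, add_smul]; abel)
        exact (e ▸ (qstab G A).mul_mem ha hb : qu _ _ ∈ qstab G A)
      neg_mem' := by
        intro a ha
        have e : qu ((-a) • ρ) (smul_sq_zero hρ.sq _) = (qu (a • ρ) (smul_sq_zero hρ.sq _))⁻¹ :=
          Units.ext (by simp [sub_eq_add_neg])
        exact (e ▸ (qstab G A).inv_mem ha : qu _ _ ∈ qstab G A) }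
  suffices h : S = ⊤ from (h ▸ AddSubgroup.mem_top c : c ∈ S)
  by_contra hS
  obtain ⟨a, b, c, ha, hb, hc, hab, hac, hbc⟩ := exists_three_not_mem hk hS
  obtain ⟨ζ, hζ, rfl⟩ := mem_quadraticRootSubgroups.1 hA
  obtain ⟨η, hη, hO⟩ := hζ.exists_opp hk hG
  have key : ∀ c ∉ S, (ζ * η - η * ζ) + c • ((ρ * ζ - ζ * ρ) * η - η * (ρ * ζ - ζ * ρ)) +
      (c * c) • (η * (ρ * ζ * ρ) - ρ * ζ * ρ * η) = 0 := by
    intro c hc
    have h1 : rootGrp G (H70.cj (qu (c • ρ) (smul_sq_zero hρ.sq c)) ζ) ∉ qcls G (rootGrp G η) := fun h =>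
      hc ⟨hρ.qu_mem c, by rw [conjBy_rootGrp (hρ.qu_mem c), ← qcls_eq (hO.mem_qcls hk hζ hη)]; exact h⟩
    have hζ' := hζ.cj (hρ.qu_mem c)
    have h2 := rootGrp_commutator_eq_bot_iff.1 (comm_of_not_mem_qcls hk hG
      (mem_quadraticRootSubgroups.2 ⟨_, hη, rfl⟩) (mem_quadraticRootSubgroups.2 ⟨_, hζ', rfl⟩) h1)
      _ hη.qe.self_mem _ hζ'.qe.self_mem
    rw [cj_qu, eq_comm, ← sub_eq_zero] at h2
    rw [← h2]
    simp only [mul_add, add_mul, mul_sub, sub_mul, one_mul, mul_one, mul_assoc, smul_mul_assoc, mul_smul_comm,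
      smul_sub, smul_add, smul_smul]
    abel
  exact hO.not_comm hζ.qe.sq hζ.ne (sub_eq_zero.1 (eq_zero_of_three hab hac hbc (key a ha) (key b hb) (key c hc)))

theorem qstab_eq (hk : BigField k) (hG : NU G) (hgen : Subgroup.closure (quadraticElements G) = G)
    (hA : A ∈ quadraticRootSubgroups G) : G ≤ qstab G A := by
  conv_lhs => rw [← hgen]
  rw [Subgroup.closure_le]
  intro σ hσ
  have := (mem_quadraticElements.1 hσ).1.mem_qstab hk hG hA 1
  have e : σ = qu _ (smul_sq_zero (mem_quadraticElements.1 hσ).1.sq 1) := Units.ext (by simp)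
  exact (e ▸ this : σ ∈ qstab G A)

theorem conjBy_qcomp_of_gen (hk : BigField k) (hG : NU G) (hgen : Subgroup.closure (quadraticElements G) = G)
    (hA : A ∈ quadraticRootSubgroups G) {g : LinearMap.GeneralLinearGroup k M} (hg : g ∈ G) :
    conjBy (qcomp G A) g = qcomp G A :=
  conjBy_biSup (fun _ hB => conj_mem_qcls_of_qstab (qstab_eq hk hG hgen hA hg) hB)
    fun _ hB => conj_mem_qcls_of_qstab (qstab_eq hk hG hgen hA (G.inv_mem hg)) hB

theorem qe_dichotomy (hk : BigField k) (hG : FF G) (hgen : Subgroup.closure (quadraticElements G) = G)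
    (hA : A ∈ quadraticRootSubgroups G) (n : ℕ) : ∀ ρ, QE G ρ → rk ρ = n →
      QE (qcomp G A) ρ ∨ ∀ g ∈ qcomp G A, (g : Module.End k M) * ρ = ρ * g := by
  induction n using Nat.strong_induction_on with
  | _ n ih =>
  intro ρ hρ hn
  have hXG : qcomp G A ≤ G := (qcomp_le hA).trans rootTop_le
  have hXn := fun g hg => conjBy_qcomp_of_gen hk hG.nu hgen hA (g := g) hg
  have hXu := hG.nu.qcomp hA
  have hnorm : famGrp ρ ≤ Subgroup.normalizer (qcomp G A : Set _) := fun g hg =>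
    conjBy_eq_self_iff.1 (hXn g ((famGrp_le_iff hρ.sq).2 hρ hg))
  by_cases hu : ∀ g ∈ qcomp G A, IsUnipotentOn (famGrp ρ ⊔ conjBy (famGrp ρ) g)
  · exact Or.inr ((famGrp_comm_iff hρ.sq).1 (hXu.commutator_eq_bot hnorm hu))
  left
  push Not at hu
  obtain ⟨g, hg, hu⟩ := hu
  have hle : famGrp ρ ⊔ conjBy (famGrp ρ) g ≤ famGrp ρ ⊔ qcomp G A :=
    sup_le le_sup_left (conjBy_le_of_le le_sup_left (Subgroup.mem_sup_right hg))
  rw [conjBy_famGrp hρ.sq, famGrp, famGrp, ← Subgroup.closure_union] at hu hle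
  have hρ' := hρ.cj (hXG hg)
  generalize cj g ρ = ρ' at hu hle hρ'
  obtain ⟨ε, δ, F⟩ := exists_fit hρ.sq hρ'.sq
  have hε : ε ≠ 0 := by
    rintro rfl
    obtain ⟨n, hn⟩ := F.nilpotent_of_eq_zero
    exact hu (uni_pair F.aa F.bb (n := n) (by rw [hn, zero_mul]) (by rw [hn, zero_mul]))
  have c1 := F.ca F.ε_mem
  have z1 : ρ * (ε * ρ) = 0 := by rw [← mul_assoc, c1, mul_assoc, hρ.sq, mul_zero]
  have z2 : ε * ρ * (ε * ρ) = 0 := by rw [mul_assoc, z1, mul_zero]
  have z3 : ε * ρ * ρ = 0 := by rw [mul_assoc, hρ.sq, mul_zero]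
  have h1 : QE (qcomp G A) (ε * ρ) := by
    refine ⟨z2, fun c => ?_⟩
    have := gS_mono ((Subgroup.commutator_mono hle hle).trans
      (commutator_sup_le_of_abelian (famGrp_comm hρ.sq) hnorm))
      (F.mem_gS_lcs hk 1 (Subalgebra.smul_mem _ (one_mem _) c)).1
    simpa using this
  have h0 : QE G (ρ - ε * ρ) := by
    refine ⟨by simp [mul_sub, sub_mul, hρ.sq, z1, z2, z3], fun c => ?_⟩
    have := mul_mem (hρ.mem c) ((h1.mono hXG).mem (-c))
    convert this using 1
    simp [mul_add, add_mul, z1, smul_sub]; abel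
  have hlt : rk (ρ - ε * ρ) < n := by
    rw [← hn]
    refine Submodule.finrank_lt_finrank_of_lt (lt_of_le_of_ne ?_ fun e => F.eps_mul_ne hε ?_)
    · rw [← c1, ← mul_one_sub]; exact range_comp_le_range _ _
    · refine mul_eq_zero_of_range_le_ker (e ▸ range_le_ker_of_mul_eq_zero ?_)
      rw [mul_sub, ← mul_assoc, F.idem, sub_self]
  have fin : QE (qcomp G A) (ρ - ε * ρ) → QE (qcomp G A) ρ := fun h => ⟨hρ.sq, fun c => by
    have := mul_mem (h.mem c) (h1.mem c)
    convert this using 1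
    simp [mul_add, add_mul, z1, z2, smul_sub, sub_mul]; abel⟩
  rcases ih _ hlt _ h0 rfl with h | h
  · exact fin h
  refine fin ?_
  generalize hρ₀ : ρ - ε * ρ = ρ₀ at h
  have z4 : ε * ρ * ρ₀ = 0 := by rw [← hρ₀, mul_sub, z2, z3, sub_zero]
  let T : Subgroup (LinearMap.GeneralLinearGroup k M) := qcomp G A ⊓ ⨅ m, fixGrp (ρ₀ m)
  have hT : ∀ g, g ∈ T ↔ g ∈ qcomp G A ∧ (g : Module.End k M) * ρ₀ = ρ₀ := fun g => by
    simp only [T, Subgroup.mem_inf, Subgroup.mem_iInf, LinearMap.ext_iff]; rfl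
  have hTn : ∀ g ∈ qcomp G A, ∀ x ∈ T, g * x * g⁻¹ ∈ T := by
    intro g hg x hx
    obtain ⟨x1, x2⟩ := (hT x).1 hx
    refine (hT _).2 ⟨mul_mem (mul_mem hg x1) (inv_mem hg), ?_⟩
    rw [Units.val_mul, Units.val_mul, mul_assoc, h _ (inv_mem hg), ← mul_assoc, mul_assoc _ _ ρ₀, x2, h g hg,
      Units.mul_inv_cancel_right]
  have hFT : famGrp (ε * ρ) ≤ T := by
    intro x hx
    refine (hT x).2 ⟨(famGrp_le_iff z2).2 h1 hx, ?_⟩
    obtain ⟨c, hc⟩ := (mem_famGrp z2).1 hx
    rw [hc, add_mul, smul_mul_assoc, z4]; simp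
  rcases qcomp_normal_dichotomy hk hG.nu hA (N := T) inf_le_left (fun g hg => conjBy_eq_self_iff.2
    (mem_normalizer_of_conj_mem (hTn g hg) fun v hv => by simpa using hTn _ (inv_mem hg) v hv)) with e | e
  · have hfix := hG _ hXG hXn (qcomp_ne_bot hA)
    have : ρ₀ = 0 := LinearMap.ext fun m => (Submodule.eq_bot_iff _).1 hfix _ (mem_fixedSubmodule.2 fun g hg =>
      LinearMap.congr_fun ((hT g).1 (e.symm ▸ hg)).2 m)
    rw [this]; exact qe_zero
  · exfalso
    have := hXu (famGrp (ε * ρ)) (hFT.trans inf_le_left) (fun g hg => conjBy_eq_self_iff.2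
      (Subgroup.centralizer_le_normalizer _ (Subgroup.mem_centralizer_iff.2 fun x hx =>
        commutator_eq_bot_iff.1 e x (hFT hx) g hg))) (famGrp_uni z2)
    have h2 : qu _ (smul_sq_zero z2 1) ∈ famGrp (ε * ρ) := Subgroup.subset_closure (qu_mem_fam z2 1)
    rw [this, Subgroup.mem_bot, qu_eq_one_iff, one_smul] at h2
    exact F.eps_mul_ne hε h2

theorem quadraticElements_dichotomy (hk : BigField k) (hG : FF G)
    (hgen : Subgroup.closure (quadraticElements G) = G) {σ : LinearMap.GeneralLinearGroup k M}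
    (hσ : σ ∈ quadraticElements G) :
    (∃ A ∈ quadraticRootSubgroups G, σ ∈ qcomp G A) ∨ σ ∈ Subgroup.centralizer (rootTop G : Set _) := by
  by_cases h : ∃ A ∈ quadraticRootSubgroups G, σ ∈ qcomp G A
  · exact Or.inl h
  right
  push Not at h
  have : rootTop G ≤ Subgroup.centralizer {σ} := iSup₂_le fun A hA g hg => by
    rcases qe_dichotomy hk hG hgen hA _ _ (mem_quadraticElements.1 hσ).1 rfl with h1 | h1
    · exact absurd (coe_mem_gS.1 (by simpa using h1.mem 1)) (h A hA)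
    · have := h1 g (le_qcomp (self_mem_qcls A) hg)
      rw [mul_sub, sub_mul, mul_one, one_mul, sub_left_inj] at this
      exact Subgroup.mem_centralizer_singleton_iff.2 (Units.ext this)
  exact Subgroup.mem_centralizer_iff.2 fun g hg => Subgroup.mem_centralizer_singleton_iff.1 (this hg)

theorem central_product_aux (hk : BigField k) (n : ℕ) : ∀ G : Subgroup (LinearMap.GeneralLinearGroup k M), FF G →
    Subgroup.closure (quadraticElements G) = G → (∀ α, QE G α → α ≠ 0 → finrank k M < rk α + n) →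
    ∃ S : Set (Subgroup (LinearMap.GeneralLinearGroup k M)), S.Finite ∧
      (∀ X ∈ S, X ≤ G ∧ ∀ g ∈ G, conjBy X g = X) ∧ (∀ X ∈ S, ∀ Y ∈ S, X ≠ Y → ⁅X, Y⁆ = ⊥) ∧ (⨆ X ∈ S, X) = G ∧
      (∀ X ∈ S, IsQuasisimple X ∧ Subgroup.closure (quadraticElements G ∩ X) = X) ∧
      ∀ σ ∈ quadraticElements G, ∃ X ∈ S, σ ∈ X := by
  have triv : ∀ G : Subgroup (LinearMap.GeneralLinearGroup k M), Subgroup.closure (quadraticElements G) = G →
      (∀ α, QE G α → α = 0) →
      ∃ S : Set (Subgroup (LinearMap.GeneralLinearGroup k M)), S.Finite ∧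
      (∀ X ∈ S, X ≤ G ∧ ∀ g ∈ G, conjBy X g = X) ∧ (∀ X ∈ S, ∀ Y ∈ S, X ≠ Y → ⁅X, Y⁆ = ⊥) ∧ (⨆ X ∈ S, X) = G ∧
      (∀ X ∈ S, IsQuasisimple X ∧ Subgroup.closure (quadraticElements G ∩ X) = X) ∧
      ∀ σ ∈ quadraticElements G, ∃ X ∈ S, σ ∈ X := by
    intro G hgen h
    have he : quadraticElements G = ∅ := Set.eq_empty_of_forall_notMem fun σ hσ =>
      (mem_quadraticElements.1 hσ).2 (h _ (mem_quadraticElements.1 hσ).1)
    rw [he, Subgroup.closure_empty] at hgen
    exact ⟨∅, Set.finite_empty, by simp, by simp, by simp [← hgen], by simp, by simp [he]⟩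
  induction n with
  | zero =>
    intro G _ hgen h
    refine triv G hgen fun α hα => by_contra fun h0 => ?_
    have := h α hα h0
    have := Submodule.finrank_le (range α)
    unfold rk at *
    omega
  | succ n ih =>
    intro G hG hgen h
    set L := Subgroup.closure (quadraticElements G ∩
      (Subgroup.centralizer (rootTop G : Set (LinearMap.GeneralLinearGroup k M)) : Set _)) with hL
    have hLG : L ≤ G := (Subgroup.closure_le _).2 fun σ hσ => hσ.1.1
    have hLC : L ≤ Subgroup.centralizer (rootTop G : Set _) := (Subgroup.closure_le _).2 fun σ hσ => hσ.2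
    have hQL : ∀ σ ∈ quadraticElements G, σ ∈ Subgroup.centralizer (rootTop G : Set _) →
        σ ∈ quadraticElements L := by
      intro σ hσ hc
      obtain ⟨h1, h2⟩ := mem_quadraticElements.1 hσ
      refine mem_quadraticElements.2 ⟨⟨h1.sq, fun c => ?_⟩, h2⟩
      by_cases hc0 : c = 0
      · simp [hc0]
      refine ⟨qu _ (smul_sq_zero h1.sq c), Subgroup.subset_closure ⟨mem_quadraticElements.2 ?_, ?_⟩, rfl⟩
      · simpa using ⟨h1.smul c, hc0, h2⟩
      · refine Subgroup.mem_centralizer_iff.2 fun g hg => Units.ext ?_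
        have := congrArg Units.val (Subgroup.mem_centralizer_iff.1 hc g hg)
        simp only [Units.val_mul] at this
        simp [mul_add, add_mul, mul_sub, sub_mul, this]
    have hQG : quadraticElements L ⊆ quadraticElements G := fun σ hσ =>
      mem_quadraticElements.2 ⟨(mem_quadraticElements.1 hσ).1.mono hLG, (mem_quadraticElements.1 hσ).2⟩
    have hsup : rootTop G ⊔ L = G := by
      refine le_antisymm (sup_le rootTop_le hLG) ?_
      conv_lhs => rw [← hgen]
      rw [Subgroup.closure_le]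
      intro σ hσ
      rcases quadraticElements_dichotomy hk hG hgen hσ with ⟨A, hA, h1⟩ | h1
      · exact Subgroup.mem_sup_left (qcomp_le hA h1)
      · exact Subgroup.mem_sup_right (Subgroup.subset_closure ⟨hσ, h1⟩)
    have hnormal : ∀ N ≤ L, (∀ g ∈ L, conjBy N g = N) → ∀ g ∈ G, conjBy N g = N := by
      intro N hN hn g hg
      have : rootTop G ⊔ L ≤ Subgroup.normalizer (N : Set _) := sup_le
        (fun x hx => Subgroup.centralizer_le_normalizer _ (Subgroup.mem_centralizer_iff.2 fun y hy =>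
          (Subgroup.mem_centralizer_iff.1 (hLC (hN hy)) x hx).symm))
        fun x hx => conjBy_eq_self_iff.1 (hn x hx)
      exact conjBy_eq_self_iff.2 (this (hsup.symm ▸ hg))
    obtain ⟨S, s1, s2, s3, s4, s5, s6⟩ := ih L (fun N hN hn => hG N (hN.trans hLG) (hnormal N hN hn))
      (le_antisymm ((Subgroup.closure_le _).2 fun σ hσ => hσ.1)
        ((Subgroup.closure_le _).2 fun σ hσ => Subgroup.subset_closure (hQL σ hσ.1 hσ.2))) (by
      intro α hα h0
      have hnd : ¬ QD G α := fun hd => by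
        obtain ⟨η, hη, hO⟩ := hd.exists_opp hk hG.nu
        exact hO.not_comm hα.sq h0 (qu_comm_iff.1 (Subgroup.mem_centralizer_iff.1 (hLC hα.qu_mem') _
          (hη.le_rootTop (qu_mem_rootGrp hη.qe.self_mem)))).symm
      obtain ⟨β, hβ, hβ0, hlt⟩ : ∃ β, QE G β ∧ β ≠ 0 ∧ rk β < rk α := by
        by_contra hcon
        push Not at hcon
        exact hnd ⟨hα.mono hLG, h0, hcon⟩
      have := h β hβ hβ0
      omega)
    have hcomm : ∀ A ∈ quadraticRootSubgroups G, ∀ Y ∈ S, ⁅qcomp G A, Y⁆ = ⊥ := fun A hA Y hY =>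
      commutator_eq_bot_iff.2 fun x hx y hy => Subgroup.mem_centralizer_iff.1 (hLC ((s2 Y hY).1 hy)) x (qcomp_le hA hx)
    refine ⟨qcomp G '' quadraticRootSubgroups G ∪ S, Set.Finite.union ?_ s1, ?_, ?_, ?_, ?_, fun σ hσ => ?_⟩
    · have := (qcls_finite hk hG.nu).image fun P => (⨆ B ∈ P, B : Subgroup (LinearMap.GeneralLinearGroup k M))
      rwa [Set.image_image] at this
    · rintro X (⟨A, hA, rfl⟩ | hX)
      · exact ⟨(qcomp_le hA).trans rootTop_le, fun g hg => conjBy_qcomp_of_gen hk hG.nu hgen hA hg⟩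
      · exact ⟨(s2 X hX).1.trans hLG, hnormal X (s2 X hX).1 (s2 X hX).2⟩
    · rintro X (⟨A, hA, rfl⟩ | hX) Y (⟨B, hB, rfl⟩ | hY) hne
      · exact qcomp_comm_of_not_mem hk hG.nu hA hB fun h => hne (by rw [qcomp, qcomp, qcls_eq h])
      · exact hcomm A hA Y hY
      · rw [Subgroup.commutator_comm]; exact hcomm B hB X hX
      · exact s3 X hX Y hY hne
    · rw [iSup_union, s4]
      refine Eq.trans ?_ hsup
      congr 1
      refine le_antisymm (iSup₂_le ?_) (iSup₂_le fun A hA =>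
        (le_qcomp (self_mem_qcls A)).trans (le_biSup_self ⟨A, hA, rfl⟩))
      rintro _ ⟨A, hA, rfl⟩
      exact qcomp_le hA
    · rintro X (⟨A, hA, rfl⟩ | hX)
      · refine ⟨qcomp_quasisimple hk hG.nu hA, le_antisymm ((Subgroup.closure_le _).2 fun _ h => h.2)
          (iSup₂_le fun B hB x hx => ?_)⟩
        by_cases hx1 : x = 1
        · rw [hx1]; exact one_mem _
        obtain ⟨β, hβ, rfl⟩ := mem_quadraticRootSubgroups.1 (qcls_subset hA hB)
        exact Subgroup.subset_closure ⟨mem_quadraticElements.2 ⟨rootSp_qe hx, ne_one_iff_sub.1 hx1⟩, le_qcomp hB hx⟩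
      · refine ⟨(s5 X hX).1, le_antisymm ((Subgroup.closure_le _).2 fun _ h => h.2) ?_⟩
        conv_lhs => rw [← (s5 X hX).2]
        exact Subgroup.closure_mono (Set.inter_subset_inter_left _ hQG)
    · rcases quadraticElements_dichotomy hk hG hgen hσ with ⟨A, hA, h1⟩ | h1
      · exact ⟨_, Or.inl ⟨A, hA, rfl⟩, h1⟩
      · obtain ⟨X, hX, h2⟩ := s6 σ (hQL σ hσ h1)
        exact ⟨X, Or.inr hX, h2⟩

end H70
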