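import Cfsg.Agent.H70.Comm

/-! Unipotent subgroups of `GL(M)`: description through the span `uJ H` of the `g - 1`,
nilpotency, products, and the Baer–Suzuki type theorem for families of subgroups. -/

namespace H70

open Cfsg

section group

variable {G : Type*} [Group G]

/-- iterated normalizers inside `U`. -/
def itNorm (U V : Subgroup G) : ℕ → Subgroup G
  | 0 => V
  | n + 1 => Subgroup.normalizer (itNorm U V n : Set G) ⊓ U

theorem itNorm_le {U V : Subgroup G} (h : V ≤ U) (n : ℕ) : itNorm U V n ≤ U := by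
  cases n with
  | zero => exact h
  | succ n => exact inf_le_right

theorem le_itNorm {U V : Subgroup G} (h : V ≤ U) (n : ℕ) : V ≤ itNorm U V n := by
  induction n with
  | zero => exact le_rfl
  | succ n ih => exact le_inf (ih.trans Subgroup.le_normalizer) h

theorem mem_normalizer_of_conj_mem {V : Subgroup G} {a : G} (h1 : ∀ v ∈ V, a * v * a⁻¹ ∈ V)
    (h2 : ∀ v ∈ V, a⁻¹ * v * a ∈ V) : a ∈ Subgroup.normalizer (V : Set G) := by
  rw [Subgroup.mem_normalizer_iff]
  refine fun v => ⟨h1 v, fun hv => ?_⟩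
  have := h2 _ hv
  simpa [mul_assoc] using this

theorem ucs_le_itNorm {U V : Subgroup G} (h : V ≤ U) (n : ℕ) (z : U)
    (hz : z ∈ Subgroup.upperCentralSeries U n) : (z : G) ∈ itNorm U V n := by
  induction n generalizing z with
  | zero =>
    have : z = 1 := Subgroup.mem_bot.1 hz
    rw [this]; exact Subgroup.one_mem _
  | succ n ih =>
    refine ⟨?_, z.2⟩
    have key : ∀ w : U, w ∈ Subgroup.upperCentralSeries U (n + 1) → ∀ v ∈ itNorm U V n,
        (w : G) * v * (w : G)⁻¹ ∈ itNorm U V n := by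
      intro w hw v hv
      have h1 := ih _ (Subgroup.mem_upperCentralSeries_succ_iff.1 hw ⟨v, itNorm_le h n hv⟩)
      have := (itNorm U V n).mul_mem h1 hv
      simpa [mul_assoc, commutatorElement_def] using this
    refine mem_normalizer_of_conj_mem (key z hz) fun v hv => ?_
    simpa using key z⁻¹ (Subgroup.inv_mem _ hz) v hv

theorem exists_normalizing_member {U V : Subgroup G} (hU : Group.IsNilpotent U) (hVU : V ≤ U)
    {W : Set (Subgroup G)} (hW : ∀ A ∈ W, ∀ u ∈ U, conjBy A u ∈ W)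
    (hV : V ≤ ⨆ A ∈ membersIn W V, A) {A : Subgroup G} (hA : A ∈ W) (hAU : A ≤ U) (hAV : ¬ A ≤ V) :
    ∃ B ∈ W, B ≤ U ∧ ¬ B ≤ V ∧ B ≤ Subgroup.normalizer (V : Set G) := by
  classical
  obtain ⟨c, hc⟩ := hU.nilpotent
  have hex : ∃ n, ∃ B ∈ W, B ≤ itNorm U V n ∧ ¬ B ≤ V :=
    ⟨c, A, hA, fun a ha => ucs_le_itNorm hVU c ⟨a, hAU ha⟩ (hc ▸ Subgroup.mem_top _), hAV⟩
  obtain ⟨B, hB, hBn, hBV⟩ := Nat.find_spec hex
  have hmin := fun m => Nat.find_min hex (m := m)
  generalize Nat.find hex = n at hBn hmin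
  cases n with
  | zero => exact absurd hBn hBV
  | succ n =>
    refine ⟨B, hB, hBn.trans inf_le_right, hBV, ?_⟩
    have key : ∀ b ∈ B, ∀ v ∈ V, b * v * b⁻¹ ∈ V := by
      intro b hb v hv
      have hle : conjBy V b ≤ V := by
        refine (conjBy_mono hV b).trans ?_
        rw [conjBy, Subgroup.map_iSup]
        refine iSup_le fun C => ?_
        rw [Subgroup.map_iSup]
        refine iSup_le fun hC => ?_
        by_contra hn
        refine hmin n (Nat.lt_succ_self n) ⟨conjBy C b, hW C hC.1 b (hBn hb).2, fun x hx => ?_, hn⟩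
        rw [mem_conjBy] at hx
        have h1 := le_itNorm hVU n (hC.2 hx)
        have h2 := (Subgroup.mem_normalizer_iff.1 (hBn hb).1 _).1 h1
        simpa [mul_assoc] using h2
      exact hle (conj_mem_conjBy b hv)
    intro b hb
    exact mem_normalizer_of_conj_mem (key b hb) fun v hv => by simpa using key b⁻¹ (B.inv_mem hb) v hv

end group

variable {k : Type*} [Field k] {M : Type*} [AddCommGroup M] [Module k M]

/-- span of the `g - 1`, `g ∈ H`. -/
def uJ (H : Subgroup (LinearMap.GeneralLinearGroup k M)) : Submodule k (Module.End k M) :=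
  Submodule.span k {x | ∃ g ∈ H, x = (g : Module.End k M) - 1}

variable {H U V : Subgroup (LinearMap.GeneralLinearGroup k M)}

theorem sub_one_mem_uJ {g : LinearMap.GeneralLinearGroup k M} (hg : g ∈ H) :
    (g : Module.End k M) - 1 ∈ uJ H := Submodule.subset_span ⟨g, hg, rfl⟩

theorem uJ_le {J : Submodule k (Module.End k M)} :
    uJ H ≤ J ↔ ∀ g ∈ H, (g : Module.End k M) - 1 ∈ J := by
  rw [uJ, Submodule.span_le]
  exact ⟨fun h g hg => h ⟨g, hg, rfl⟩, by rintro h _ ⟨g, hg, rfl⟩; exact h g hg⟩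

theorem uJ_mono (h : H ≤ U) : uJ H ≤ uJ U := uJ_le.2 fun _ hg => sub_one_mem_uJ (h hg)

theorem uJ_mul_le (H : Subgroup (LinearMap.GeneralLinearGroup k M)) : uJ H * uJ H ≤ uJ H := by
  rw [uJ, Submodule.span_mul_span, Submodule.span_le]
  rintro _ ⟨_, ⟨g, hg, rfl⟩, _, ⟨h, hh, rfl⟩, rfl⟩
  have e : ((g : Module.End k M) - 1) * ((h : Module.End k M) - 1) =
      (((g * h : LinearMap.GeneralLinearGroup k M) : Module.End k M) - 1) - ((g : Module.End k M) - 1) -
        ((h : Module.End k M) - 1) := by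
    rw [Units.val_mul]; noncomm_ring
  simp only [e]
  exact Submodule.sub_mem _ (Submodule.sub_mem _ (sub_one_mem_uJ (H.mul_mem hg hh)) (sub_one_mem_uJ hg))
    (sub_one_mem_uJ hh)

theorem isUnipotentOn_iff_list : IsUnipotentOn H ↔ ∃ n : ℕ,
    ∀ l : List (LinearMap.GeneralLinearGroup k M), (∀ g ∈ l, g ∈ H) → l.length = n →
      (l.map fun g : LinearMap.GeneralLinearGroup k M => (g : Module.End k M) - 1).prod = 0 := by
  refine exists_congr fun n => forall_congr' fun l => forall_congr' fun _ => forall_congr' fun _ => ?_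
  have : (do
        let a ← l
        pure (a : M →ₗ[k] M)) = l.map fun a : LinearMap.GeneralLinearGroup k M => (a : M →ₗ[k] M) := by
    simp [List.map_eq_flatMap]
  rw [this, List.map_map]
  rfl

theorem isUnipotentOn_iff : IsUnipotentOn H ↔ ∃ n : ℕ, uJ H ^ n = ⊥ := by
  rw [isUnipotentOn_iff_list]
  refine exists_congr fun n => ?_
  rw [uJ, Submodule.span_pow, Submodule.span_eq_bot]
  constructor
  · intro h x hx
    obtain ⟨f, rfl⟩ := Set.mem_pow.1 hx
    choose g hg using fun i => (f i).2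
    have := h (List.ofFn g) (by
      intro a ha
      obtain ⟨i, rfl⟩ := List.mem_ofFn.1 ha
      exact (hg i).1) (by simp)
    rw [List.map_ofFn] at this
    rw [← this]
    congr 2
    funext i
    exact (hg i).2
  · intro h l hl hn
    subst hn
    refine h _ (Set.mem_pow.2 ⟨fun i => ⟨_, l.get i, hl _ (List.get_mem l i), rfl⟩, ?_⟩)
    congr 1
    conv_rhs => rw [← List.ofFn_get l]
    rw [List.map_ofFn]
    rfl

theorem uni_of_uJ_le (hU : IsUnipotentOn U) (h : uJ H ≤ uJ U) : IsUnipotentOn H := by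
  obtain ⟨n, hn⟩ := isUnipotentOn_iff.1 hU
  exact isUnipotentOn_iff.2 ⟨n, eq_bot_iff.2 (hn ▸ pow_le_pow_left' h n)⟩

theorem uni_mono (hU : IsUnipotentOn U) (h : H ≤ U) : IsUnipotentOn H := uni_of_uJ_le hU (uJ_mono h)

theorem uni_bot : IsUnipotentOn (⊥ : Subgroup (LinearMap.GeneralLinearGroup k M)) := by
  refine isUnipotentOn_iff.2 ⟨1, ?_⟩
  rw [pow_one, eq_bot_iff, uJ_le]
  intro g hg
  rw [Subgroup.mem_bot.1 hg]; simp

/-- a subgroup generated by subgroups lying in `1 + J`, `J` multiplicatively closed, lies in `1 + J`. -/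
theorem uJ_iSup_le {ι : Sort*} {A : ι → Subgroup (LinearMap.GeneralLinearGroup k M)}
    {J : Submodule k (Module.End k M)} (hJ : J * J ≤ J) (h : ∀ i, uJ (A i) ≤ J) : uJ (⨆ i, A i) ≤ J := by
  rw [uJ_le]
  intro g hg
  refine Subgroup.iSup_induction A (C := fun g => (g : Module.End k M) - 1 ∈ J) hg
    (fun i x hx => h i (sub_one_mem_uJ hx)) (by simp) fun x y hx hy => ?_
  have e : ((x * y : LinearMap.GeneralLinearGroup k M) : Module.End k M) - 1 =
      ((x : Module.End k M) - 1) * ((y : Module.End k M) - 1) + ((x : Module.End k M) - 1) +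
        ((y : Module.End k M) - 1) := by
    rw [Units.val_mul]; noncomm_ring
  rw [e]
  exact J.add_mem (J.add_mem (hJ (Submodule.mul_mem_mul hx hy)) hx) hy

theorem uJ_sup_le {A B : Subgroup (LinearMap.GeneralLinearGroup k M)}
    {J : Submodule k (Module.End k M)} (hJ : J * J ≤ J) (hA : uJ A ≤ J) (hB : uJ B ≤ J) :
    uJ (A ⊔ B) ≤ J := by
  rw [sup_eq_iSup]
  exact uJ_iSup_le hJ fun b => by cases b <;> assumption

theorem uJ_closure_le {s : Set (LinearMap.GeneralLinearGroup k M)}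
    {J : Submodule k (Module.End k M)} (hJ : J * J ≤ J)
    (h : ∀ g ∈ s, (g : Module.End k M) - 1 ∈ J ∧
      ((g⁻¹ : LinearMap.GeneralLinearGroup k M) : Module.End k M) - 1 ∈ J) :
    uJ (Subgroup.closure s) ≤ J := by
  rw [uJ_le]
  intro g hg
  refine Subgroup.closure_induction'' (p := fun (g : LinearMap.GeneralLinearGroup k M) _ => (g : Module.End k M) - 1 ∈ J)
    (fun x hx => (h x hx).1) (fun x hx => (h x hx).2) (by simp) (fun x y _ _ hx hy => ?_) hg
  have e : ((x * y : LinearMap.GeneralLinearGroup k M) : Module.End k M) - 1 =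
      ((x : Module.End k M) - 1) * ((y : Module.End k M) - 1) + ((x : Module.End k M) - 1) +
        ((y : Module.End k M) - 1) := by
    rw [Units.val_mul]; noncomm_ring
  rw [e]
  exact J.add_mem (J.add_mem (hJ (Submodule.mul_mem_mul hx hy)) hx) hy

theorem pow_succ_mul_le {J : Submodule k (Module.End k M)} (hJ : J * J ≤ J) (n : ℕ) :
    J ^ (n + 1) * J ≤ J ^ (n + 1) := by
  rw [pow_succ, mul_assoc]; exact mul_le_mul_right hJ _

theorem mul_pow_succ_le {J : Submodule k (Module.End k M)} (hJ : J * J ≤ J) (n : ℕ) :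
    J * J ^ (n + 1) ≤ J ^ (n + 1) := by
  rw [pow_succ', ← mul_assoc]; exact mul_le_mul_left hJ _

theorem mul_unit_mem_pow {x : Module.End k M} {n : ℕ} (hx : x ∈ uJ U ^ (n + 1))
    {u : LinearMap.GeneralLinearGroup k M} (hu : u ∈ U) : x * u ∈ uJ U ^ (n + 1) := by
  have e : x * u = x * ((u : Module.End k M) - 1) + x := by noncomm_ring
  rw [e]
  exact Submodule.add_mem _ (pow_succ_mul_le (uJ_mul_le U) n (Submodule.mul_mem_mul hx (sub_one_mem_uJ hu))) hx

/-- the filtration of a linear group by the powers of `uJ`. -/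
def uF (U : Subgroup (LinearMap.GeneralLinearGroup k M)) (n : ℕ) : Subgroup U where
  carrier := {u | ((u : LinearMap.GeneralLinearGroup k M) : Module.End k M) - 1 ∈ uJ U ^ (n + 1)}
  one_mem' := by simp
  mul_mem' := by
    intro x y hx hy
    have e : (((x * y : U) : LinearMap.GeneralLinearGroup k M) : Module.End k M) - 1 =
        (((x : LinearMap.GeneralLinearGroup k M) : Module.End k M) - 1) * (y : LinearMap.GeneralLinearGroup k M) +
          (((y : LinearMap.GeneralLinearGroup k M) : Module.End k M) - 1) := by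
      rw [Subgroup.coe_mul, Units.val_mul]; noncomm_ring
    simp only [Set.mem_ofPred_eq, e]
    exact Submodule.add_mem _ (mul_unit_mem_pow hx y.2) hy
  inv_mem' := by
    intro x hx
    have e : (((x⁻¹ : U) : LinearMap.GeneralLinearGroup k M) : Module.End k M) - 1 =
        -((((x : LinearMap.GeneralLinearGroup k M) : Module.End k M) - 1) *
          ((x⁻¹ : U) : LinearMap.GeneralLinearGroup k M)) := by
      rw [sub_mul, Subgroup.coe_inv, Units.mul_inv]; noncomm_ring
    simp only [Set.mem_ofPred_eq, e]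
    exact Submodule.neg_mem _ (mul_unit_mem_pow hx (x⁻¹).2)

theorem lcs_le_uF (U : Subgroup (LinearMap.GeneralLinearGroup k M)) (n : ℕ) :
    Subgroup.lowerCentralSeries (⊤ : Subgroup U) n ≤ uF U n := by
  induction n with
  | zero => intro u _; simpa [uF] using sub_one_mem_uJ u.2
  | succ n ih =>
    rw [Subgroup.lowerCentralSeries_succ, Subgroup.commutator_le]
    intro a ha b _
    have ha' : ((a : LinearMap.GeneralLinearGroup k M) : Module.End k M) - 1 ∈ uJ U ^ (n + 1) := ih ha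
    have hb' := sub_one_mem_uJ b.2
    change ((((a * b * a⁻¹ * b⁻¹ : U) : LinearMap.GeneralLinearGroup k M) : Module.End k M)) - 1 ∈ uJ U ^ (n + 1 + 1)
    generalize hA : ((a : LinearMap.GeneralLinearGroup k M) : Module.End k M) = A at ha'
    generalize hB : ((b : LinearMap.GeneralLinearGroup k M) : Module.End k M) = B at hb'
    have e : ((((a * b * a⁻¹ * b⁻¹ : U) : LinearMap.GeneralLinearGroup k M) : Module.End k M)) - 1 =
        ((A - 1) * (B - 1) - (B - 1) * (A - 1)) * ((a⁻¹ * b⁻¹ : U) : LinearMap.GeneralLinearGroup k M) := by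
      have e1 : (A - 1) * (B - 1) - (B - 1) * (A - 1) = A * B - B * A := by noncomm_ring
      have e2 : (1 : Module.End k M) = B * A * ((a⁻¹ * b⁻¹ : U) : LinearMap.GeneralLinearGroup k M) := by
        rw [← hA, ← hB, ← Units.val_mul, ← Units.val_mul]; simp
      rw [e1, sub_mul, ← e2, ← hA, ← hB, ← Units.val_mul, ← Units.val_mul]
      simp [mul_assoc]
    rw [e]
    refine mul_unit_mem_pow (Submodule.sub_mem _ ?_ ?_) (a⁻¹ * b⁻¹).2
    · rw [pow_succ]; exact Submodule.mul_mem_mul ha' hb'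
    · rw [pow_succ']; exact Submodule.mul_mem_mul hb' ha'

theorem uni_isNilpotent (hU : IsUnipotentOn U) : Group.IsNilpotent U := by
  obtain ⟨n, hn⟩ := isUnipotentOn_iff.1 hU
  rw [Subgroup.nilpotent_iff_lowerCentralSeries]
  refine ⟨n, eq_bot_iff.2 fun u hu => ?_⟩
  have h : ((u : LinearMap.GeneralLinearGroup k M) : Module.End k M) - 1 ∈ uJ U ^ (n + 1) := lcs_le_uF U n hu
  rw [pow_succ, hn, Submodule.bot_mul, Submodule.mem_bot, sub_eq_zero] at h
  exact Subgroup.mem_bot.2 (Subtype.ext (Units.ext h))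

/-- product of two unipotent groups, one normalizing the other. -/
theorem uni_sup_of_normalizes {B : Subgroup (LinearMap.GeneralLinearGroup k M)} (hV : IsUnipotentOn V)
    (hB : IsUnipotentOn B) (hn : B ≤ Subgroup.normalizer (V : Set _)) : IsUnipotentOn (V ⊔ B) := by
  obtain ⟨n, hn1⟩ := isUnipotentOn_iff.1 hV
  obtain ⟨m, hm⟩ := isUnipotentOn_iff.1 hB
  set I := uJ V
  set J := uJ B
  set P : Submodule k (Module.End k M) := 1 ⊔ J
  have hJJ : J * J ≤ J := uJ_mul_le B
  have hII : I * I ≤ I := uJ_mul_le V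
  have hPP : P * P ≤ P := by
    simp only [P, Submodule.mul_sup, Submodule.sup_mul, one_mul, mul_one]
    exact sup_le le_rfl (sup_le le_sup_right (hJJ.trans le_sup_right))
  have h1P : (1 : Submodule k (Module.End k M)) ≤ P := le_sup_left
  have hJP : J ≤ P := le_sup_right
  have hPI : P * I ≤ I * P := by
    simp only [P, Submodule.sup_mul, one_mul]
    refine sup_le (by simpa using mul_le_mul_right h1P I) ?_
    simp only [I, J, uJ]
    rw [Submodule.span_mul_span, Submodule.span_le]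
    rintro _ ⟨_, ⟨b, hb, rfl⟩, _, ⟨g, hg, rfl⟩, rfl⟩
    have hg' : b * g * b⁻¹ ∈ V := (Subgroup.mem_normalizer_iff.1 (hn hb) g).1 hg
    have e : ((b : Module.End k M) - 1) * ((g : Module.End k M) - 1) =
        (((b * g * b⁻¹ : LinearMap.GeneralLinearGroup k M) : Module.End k M) - 1) * (1 + ((b : Module.End k M) - 1))
          - ((g : Module.End k M) - 1) * 1 := by
      rw [add_sub_cancel, sub_mul _ 1 (b : Module.End k M), ← Units.val_mul, inv_mul_cancel_right, Units.val_mul]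
      noncomm_ring
    simp only [e]
    have o1 : (1 : Module.End k M) ∈ P := h1P (Submodule.one_le.1 le_rfl)
    exact Submodule.sub_mem _ (Submodule.mul_mem_mul (sub_one_mem_uJ hg')
      (P.add_mem o1 (hJP (sub_one_mem_uJ hb)))) (Submodule.mul_mem_mul (sub_one_mem_uJ hg) o1)
  set Q := I * P
  have hPQ : P * Q ≤ Q := by
    calc P * (I * P) = P * I * P := (mul_assoc _ _ _).symm
      _ ≤ I * P * P := mul_le_mul_left hPI _
      _ = I * (P * P) := mul_assoc _ _ _
      _ ≤ I * P := mul_le_mul_right hPP _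
  have hQP : Q * P ≤ Q := by
    calc I * P * P = I * (P * P) := mul_assoc _ _ _
      _ ≤ I * P := mul_le_mul_right hPP _
  have hQQ : Q * Q ≤ I * Q := by
    calc I * P * Q = I * (P * Q) := mul_assoc _ _ _
      _ ≤ I * Q := mul_le_mul_right hPQ _
  have hIQ : I * Q ≤ Q := by
    calc I * (I * P) = I * I * P := (mul_assoc _ _ _).symm
      _ ≤ I * P := mul_le_mul_left hII _
  have hQpow : ∀ j, Q ^ (j + 1) ≤ I ^ j * Q := by
    intro j
    induction j with
    | zero => simp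
    | succ j ih =>
      calc Q ^ (j + 1 + 1) = Q ^ (j + 1) * Q := pow_succ _ _
        _ ≤ I ^ j * Q * Q := mul_le_mul_left ih _
        _ = I ^ j * (Q * Q) := mul_assoc _ _ _
        _ ≤ I ^ j * (I * Q) := mul_le_mul_right hQQ _
        _ = I ^ (j + 1) * Q := by rw [← mul_assoc, ← pow_succ]
  have hJpow : ∀ j, J ^ j ≤ P := by
    intro j
    induction j with
    | zero => simpa using h1P
    | succ j ih => rw [pow_succ]; exact (mul_le_mul' ih hJP).trans hPP
  have hT : ∀ j, (J ⊔ Q) ^ j ≤ J ^ j ⊔ Q := by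
    intro j
    induction j with
    | zero => simp
    | succ j ih =>
      rw [pow_succ]
      refine (mul_le_mul_left ih _).trans ?_
      simp only [Submodule.mul_sup, Submodule.sup_mul]
      refine sup_le (sup_le ?_ ?_) (sup_le ?_ ?_)
      · rw [← pow_succ]; exact le_sup_left
      · exact ((mul_le_mul_right hJP _).trans hQP).trans le_sup_right
      · exact ((mul_le_mul_left (hJpow j) _).trans hPQ).trans le_sup_right
      · exact (hQQ.trans hIQ).trans le_sup_right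
  have hIQ' : I ≤ Q := by simpa using mul_le_mul_right h1P I
  have hle : uJ (V ⊔ B) ≤ J ⊔ Q := by
    refine uJ_sup_le ?_ (hIQ'.trans le_sup_right) le_sup_left
    simp only [Submodule.mul_sup, Submodule.sup_mul]
    refine sup_le (sup_le ?_ ?_) (sup_le ?_ ?_)
    · exact hJJ.trans le_sup_left
    · exact ((mul_le_mul_right hJP _).trans hQP).trans le_sup_right
    · exact ((mul_le_mul_left hJP _).trans hPQ).trans le_sup_right
    · exact (hQQ.trans hIQ).trans le_sup_right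
  refine isUnipotentOn_iff.2 ⟨m * (n + 1), eq_bot_iff.2 ?_⟩
  rw [pow_mul]
  have h1 : uJ (V ⊔ B) ^ m ≤ Q := by
    refine (pow_le_pow_left' hle m).trans ((hT m).trans ?_)
    rw [hm, bot_sup_eq]
  refine (pow_le_pow_left' h1 _).trans ((hQpow n).trans ?_)
  rw [hn1, Submodule.bot_mul]

theorem uni_family_aux [FiniteDimensional k M] {G : Subgroup (LinearMap.GeneralLinearGroup k M)}
    {W : Set (Subgroup (LinearMap.GeneralLinearGroup k M))} (hWG : ∀ A ∈ W, A ≤ G)
    (hWW : ∀ A ∈ W, ∀ B ∈ W, IsUnipotentOn (A ⊔ B)) (hWconj : ∀ A ∈ W, ∀ g ∈ G, conjBy A g ∈ W) (n : ℕ) :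
    ∀ V : Subgroup (LinearMap.GeneralLinearGroup k M), IsUnipotentOn V → V ≤ (⨆ A ∈ membersIn W V, A) →
      Module.finrank k (Module.End k M) - Module.finrank k (uJ V) = n →
      IsUnipotentOn (⨆ A ∈ {A | A ∈ W ∧ IsUnipotentOn (V ⊔ A)}, A) := by
  induction n using Nat.strong_induction_on with
  | _ n ih =>
  intro V₀ hV₀ hgen₀ hn
  -- close `V₀`
  set V : Subgroup (LinearMap.GeneralLinearGroup k M) := ⨆ A ∈ {A | A ∈ W ∧ uJ A ≤ uJ V₀}, A with hVdef
  have hJV : uJ V ≤ uJ V₀ := uJ_iSup_le (uJ_mul_le _) fun A => uJ_iSup_le (uJ_mul_le _) fun hA => hA.2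
  have hV₀V : V₀ ≤ V := hgen₀.trans (iSup₂_le fun A hA =>
    le_iSup₂_of_le (f := fun A (_ : A ∈ {A | A ∈ W ∧ uJ A ≤ uJ V₀}) => A) A ⟨hA.1, uJ_mono hA.2⟩ le_rfl)
  have hJeq : uJ V = uJ V₀ := le_antisymm hJV (uJ_mono hV₀V)
  have hV : IsUnipotentOn V := uni_of_uJ_le hV₀ hJV
  have hclosed : ∀ A ∈ W, uJ A ≤ uJ V → A ≤ V := fun A hA h =>
    le_iSup₂_of_le (f := fun A (_ : A ∈ {A | A ∈ W ∧ uJ A ≤ uJ V₀}) => A) A ⟨hA, h.trans hJV⟩ le_rfl
  have hgen : V ≤ ⨆ A ∈ membersIn W V, A := iSup₂_le fun A hA =>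
    le_iSup₂_of_le (f := fun A (_ : A ∈ membersIn W V) => A) A ⟨hA.1, hclosed A hA.1 (hA.2.trans hJeq.ge)⟩ le_rfl
  have hVG : V ≤ G := iSup₂_le fun A hA => hWG A hA.1
  have hup : ∀ A, IsUnipotentOn (V₀ ⊔ A) → IsUnipotentOn (V ⊔ A) := fun A h =>
    uni_of_uJ_le h (uJ_sup_le (uJ_mul_le _) (hJV.trans (uJ_mono le_sup_left)) (uJ_mono le_sup_right))
  refine uni_mono (U := ⨆ A ∈ {A | A ∈ W ∧ IsUnipotentOn (V ⊔ A)}, A) ?_ (iSup₂_le fun A hA =>
    le_iSup₂_of_le (f := fun A (_ : A ∈ {A | A ∈ W ∧ IsUnipotentOn (V ⊔ A)}) => A) A ⟨hA.1, hup A hA.2⟩ le_rfl)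
  rw [← hJeq] at hn
  clear hup hJeq hV₀V hJV hgen₀ hV₀
  clear_value V
  -- induction hypothesis for `V ⊔ A`
  have step : ∀ A ∈ W, ¬ A ≤ V → IsUnipotentOn (V ⊔ A) →
      IsUnipotentOn (⨆ B ∈ {B | B ∈ W ∧ IsUnipotentOn (V ⊔ A ⊔ B)}, B) := by
    intro A hA hAV hu
    refine ih _ ?_ (V ⊔ A) hu ?_ rfl
    · have hlt : uJ V < uJ (V ⊔ A) := lt_of_le_of_ne (uJ_mono le_sup_left) fun e =>
        hAV (hclosed A hA (e ▸ uJ_mono le_sup_right))
      have h1 := Submodule.finrank_lt_finrank_of_lt hlt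
      have h2 := Submodule.finrank_le (uJ (V ⊔ A))
      omega
    · refine sup_le (hgen.trans (iSup₂_le fun B hB => ?_)) ?_
      · exact le_iSup₂_of_le (f := fun B (_ : B ∈ membersIn W (V ⊔ A)) => B) B
          ⟨hB.1, hB.2.trans le_sup_left⟩ le_rfl
      · exact le_iSup₂_of_le (f := fun B (_ : B ∈ membersIn W (V ⊔ A)) => B) A ⟨hA, le_sup_right⟩ le_rfl
  have norm : ∀ A ∈ W, ¬ A ≤ V → IsUnipotentOn (V ⊔ A) →
      ∃ B ∈ W, B ≤ V ⊔ A ∧ ¬ B ≤ V ∧ B ≤ Subgroup.normalizer (V : Set _) := fun A hA hAV hu =>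
    exists_normalizing_member (uni_isNilpotent hu) le_sup_left
      (fun B hB u hu => hWconj B hB u (sup_le hVG (hWG A hA) hu)) hgen hA le_sup_right hAV
  by_cases hall : ∀ A ∈ W, IsUnipotentOn (V ⊔ A) → A ≤ V
  · exact uni_mono hV (iSup₂_le fun A hA => hall A hA.1 hA.2)
  push Not at hall
  obtain ⟨A', hA', hu', hAV'⟩ := hall
  obtain ⟨A₀, hA₀, hA₀le, hA₀V, hA₀n⟩ := norm A' hA' hAV' hu'
  have hu₀ : IsUnipotentOn (V ⊔ A₀) := uni_mono hu' (sup_le le_sup_left hA₀le)
  refine uni_mono (step A₀ hA₀ hA₀V hu₀) (iSup₂_le fun A hA =>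
    le_iSup₂_of_le (f := fun B (_ : B ∈ {B | B ∈ W ∧ IsUnipotentOn (V ⊔ A₀ ⊔ B)}) => B) A ⟨hA.1, ?_⟩ le_rfl)
  by_cases hAV : A ≤ V
  · exact uni_mono hu₀ (sup_le le_rfl (hAV.trans le_sup_left))
  obtain ⟨A₁, hA₁, hA₁le, hA₁V, hA₁n⟩ := norm A hA.1 hAV hA.2
  have hu₁ : IsUnipotentOn (V ⊔ A₁) := uni_mono hA.2 (sup_le le_sup_left hA₁le)
  have hle : ∀ B ∈ W, IsUnipotentOn (V ⊔ A₁ ⊔ B) →
      B ≤ ⨆ B ∈ {B | B ∈ W ∧ IsUnipotentOn (V ⊔ A₁ ⊔ B)}, B := fun B hB h =>
    le_iSup₂_of_le (f := fun B (_ : B ∈ {B | B ∈ W ∧ IsUnipotentOn (V ⊔ A₁ ⊔ B)}) => B) B ⟨hB, h⟩ le_rfl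
  refine uni_mono (step A₁ hA₁ hA₁V hu₁) (sup_le (sup_le ?_ ?_) ?_)
  · exact hgen.trans (iSup₂_le fun B hB => hle B hB.1 (uni_mono hu₁ (sup_le le_rfl (hB.2.trans le_sup_left))))
  · refine hle A₀ hA₀ ?_
    rw [sup_assoc]
    exact uni_sup_of_normalizes hV (hWW A₁ hA₁ A₀ hA₀) (sup_le hA₁n hA₀n)
  · exact hle A hA.1 (uni_mono hA.2 (sup_le (sup_le le_sup_left hA₁le) le_sup_right))

/-- A conjugation invariant family of subgroups, any two of which generate a unipotent group, generates a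
unipotent group. -/
theorem uni_family [FiniteDimensional k M] {G : Subgroup (LinearMap.GeneralLinearGroup k M)}
    {W : Set (Subgroup (LinearMap.GeneralLinearGroup k M))} (hWG : ∀ A ∈ W, A ≤ G)
    (hWW : ∀ A ∈ W, ∀ B ∈ W, IsUnipotentOn (A ⊔ B)) (hWconj : ∀ A ∈ W, ∀ g ∈ G, conjBy A g ∈ W) :
    IsUnipotentOn (⨆ A ∈ W, A) := by
  refine uni_mono (uni_family_aux hWG hWW hWconj _ ⊥ uni_bot bot_le rfl) (iSup₂_le fun A hA => ?_)
  exact le_iSup₂_of_le (f := fun B (_ : B ∈ {B | B ∈ W ∧ IsUnipotentOn (⊥ ⊔ B)}) => B) A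
    ⟨hA, by simpa using hWW A hA A hA⟩ le_rfl

theorem conjBy_biSup {G : Type*} [Group G] {W : Set (Subgroup G)} {g : G}
    (h1 : ∀ A ∈ W, conjBy A g ∈ W) (h2 : ∀ A ∈ W, conjBy A g⁻¹ ∈ W) :
    conjBy (⨆ A ∈ W, A) g = ⨆ A ∈ W, A := by
  have key : ∀ g : G, (∀ A ∈ W, conjBy A g ∈ W) → conjBy (⨆ A ∈ W, A) g ≤ ⨆ A ∈ W, A := by
    intro g h
    rw [conjBy, Subgroup.map_iSup]
    refine iSup_le fun C => ?_
    rw [Subgroup.map_iSup]
    exact iSup_le fun hC => le_iSup₂_of_le (f := fun A (_ : A ∈ W) => A) _ (h C hC) le_rfl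
  refine le_antisymm (key g h1) ?_
  have := conjBy_mono (key g⁻¹ h2) g
  rwa [conjBy_cancel_inv] at this

/-- a unipotent group has a non-zero fixed vector. -/
theorem uni_exists_fixed (hU : IsUnipotentOn U) {W : Submodule k M} (hW : W ≠ ⊥)
    (hinv : ∀ g ∈ U, ∀ w ∈ W, (g : Module.End k M) w ∈ W) :
    ∃ w ∈ W, w ≠ 0 ∧ ∀ g ∈ U, (g : Module.End k M) w = w := by
  by_contra hcon
  push Not at hcon
  obtain ⟨n, hn⟩ := isUnipotentOn_iff_list.1 hU
  have key : ∀ j : ℕ, ∃ l : List (LinearMap.GeneralLinearGroup k M), (∀ g ∈ l, g ∈ U) ∧ l.length = j ∧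
      ∃ w ∈ W, (l.map fun g : LinearMap.GeneralLinearGroup k M => (g : Module.End k M) - 1).prod w ≠ 0 ∧
        (l.map fun g : LinearMap.GeneralLinearGroup k M => (g : Module.End k M) - 1).prod w ∈ W := by
    intro j
    induction j with
    | zero =>
      obtain ⟨w, hw, hw0⟩ := Submodule.exists_mem_ne_zero_of_ne_bot hW
      exact ⟨[], by simp, rfl, w, hw, by simpa using hw0, by simpa using hw⟩
    | succ j ih =>
      obtain ⟨l, hl, hlen, w, hw, h0, h1⟩ := ih
      obtain ⟨g, hg, hne⟩ := hcon _ h1 h0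
      refine ⟨g :: l, by simpa [hg] using hl, by simp [hlen], w, hw, ?_, ?_⟩
      · simpa [sub_eq_zero] using hne
      · simpa using W.sub_mem (hinv g hg _ h1) h1
  obtain ⟨l, hl, hlen, w, -, h0, -⟩ := key n
  exact h0 (by rw [hn l hl hlen]; rfl)

end H70
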