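import Cfsg.Agent.H70.MatUnit
import Cfsg.Agent.H70.Unip

/-! Two square zero endomorphisms `α, β` and the group generated by `1 + kα`, `1 + kβ`. -/

open Matrix MatrixGroups

namespace H70

open Cfsg

variable {k : Type*} [Field k] {M : Type*} [AddCommGroup M] [Module k M]

/-- the image of a linear group in the endomorphism ring -/
def gS (G : Subgroup (LinearMap.GeneralLinearGroup k M)) : Submonoid (Module.End k M) :=
  G.toSubmonoid.map (Units.coeHom (Module.End k M))

theorem mem_gS {G : Subgroup (LinearMap.GeneralLinearGroup k M)} {x : Module.End k M} :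
    x ∈ gS G ↔ ∃ g ∈ G, (g : Module.End k M) = x := Iff.rfl

theorem coe_mem_gS {G : Subgroup (LinearMap.GeneralLinearGroup k M)} {g : LinearMap.GeneralLinearGroup k M} :
    (g : Module.End k M) ∈ gS G ↔ g ∈ G :=
  ⟨fun ⟨_, h, e⟩ => Units.ext e ▸ h, fun h => ⟨g, h, rfl⟩⟩

theorem gS_mono {G H : Subgroup (LinearMap.GeneralLinearGroup k M)} (h : G ≤ H) : gS G ≤ gS H :=
  fun _ ⟨g, hg, e⟩ => ⟨g, h hg, e⟩

/-- the unit `1 + α` for `α² = 0` -/
def qu (α : Module.End k M) (h : α * α = 0) : LinearMap.GeneralLinearGroup k M :=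
  ⟨1 + α, 1 - α, by rw [add_mul, mul_sub, mul_sub, h]; simp, by rw [sub_mul, mul_add, mul_add, h]; simp⟩

@[simp] theorem qu_val (α : Module.End k M) (h : α * α = 0) : (qu α h : Module.End k M) = 1 + α := rfl
@[simp] theorem qu_inv_val (α : Module.End k M) (h : α * α = 0) :
    (((qu α h)⁻¹ : LinearMap.GeneralLinearGroup k M) : Module.End k M) = 1 - α := rfl

theorem inv_val_of_sq_zero {g : LinearMap.GeneralLinearGroup k M} {α : Module.End k M} (h : α * α = 0)
    (e : (g : Module.End k M) = 1 + α) :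
    ((g⁻¹ : LinearMap.GeneralLinearGroup k M) : Module.End k M) = 1 - α := by
  rw [show g = qu α h from Units.ext e]; rfl

theorem smul_sq_zero {α : Module.End k M} (h : α * α = 0) (c : k) : (c • α) * (c • α) = 0 := by
  simp [h]

/-- the family `1 + kα` -/
def fam (α : Module.End k M) : Set (LinearMap.GeneralLinearGroup k M) :=
  {g | ∃ c : k, (g : Module.End k M) = 1 + c • α}

theorem scalarFamily_eq (σ : LinearMap.GeneralLinearGroup k M) :
    scalarFamily σ = fam ((σ : Module.End k M) - 1) := rfl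

theorem qu_mem_fam {α : Module.End k M} (h : α * α = 0) (c : k) : qu (c • α) (smul_sq_zero h c) ∈ fam α :=
  ⟨c, rfl⟩

theorem uJ_closure_pow {S : Submodule k (Module.End k M)} {N : ℕ} (hS : S ^ N = ⊥)
    {s : Set (LinearMap.GeneralLinearGroup k M)}
    (h : ∀ g ∈ s, (g : Module.End k M) - 1 ∈ S ∧
      ((g⁻¹ : LinearMap.GeneralLinearGroup k M) : Module.End k M) - 1 ∈ S) :
    uJ (Subgroup.closure s) ^ N = ⊥ := by
  have key : ∀ m n : ℕ, (⨆ i, S ^ (i + m)) * (⨆ i, S ^ (i + n)) ≤ ⨆ i, S ^ (i + (m + n)) := by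
    intro m n
    rw [Submodule.iSup_mul]
    refine iSup_le fun i => ?_
    rw [Submodule.mul_iSup]
    refine iSup_le fun j => ?_
    rw [← pow_add]
    exact le_iSup_of_le (i + j) (le_of_eq (by congr 1; ring))
  have h1 : S ≤ ⨆ i, S ^ (i + 1) := le_iSup_of_le 0 (by simp)
  have hJ : uJ (Subgroup.closure s) ≤ ⨆ i, S ^ (i + 1) := by
    refine uJ_closure_le ((key 1 1).trans (iSup_le fun i => ?_)) fun g hg => ⟨h1 (h g hg).1, h1 (h g hg).2⟩
    exact le_iSup_of_le (i + 1) le_rfl
  have hpow : ∀ n, (⨆ i, S ^ (i + 1)) ^ n ≤ ⨆ i, S ^ (i + n) := by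
    intro n
    induction n with
    | zero => exact le_iSup_of_le 0 (by simp)
    | succ n ih => rw [pow_succ]; exact (mul_le_mul_left ih _).trans (key n 1)
  refine eq_bot_iff.2 ((pow_le_pow_left' hJ N).trans ((hpow N).trans (iSup_le fun i => ?_)))
  rw [pow_add, hS, Submodule.mul_bot]

theorem uni_closure_of_pow {S : Submodule k (Module.End k M)} {N : ℕ} (hS : S ^ N = ⊥)
    {s : Set (LinearMap.GeneralLinearGroup k M)}
    (h : ∀ g ∈ s, (g : Module.End k M) - 1 ∈ S ∧
      ((g⁻¹ : LinearMap.GeneralLinearGroup k M) : Module.End k M) - 1 ∈ S) :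
    IsUnipotentOn (Subgroup.closure s) := isUnipotentOn_iff.2 ⟨N, uJ_closure_pow hS h⟩

theorem lcs_eq_bot_of_uJ_pow {U : Subgroup (LinearMap.GeneralLinearGroup k M)} {n : ℕ}
    (hn : uJ U ^ (n + 1) = ⊥) : U.lowerCentralSeries n = ⊥ := by
  rw [← Subgroup.top_subtype_lowerCentralSeries, eq_bot_iff]
  rintro _ ⟨u, hu, rfl⟩
  have h : ((u : LinearMap.GeneralLinearGroup k M) : Module.End k M) - 1 ∈ uJ U ^ (n + 1) := lcs_le_uF U n hu
  rw [hn, Submodule.mem_bot, sub_eq_zero] at h
  exact Subgroup.mem_bot.2 (Units.ext h)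

section pair

variable {α β : Module.End k M}

theorem gam_left (hα : α * α = 0) : (α * β + β * α) * α = α * β * α := by
  rw [add_mul, mul_assoc β, hα, mul_zero, add_zero]

theorem gam_right (hβ : β * β = 0) : (α * β + β * α) * β = β * α * β := by
  rw [add_mul, mul_assoc α, hβ, mul_zero, zero_add]

theorem gam_comm_left (hα : α * α = 0) : Commute α (α * β + β * α) := by
  rw [Commute, SemiconjBy, gam_left hα, mul_add, ← mul_assoc, hα, zero_mul, zero_add, mul_assoc]

theorem gam_comm_right (hβ : β * β = 0) : Commute β (α * β + β * α) := by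
  rw [add_comm]; exact gam_comm_left hβ

theorem uni_pair (hα : α * α = 0) (hβ : β * β = 0) {n : ℕ} (h1 : (α * β + β * α) ^ n * α = 0)
    (h2 : (α * β + β * α) ^ n * β = 0) : IsUnipotentOn (Subgroup.closure (fam α ∪ fam β)) := by
  set γ := α * β + β * α with hγ
  have key : ∀ j : ℕ, Submodule.span k {α, β} ^ (2 * j + 1) ≤ Submodule.span k {γ ^ j * α, γ ^ j * β} := by
    intro j
    induction j with
    | zero => simp
    | succ j ih =>
      rw [show 2 * (j + 1) + 1 = 2 * j + 1 + 1 + 1 by ring, pow_succ, pow_succ]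
      refine (mul_le_mul_left (mul_le_mul_left ih _) _).trans ?_
      rw [Submodule.span_mul_span, Submodule.span_mul_span, Submodule.span_le]
      have m1 : γ ^ (j + 1) * α ∈ Submodule.span k {γ ^ (j + 1) * α, γ ^ (j + 1) * β} :=
        Submodule.subset_span (by simp)
      have m2 : γ ^ (j + 1) * β ∈ Submodule.span k {γ ^ (j + 1) * α, γ ^ (j + 1) * β} :=
        Submodule.subset_span (by simp)
      have e1 : γ ^ j * α * β * α = γ ^ (j + 1) * α := by
        rw [pow_succ, mul_assoc _ γ, hγ, gam_left hα]; simp only [mul_assoc]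
      have e2 : γ ^ j * β * α * β = γ ^ (j + 1) * β := by
        rw [pow_succ, mul_assoc _ γ, hγ, gam_right hβ]; simp only [mul_assoc]
      have z1 : ∀ x : Module.End k M, x * α * α = 0 := fun x => by rw [mul_assoc, hα, mul_zero]
      have z2 : ∀ x : Module.End k M, x * β * β = 0 := fun x => by rw [mul_assoc, hβ, mul_zero]
      rintro _ ⟨_, ⟨_, rfl | rfl, _, rfl | rfl, rfl⟩, _, rfl | rfl, rfl⟩ <;>
        simp only [z1, z2, zero_mul, e1, e2, SetLike.mem_coe, m1, m2, Submodule.zero_mem]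
  refine uni_closure_of_pow (S := Submodule.span k {α, β}) (N := 2 * n + 1)
    (eq_bot_iff.2 ((key n).trans (by simp [h1, h2]))) ?_
  have m1 : α ∈ Submodule.span k {α, β} := Submodule.subset_span (by simp)
  have m2 : β ∈ Submodule.span k {α, β} := Submodule.subset_span (by simp)
  rintro g (⟨c, hc⟩ | ⟨c, hc⟩)
  · rw [inv_val_of_sq_zero (smul_sq_zero hα c) hc, hc]
    simpa using Submodule.smul_mem _ c m1
  · rw [inv_val_of_sq_zero (smul_sq_zero hβ c) hc, hc]
    simpa using Submodule.smul_mem _ c m2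

end pair

/-- Fitting decomposition inside `k[γ]`. -/
theorem exists_fitting [FiniteDimensional k M] (γ : Module.End k M) :
    ∃ ε ∈ Algebra.adjoin k {γ}, ∃ δ ∈ Algebra.adjoin k {γ}, ε * ε = ε ∧ δ * γ = ε ∧ ε * δ = δ ∧
      ∃ n : ℕ, ε * γ ^ n = γ ^ n := by
  let R := Algebra.adjoin k {γ}
  have : IsArtinianRing R := IsArtinianRing.of_finite k R
  let g : R := ⟨γ, Algebra.self_mem_adjoin_singleton k γ⟩
  obtain ⟨n, s, hs⟩ := IsArtinian.exists_pow_succ_smul_dvd g (1 : R)
  simp only [smul_eq_mul, mul_one, Nat.succ_eq_add_one] at hs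
  have h1 : ∀ j, g ^ n * (g * s) ^ j = g ^ n := by
    intro j
    induction j with
    | zero => simp
    | succ j ih => rw [pow_succ, ← mul_assoc, ih, ← mul_assoc, ← pow_succ, hs]
  have h2 : (g * s) ^ (n + 1) * (g * s) ^ (n + 1) = (g * s) ^ (n + 1) := by
    calc (g * s) ^ (n + 1) * (g * s) ^ (n + 1) = (g ^ n * (g * s) ^ (n + 1)) * (g * s ^ (n + 1)) := by ring
      _ = _ := by rw [h1]; ring
  refine ⟨((g * s) ^ (n + 1) : R), Subtype.property _, ((g * s) ^ (n + 1) * (g ^ n * s ^ (n + 1)) : R),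
    Subtype.property _, congrArg Subtype.val h2, ?_, ?_, n, ?_⟩
  · have : (g * s) ^ (n + 1) * (g ^ n * s ^ (n + 1)) * g = (g * s) ^ (n + 1) := by
      conv_rhs => rw [← h2]
      ring
    exact congrArg Subtype.val this
  · have : (g * s) ^ (n + 1) * ((g * s) ^ (n + 1) * (g ^ n * s ^ (n + 1))) =
        (g * s) ^ (n + 1) * (g ^ n * s ^ (n + 1)) := by rw [← mul_assoc, h2]
    exact congrArg Subtype.val this
  · have : (g * s) ^ (n + 1) * g ^ n = g ^ n := by rw [mul_comm, h1]
    exact congrArg Subtype.val this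

/-- the centralizer of an endomorphism in `GL(M)` -/
def centE (e : Module.End k M) : Subgroup (LinearMap.GeneralLinearGroup k M) where
  carrier := {g | (g : Module.End k M) * e = e * g}
  one_mem' := by simp
  mul_mem' := by
    intro x y hx hy
    simp only [Set.mem_ofPred_eq, Units.val_mul] at hx hy ⊢
    rw [mul_assoc, hy, ← mul_assoc, hx, mul_assoc]
  inv_mem' := by
    intro x hx
    exact (Commute.units_inv_left hx)

/-- the component of an element centralizing the idempotent `e` on the image of `e` -/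
def cornerHom {e : Module.End k M} (he : e * e = e) : centE e →* LinearMap.GeneralLinearGroup k M :=
  MonoidHom.toHomUnits
    { toFun := fun g => ((g : LinearMap.GeneralLinearGroup k M) : Module.End k M) * e + (1 - e)
      map_one' := by simp
      map_mul' := fun x y => by
        have hy : ((y : LinearMap.GeneralLinearGroup k M) : Module.End k M) * e = e * y.1 := y.2
        simp only [Subgroup.coe_mul, Units.val_mul, mul_add, add_mul, mul_sub, sub_mul, mul_one, one_mul,
          mul_assoc, he]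
        rw [← mul_assoc e, ← hy, mul_assoc, he]
        abel }

theorem cornerHom_val {e : Module.End k M} (he : e * e = e) (g : centE e) :
    (cornerHom he g : Module.End k M) = ((g : LinearMap.GeneralLinearGroup k M) : Module.End k M) * e + (1 - e) :=
  rfl

theorem lcs_mono {G : Type*} [Group G] {H L : Subgroup G} (h : H ≤ L) (n : ℕ) :
    H.lowerCentralSeries n ≤ L.lowerCentralSeries n := by
  induction n with
  | zero => exact h
  | succ n ih => exact Subgroup.commutator_mono ih h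

theorem adjoin_map_top' {k R S : Type*} [CommSemiring k] [Semiring R] [Semiring S] [Algebra k R] [Algebra k S]
    (f : R →ₐ[k] S) (hf : Function.Surjective f) {γ : R} (h : Algebra.adjoin k {γ} = ⊤) :
    Algebra.adjoin k {f γ} = ⊤ := by
  rw [← Set.image_singleton, ← AlgHom.map_adjoin, h, Algebra.map_top, (AlgHom.range_eq_top f).2 hf]

/-- Fitting data of a pair of square zero endomorphisms. -/
structure Fit (α β ε δ : Module.End k M) : Prop where
  aa : α * α = 0
  bb : β * β = 0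
  ε_mem : ε ∈ Algebra.adjoin k {α * β + β * α}
  δ_mem : δ ∈ Algebra.adjoin k {α * β + β * α}
  idem : ε * ε = ε
  δγ : δ * (α * β + β * α) = ε
  εδ : ε * δ = δ
  nil : ∃ n : ℕ, ε * (α * β + β * α) ^ n = (α * β + β * α) ^ n

theorem exists_fit [FiniteDimensional k M] {α β : Module.End k M} (hα : α * α = 0) (hβ : β * β = 0) :
    ∃ ε δ, Fit α β ε δ := by
  obtain ⟨ε, h1, δ, h2, h3, h4, h5, h6⟩ := exists_fitting (k := k) (α * β + β * α)
  exact ⟨ε, δ, hα, hβ, h1, h2, h3, h4, h5, h6⟩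

namespace Fit

variable {α β ε δ : Module.End k M} (F : Fit α β ε δ)
include F

theorem symm : Fit β α ε δ := by
  obtain ⟨h1, h2, h3, h4, h5, h6, h7, h8⟩ := F
  rw [add_comm] at h3 h4 h6 h8
  exact ⟨h2, h1, h3, h4, h5, h6, h7, h8⟩

theorem ca {r : Module.End k M} (hr : r ∈ Algebra.adjoin k {α * β + β * α}) : α * r = r * α :=
  Algebra.commute_of_mem_adjoin_singleton_of_commute hr (gam_comm_left F.aa)

theorem cb {r : Module.End k M} (hr : r ∈ Algebra.adjoin k {α * β + β * α}) : β * r = r * β :=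
  Algebra.commute_of_mem_adjoin_singleton_of_commute hr (gam_comm_right F.bb)

omit F in
theorem cc {r s γ : Module.End k M} (hr : r ∈ Algebra.adjoin k {γ}) (hs : s ∈ Algebra.adjoin k {γ}) :
    r * s = s * r :=
  congrArg Subtype.val (mul_comm (⟨r, hr⟩ : Algebra.adjoin k {γ}) ⟨s, hs⟩)

/-- the ideal of `k[γ]` annihilating `ε` -/
def ann : Ideal (Algebra.adjoin k {α * β + β * α}) :=
  LinearMap.ker (LinearMap.toSpanSingleton _ _ (⟨ε, F.ε_mem⟩ : Algebra.adjoin k {α * β + β * α}))

theorem mem_ann {r : Algebra.adjoin k {α * β + β * α}} : r ∈ F.ann ↔ (r : Module.End k M) * ε = 0 :=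
  Subtype.ext_iff

/-- the coefficient map -/
noncomputable def psi (x : Algebra.adjoin k {α * β + β * α} ⧸ F.ann) : Module.End k M :=
  ((Quotient.out x : Algebra.adjoin k {α * β + β * α}) : Module.End k M) * ε

theorem psi_mk (r : Algebra.adjoin k {α * β + β * α}) : F.psi (Ideal.Quotient.mk _ r) = r * ε := by
  have h : Quotient.out (Ideal.Quotient.mk F.ann r) - r ∈ F.ann :=
    Ideal.Quotient.eq.1 (Ideal.Quotient.mk_out _)
  rw [mem_ann] at h
  rw [psi, ← sub_eq_zero, ← sub_mul]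
  exact h

theorem aba : ε * α * (δ * β) * (ε * α) = ε * α := by
  calc ε * α * (δ * β) * (ε * α) = ε * (α * δ) * (β * ε) * α := by simp only [mul_assoc]
    _ = ε * δ * (α * ε) * β * α := by rw [F.ca F.δ_mem, F.cb F.ε_mem]; simp only [mul_assoc]
    _ = ε * (δ * ε) * (α * β * α) := by rw [F.ca F.ε_mem]; simp only [mul_assoc]
    _ = ε * α := by
      rw [cc F.δ_mem F.ε_mem, F.εδ, F.εδ, ← gam_left F.aa, ← mul_assoc, F.δγ]

theorem bab : δ * β * (ε * α) * (δ * β) = δ * β := by
  calc δ * β * (ε * α) * (δ * β) = δ * (β * ε) * (α * δ) * β := by simp only [mul_assoc]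
    _ = δ * ε * (β * δ) * α * β := by rw [F.ca F.δ_mem, F.cb F.ε_mem]; simp only [mul_assoc]
    _ = δ * ε * (δ * (β * α * β)) := by rw [F.cb F.δ_mem]; simp only [mul_assoc]
    _ = δ * β := by
      rw [← gam_right F.bb, ← mul_assoc δ (α * β + β * α), F.δγ, ← mul_assoc, mul_assoc δ, F.idem,
        cc F.δ_mem F.ε_mem, F.εδ]

/-- the matrix units of a pair -/
noncomputable def mu : MU (Algebra.adjoin k {α * β + β * α} ⧸ F.ann) (Module.End k M) where
  ψ := F.psi
  a := ε * α
  b := δ * β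
  add r s := by
    obtain ⟨r, rfl⟩ := Ideal.Quotient.mk_surjective r
    obtain ⟨s, rfl⟩ := Ideal.Quotient.mk_surjective s
    rw [← map_add, psi_mk, psi_mk, psi_mk, ← add_mul]; rfl
  mul r s := by
    obtain ⟨r, rfl⟩ := Ideal.Quotient.mk_surjective r
    obtain ⟨s, rfl⟩ := Ideal.Quotient.mk_surjective s
    rw [← map_mul, psi_mk, psi_mk, psi_mk, mul_assoc _ ε, ← mul_assoc ε, cc F.ε_mem s.2, mul_assoc _ ε, F.idem,
      ← mul_assoc]; rfl
  ca r := by
    obtain ⟨r, rfl⟩ := Ideal.Quotient.mk_surjective r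
    have h := mul_mem r.2 F.ε_mem
    rw [psi_mk, mul_assoc ε, F.ca h, ← mul_assoc, cc F.ε_mem h, mul_assoc _ ε α]
  cb r := by
    obtain ⟨r, rfl⟩ := Ideal.Quotient.mk_surjective r
    have h := mul_mem r.2 F.ε_mem
    rw [psi_mk, mul_assoc δ, F.cb h, ← mul_assoc, cc F.δ_mem h, mul_assoc _ δ β]
  one_a := by rw [← map_one (Ideal.Quotient.mk _), psi_mk, ← mul_assoc]; simp [F.idem]
  one_b := by rw [← map_one (Ideal.Quotient.mk _), psi_mk, ← mul_assoc]; simp [F.εδ]
  aa := by rw [mul_assoc, ← mul_assoc α, F.ca F.ε_mem, mul_assoc, F.aa]; simp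
  bb := by rw [mul_assoc, ← mul_assoc β, F.cb F.δ_mem, mul_assoc, F.bb]; simp
  aba := F.aba
  bab := F.bab

/-- the class of `γ` -/
def gam : Algebra.adjoin k {α * β + β * α} ⧸ F.ann :=
  Ideal.Quotient.mk _ ⟨α * β + β * α, Algebra.self_mem_adjoin_singleton k _⟩

theorem gam_mul : F.gam * Ideal.Quotient.mk _ ⟨δ, F.δ_mem⟩ = 1 := by
  rw [gam, ← map_mul, ← map_one (Ideal.Quotient.mk _), Ideal.Quotient.eq, mem_ann]
  simp only [AddSubgroupClass.coe_sub, MulMemClass.coe_mul, OneMemClass.coe_one]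
  rw [cc (Algebra.self_mem_adjoin_singleton k _) F.δ_mem, F.δγ, sub_mul, F.idem]; simp

theorem adjoin_gam : Algebra.adjoin k {F.gam} = ⊤ := by
  refine adjoin_map_top' (Ideal.Quotient.mkₐ k F.ann) (Ideal.Quotient.mkₐ_surjective k F.ann)
    (γ := ⟨α * β + β * α, Algebra.self_mem_adjoin_singleton k _⟩) ?_
  apply Subalgebra.map_injective (f := (Algebra.adjoin k {α * β + β * α}).val) Subtype.val_injective
  rw [AlgHom.map_adjoin_singleton, Algebra.map_top, Subalgebra.range_val]; rfl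

theorem hom_xu_mk (r : Algebra.adjoin k {α * β + β * α}) :
    (F.mu.hom (xu (Ideal.Quotient.mk _ r)) : Module.End k M) = 1 + r * ε * α := by
  rw [MU.hom_xu]
  change 1 + F.psi _ * (ε * α) = _
  rw [psi_mk, ← mul_assoc, mul_assoc _ ε ε, F.idem]

theorem hom_xl_mk (r : Algebra.adjoin k {α * β + β * α}) :
    (F.mu.hom (xl (Ideal.Quotient.mk _ r * F.gam)) : Module.End k M) = 1 + r * ε * β := by
  rw [MU.hom_xl, gam, ← map_mul]
  change 1 + F.psi _ * (δ * β) = _
  rw [psi_mk]
  simp only [MulMemClass.coe_mul]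
  rw [mul_assoc _ ε, ← mul_assoc ε, F.εδ, ← mul_assoc, mul_assoc _ _ δ,
    cc (Algebra.self_mem_adjoin_singleton k _) F.δ_mem, F.δγ]

theorem hom_xu_alg (c : k) : (F.mu.hom (xu (algebraMap k _ c)) : Module.End k M) = 1 + c • (ε * α) := by
  rw [← Ideal.Quotient.mk_algebraMap, hom_xu_mk]; simp [Algebra.smul_def, mul_assoc]

theorem hom_xl_alg (c : k) : (F.mu.hom (xl (algebraMap k _ c * F.gam)) : Module.End k M) = 1 + c • (ε * β) := by
  rw [← Ideal.Quotient.mk_algebraMap, hom_xl_mk]; simp [Algebra.smul_def, mul_assoc]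

/-- The main structure theorem for a pair. -/
theorem mem_lcs [FiniteDimensional k M] (hk : BigField k) (n : ℕ) (x : Algebra.adjoin k {α * β + β * α} ⧸ F.ann) :
    F.mu.hom (xu x) ∈ (Subgroup.closure (fam α ∪ fam β)).lowerCentralSeries n ∧
    F.mu.hom (xl x) ∈ (Subgroup.closure (fam α ∪ fam β)).lowerCentralSeries n := by
  set H := Subgroup.closure (fam α ∪ fam β)
  have he' : (1 - ε) * (1 - ε) = 1 - ε := by simp [mul_sub, sub_mul, F.idem]
  have hC : ∀ {a : Module.End k M}, a * ε = ε * a → ∀ g ∈ fam a, g ∈ centE ε := by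
    rintro a ha g ⟨c, hc⟩
    change (g : Module.End k M) * ε = ε * g
    simp [hc, add_mul, mul_add, ha]
  have hCC : centE ε ≤ centE (1 - ε) := by
    intro g hg
    have : (g : Module.End k M) * ε = ε * g := hg
    change (g : Module.End k M) * (1 - ε) = (1 - ε) * g
    simp [mul_sub, sub_mul, this]
  have hHC : H ≤ centE ε := by
    rw [Subgroup.closure_le]
    rintro g (hg | hg)
    · exact hC (F.ca F.ε_mem) g hg
    · exact hC (F.cb F.ε_mem) g hg
  let π₁ := cornerHom F.idem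
  let π₀ := (cornerHom he').comp (Subgroup.inclusion hCC)
  have hπ₀ : ∀ g : centE ε, (π₀ g : Module.End k M) = (g : LinearMap.GeneralLinearGroup k M) * (1 - ε) + ε := by
    intro g; simp [π₀, cornerHom_val]
  set H' := H.subgroupOf (centE ε)
  -- the unipotent part
  obtain ⟨N, hN⟩ : ∃ N, (H'.map π₀).lowerCentralSeries N = ⊥ := by
    rw [← Subgroup.isNilpotent_iff_lowerCentralSeries]
    obtain ⟨m, hm⟩ := F.nil
    have c1 := F.ca (sub_mem (one_mem _) F.ε_mem)
    have c2 := F.cb (sub_mem (one_mem _) F.ε_mem)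
    have hg : (1 - ε) * α * ((1 - ε) * β) + (1 - ε) * β * ((1 - ε) * α) = (1 - ε) * (α * β + β * α) := by
      rw [mul_assoc _ α, ← mul_assoc α, c1, mul_assoc _ β, ← mul_assoc β, c2, ← mul_add, mul_assoc, mul_assoc,
        ← mul_add, ← mul_assoc, he']
    have hz : ((1 - ε) * (α * β + β * α)) ^ m * (1 - ε) = 0 := by
      have hc : Commute (1 - ε) (α * β + β * α) :=
        cc (sub_mem (one_mem _) F.ε_mem) (Algebra.self_mem_adjoin_singleton k _)
      rw [hc.mul_pow, mul_assoc, ← (hc.pow_right m).eq, sub_mul, hm]; simp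
    have hu := uni_pair (α := (1 - ε) * α) (β := (1 - ε) * β) (n := m)
      (by rw [mul_assoc, ← mul_assoc α, c1, mul_assoc, F.aa]; simp)
      (by rw [mul_assoc, ← mul_assoc β, c2, mul_assoc, F.bb]; simp)
      (by rw [hg, ← mul_assoc, hz, zero_mul]) (by rw [hg, ← mul_assoc, hz, zero_mul])
    refine uni_isNilpotent (uni_mono hu ?_)
    have hle : H ≤ ((Subgroup.closure (fam ((1 - ε) * α) ∪ fam ((1 - ε) * β))).comap π₀).map
        (centE ε).subtype := by
      rw [Subgroup.closure_le]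
      rintro g (hg | hg)
      · refine ⟨⟨g, hC (F.ca F.ε_mem) g hg⟩, Subgroup.subset_closure (Or.inl ?_), rfl⟩
        obtain ⟨c, hc⟩ := hg
        exact ⟨c, by rw [hπ₀, hc, ← c1]; simp [add_mul]; abel⟩
      · refine ⟨⟨g, hC (F.cb F.ε_mem) g hg⟩, Subgroup.subset_closure (Or.inr ?_), rfl⟩
        obtain ⟨c, hc⟩ := hg
        exact ⟨c, by rw [hπ₀, hc, ← c2]; simp [add_mul]; abel⟩
    rintro _ ⟨g, hg, rfl⟩
    obtain ⟨g', hg', e⟩ := hle hg
    rwa [← show g' = g from Subtype.ext e]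
  -- the `SL₂` part
  have hE : ∀ r, xu r ∈ (H'.map π₁).comap F.mu.hom ∧ xl r ∈ (H'.map π₁).comap F.mu.hom := by
    refine dickson_art hk F.gam_mul F.adjoin_gam (fun c => ?_) (fun c => ?_)
    · refine ⟨⟨_, hC (F.ca F.ε_mem) _ (qu_mem_fam F.aa c)⟩,
        Subgroup.subset_closure (Or.inl (qu_mem_fam F.aa c)), Units.ext ?_⟩
      rw [hom_xu_alg, cornerHom_val, ← F.ca F.ε_mem]; simp [add_mul]; abel
    · refine ⟨⟨_, hC (F.cb F.ε_mem) _ (qu_mem_fam F.bb c)⟩,
        Subgroup.subset_closure (Or.inr (qu_mem_fam F.bb c)), Units.ext ?_⟩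
      rw [hom_xl_alg, cornerHom_val, ← F.cb F.ε_mem]; simp [add_mul]; abel
  have fin : ∀ g ∈ ((H'.map π₁).comap F.mu.hom).lowerCentralSeries (n + N),
      F.mu.hom g ∈ H.lowerCentralSeries n := by
    intro g hg
    have h1 : F.mu.hom g ∈ (H'.lowerCentralSeries (n + N)).map π₁ := by
      rw [Subgroup.map_lowerCentralSeries]
      refine lcs_mono (Subgroup.map_comap_le F.mu.hom (H'.map π₁)) _ ?_
      rw [← Subgroup.map_lowerCentralSeries]
      exact ⟨g, hg, rfl⟩
    obtain ⟨h, hh, e⟩ := h1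
    have h2 : π₀ h ∈ (H'.map π₀).lowerCentralSeries N := by
      rw [← Subgroup.map_lowerCentralSeries]
      exact ⟨h, Subgroup.lowerCentralSeries_antitone _ (Nat.le_add_left N n) hh, rfl⟩
    rw [hN, Subgroup.mem_bot] at h2
    have h3 := hπ₀ h
    rw [h2, Units.val_one] at h3
    have h4 : π₁ h = h := Units.ext (by
      rw [cornerHom_val, sub_eq_iff_eq_add.2 h3, ← mul_add]; simp)
    rw [← e, h4]
    have h5 : (h : LinearMap.GeneralLinearGroup k M) ∈ (H'.lowerCentralSeries n).map (centE ε).subtype :=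
      ⟨h, Subgroup.lowerCentralSeries_antitone _ (Nat.le_add_right n N) hh, rfl⟩
    rwa [Subgroup.map_lowerCentralSeries, Subgroup.map_subgroupOf_eq_of_le hHC] at h5
  have := xu_xl_mem_lcs hk hE (n + N) x
  exact ⟨fin _ this.1, fin _ this.2⟩

theorem mem_gS_lcs [FiniteDimensional k M] (hk : BigField k) (n : ℕ) {r : Module.End k M}
    (hr : r ∈ Algebra.adjoin k {α * β + β * α}) :
    1 + r * ε * α ∈ gS ((Subgroup.closure (fam α ∪ fam β)).lowerCentralSeries n) ∧
    1 + r * ε * β ∈ gS ((Subgroup.closure (fam α ∪ fam β)).lowerCentralSeries n) :=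
  ⟨⟨_, (F.mem_lcs hk n _).1, F.hom_xu_mk ⟨r, hr⟩⟩, ⟨_, (F.mem_lcs hk n _).2, F.hom_xl_mk ⟨r, hr⟩⟩⟩

end Fit

end H70
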