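import Cfsg.Agent.H70.Sq
import Cfsg.Prelude.Def_LieTwisted

/-! Team ord, part 3 (blueprints/ORD3.md): interfaces for S3625. -/

set_option autoImplicit false

namespace H70.Sq

open Cfsg Subgroup H24

universe u

/-- `q + r + 1` for `q = 3 ^ (2 n + 1)`, `r = 3 ^ (n + 1)`. -/
def cP (n : ℕ) : ℕ := 3 ^ (2 * n + 1) + 3 ^ (n + 1) + 1

/-- `q - r + 1`. -/
def cM (n : ℕ) : ℕ := 3 ^ (2 * n + 1) - 3 ^ (n + 1) + 1

/-- The four colours: the parts prime to `42` of the orders of the tori. -/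
def rc (n : ℕ) : Fin 4 → ℕ :=
  ![(3 ^ (2 * n + 1) - 1) / 2, (3 ^ (2 * n + 1) + 1) / 4, if 7 ∣ cP n then cM n else cP n,
    (if 7 ∣ cP n then cP n else cM n) / 7]

/-- The maximal element orders of the Ree group, when `3 ∤ 2 n + 1`. -/
def rmu (n : ℕ) : Fin 6 → ℕ := ![2 * rc n 0, 2 * rc n 1, rc n 2, 7 * rc n 3, 6, 9]

/-- The order of the Ree group, in the form of S1069. -/
def reeOrd (n : ℕ) : ℕ := (3 ^ (2 * n + 1)) ^ 3 * (3 ^ (2 * n + 1) - 1) * ((3 ^ (2 * n + 1)) ^ 3 + 1)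

/-- `L ≅ ²G₂(3 ^ (2 n + 1))`. -/
def IsRee (n : ℕ) (L : Type*) [Group L] : Prop :=
  ∃ (K : Type) (_ : Field K) (_ : Fintype K), Fintype.card K = 3 ^ (2 * n + 1) ∧
    Nonempty (L ≃* Lie.twistedG2 K (3 ^ n))

variable {ι : Type} [Fintype ι] [DecidableEq ι]

/-- `n` is an element order of the product of the Ree groups. -/
def OmR (m : ι → ℕ) (n : ℕ) : Prop := ∃ f : ι → Fin 6, n ∣ Finset.univ.lcm fun i => rmu (m i) (f i)

def SubR (m : ι → ℕ) (G : Type*) [Group G] : Prop := ∀ g : G, OmR m (orderOf g)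

def FullR (m : ι → ℕ) (G : Type*) [Group G] : Prop := ∀ i x, Ord G (rc (m i) x)

/-- The choice of the fields. -/
structure Good (m : ι → ℕ) : Prop where
  prime : ∀ i, (2 * m i + 1).Prime
  big : ∀ i, 50 ≤ m i
  inj : Function.Injective m
  ndvd : ∀ i j x, ¬ 2 * m j + 1 ∣ rc (m i) x

/-- ORD3.md N: arithmetic. -/
structure RNum (m : ι → ℕ) : Prop where
  one_lt : ∀ i x, 1 < rc (m i) x
  cop : ∀ i x j y, (i, x) ≠ (j, y) → (rc (m i) x).Coprime (rc (m j) y)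
  cop210 : ∀ i x, (rc (m i) x).Coprime 210
  prime : ∀ s : ℕ, s.Prime → OmR m s → s = 2 ∨ s = 3 ∨ s = 7 ∨ ∃ i x, s ∣ rc (m i) x
  no4 : ¬ OmR m 4
  no27 : ¬ OmR m 27
  no49 : ¬ OmR m 49
  adj : ∀ i x y (s t : ℕ), x ≠ y → s.Prime → t.Prime → s ∣ rc (m i) x → t ∣ rc (m i) y →
    ¬ OmR m (s * t)
  part : ∀ i x n, OmR m n → (∀ s : ℕ, s.Prime → s ∣ n → s = 2 ∨ s = 3 ∨ s = 7 ∨ s ∣ rc (m i) x) →
    n ∣ 126 * rc (m i) x
  pow : ∀ i x (s : ℕ), s.Prime → s ∣ rc (m i) x → ∃ k, s ^ (k + 1) ∣ rc (m i) x ∧ ¬ OmR m (s ^ (k + 1 + 1))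
  sel2 : ∀ (e : ι → ℕ) b, (∀ i, 1 < e i ∧ e i ∣ rc (m i) 2) → b = 2 ∨ b = 3 ∨ b = 7 →
    ¬ OmR m (b * ∏ i, e i)
  sel0 : ∀ e : ι → ℕ, (∀ i, 1 < e i ∧ e i ∣ rc (m i) 0) → ¬ OmR m (7 * ∏ i, e i)
  sel21 : ∀ (e : ι → ℕ) i, e i = 7 → (∀ l, l ≠ i → 1 < e l ∧ e l ∣ rc (m l) 2) → ¬ OmR m (3 * ∏ l, e l)
  ree : ∀ n, 1 ≤ n → (∀ s : ℕ, s.Prime → s ∣ reeOrd n → OmR m s) → ∀ i x (s : ℕ), s.Prime →
    s ∣ rc (m i) x → s ∣ reeOrd n → n = m i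
  l2 : ∀ i y z a b, y ≠ z → a ∣ 126 → b ∣ 126 → a * rc (m i) y + 1 = b * rc (m i) z →
    2 * (a * rc (m i) y) + 1 = 3 ^ (2 * m i + 1)

/-- ORD3.md G: facts on the group. -/
structure RGrp (n : ℕ) (L : Type*) [Group L] : Prop where
  simple : IsSimpleGroup L
  nab : ¬ IsMulCommutative L
  card : Nat.card L = reeOrd n
  out : Nat.card (Out L) = 2 * n + 1
  sub : ∀ g : L, ∃ x, orderOf g ∣ rmu n x
  full : ∀ x, Ord L (rmu n x)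
  fr0 : ∀ s k : ℕ, s.Prime → s ^ (k + 1) ∣ rc n 0 → Fr L s k 3
  fr7 : Fr L 7 0 2
  congr : ∀ (K : Type) [Field K] [Fintype K], Fintype.card K = 3 ^ (2 * n + 1) →
    Nonempty (L ≃* Lie.twistedG2 K (3 ^ n))

/-- Three colours of the index `i` live in the component `T`. -/
def Own (m : ι → ℕ) (i : ι) {H : Type*} [Group H] (T : Subgroup H) : Prop :=
  IsComponent T ∧ ∃ x₀, ∀ x, x ≠ x₀ → Ord T (rc (m i) x) ∧ ∀ s : ℕ, s.Prime → s ∣ rc (m i) x →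
    ∀ L : Subgroup H, IsComponent L → s ∣ Nat.card L → L = T

/-- `H` is the direct product of the Ree groups `T i`. -/
structure Dec (m : ι → ℕ) {H : Type*} [Group H] (T : ι → Subgroup H) : Prop where
  nT : ∀ i, (T i).Normal
  ree : ∀ i, IsRee (m i) (T i)
  comm : ∀ i j, i ≠ j → ⁅T i, T j⁆ = ⊥
  top : ⨆ i, T i = ⊤

def JobRN0 : Prop := ∃ p : ℕ → ℕ, StrictMono p ∧ (∀ i, (p i).Prime ∧ Odd (p i)) ∧
  ∀ k, Good fun i : Fin k => (p i - 1) / 2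

def JobRN : Prop := ∀ (ι : Type) [Fintype ι] [DecidableEq ι] (m : ι → ℕ), Good m → RNum m

def JobRG : Prop := ∀ n : ℕ, 1 ≤ n → ¬ 3 ∣ 2 * n + 1 → ∀ (L : Type u) [Group L], IsRee n L → RGrp n L

def JobR1 : Prop := ∀ (ι : Type) [Fintype ι] [DecidableEq ι] (m : ι → ℕ), RNum m →
  ∀ (G : Type u) [Group G] [Finite G], SubR m G → FullR m G →
  ∀ i, ∃ T : Subgroup (G ⧸ solvableRadical G), Own m i T

def JobR2 : Prop := ∀ (ι : Type) [Fintype ι] [DecidableEq ι] (m : ι → ℕ), RNum m →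
  ∀ (H : Type u) [Group H] [Finite H], SS H → SubR m H → ∀ T : ι → Subgroup H,
  (∀ i, Own m i (T i)) → ∀ i, IsRee (m i) (T i)

def JobR27 : Prop := ∀ (G : Type u) [Group G] [Finite G] (V J X : Subgroup G), V.Normal →
  IsElementaryAbelian 3 V → (∀ N : Subgroup G, N.Normal → N ≤ V → N = ⊥ ∨ N = V) → ¬ Ord G 4 →
  Exp G 3 2 → J ⊔ X = ⊤ → ⁅J, X⁆ ≤ V → ∀ y ∈ J, ∀ x ∈ X, y ^ 9 = 1 → x ^ 9 = 1 →
  y ^ 3 ∈ centralizer (V : Set G) ∨ x ^ 3 ∈ centralizer (V : Set G)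

def JobR4 : Prop := ∀ (ι : Type) [Fintype ι] [DecidableEq ι] (m : ι → ℕ), Good m → RNum m →
  ∀ (G H : Type u) [Group G] [Finite G] [Group H] (ψ : G →* H) (T : ι → Subgroup H) (r : ℕ),
  Function.Surjective ψ → Dec m T → SubR m G → r.Prime → IsElementaryAbelian r ψ.ker →
  (∀ N : Subgroup G, N.Normal → N ≤ ψ.ker → N = ⊥ ∨ N = ψ.ker) → ψ.ker = ⊥

end H70.Sq
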