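import Cfsg.Agent.H70.RRSpec
import Cfsg.Agent.H86.OrdG
import Cfsg.Agent.H73.HKSMR

/-! Row S3530, job RG: facts on the small Ree groups. -/

set_option autoImplicit false

namespace H70.RR

open Cfsg Subgroup H24 H70.Sq H10.W

universe u

theorem mu_val {n : ℕ} (hn : 1 ≤ n) :
    mu n 2 = 3 ^ (2 * n + 1) - 1 ∧ mu n 3 = (3 ^ (2 * n + 1) + 1) / 2 := by
  obtain ⟨t, -, -, tq, -⟩ := H84.RN.param hn
  refine ⟨?_, ?_⟩
  · change 2 * ((3 ^ (2 * n + 1) - 1) / 2) = _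
    omega
  · change 2 * ((3 ^ (2 * n + 1) + 1) / 4) = _
    omega

theorem ree_congr {n : ℕ} (hn : 1 ≤ n) {K : Type*} [Field K] [Fintype K] {F : Type*} [Field F]
    [Fintype F] (hK : Fintype.card K = 3 ^ (2 * n + 1)) (hF : Fintype.card F = 3 ^ (2 * n + 1)) :
    Nonempty (Lie.twistedG2 K (3 ^ n) ≃* Lie.twistedG2 F (3 ^ n)) :=
  H7.RS.Pre.nonempty_equiv hn (H7.RS.Pre.ofRee (H30.reeG2 hK)) ((H7.RS.Pre.ofRee
    (H30.reeG2 hF)).map (FiniteField.ringEquivOfCardEq (hK.trans hF.symm)))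

theorem isRee_self {n : ℕ} (hn : 1 ≤ n) {F : Type*} [Field F] [Fintype F]
    (hF : Fintype.card F = 3 ^ (2 * n + 1)) : IsRee n (Lie.twistedG2 F (3 ^ n)) := by
  have : Fact (Nat.Prime 3) := ⟨Nat.prime_three⟩
  let _ := Fintype.ofFinite (GaloisField 3 (2 * n + 1))
  have hK : Fintype.card (GaloisField 3 (2 * n + 1)) = 3 ^ (2 * n + 1) := by
    rw [← Nat.card_eq_fintype_card, GaloisField.card _ _ (by omega)]
  exact ⟨_, inferInstance, inferInstance, hK, ree_congr hn hF hK⟩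

theorem isRee_equiv {n : ℕ} (hn : 1 ≤ n) {L : Type*} [Group L] (h : IsRee n L) {F : Type*} [Field F]
    [Fintype F] (hF : Fintype.card F = 3 ^ (2 * n + 1)) : Nonempty (L ≃* Lie.twistedG2 F (3 ^ n)) := by
  obtain ⟨K, _, _, hK, ⟨e⟩⟩ := h
  exact ⟨e.trans (ree_congr hn hK hF).some⟩

theorem jobRG : JobRG.{u} := by
  rintro n hn L _ ⟨K, _, _, hK, ⟨e⟩⟩
  have R := H73.HKS.reeMap (H30.reeG2 hK) e.symm
  have := R.finite_G
  obtain ⟨hs, -⟩ := Cfsg.Agent.S1073.result hn hK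
  have := e.isSimpleGroup
  obtain ⟨r0, r1⟩ := mu_val hn
  have ho := Cfsg.Agent.S1159.result hn hK
  have fr : ∀ s k : ℕ, s.Prime → s ^ (k + 1) ∣ col n 1 → ∃ x ∈ normalizer (R.U : Set L),
      orderOf x ∣ s ^ (k + 1) ∧ ∃ t ∈ R.U, ¬ Commute (x ^ s ^ k) t := fun s k hs h => by
    obtain ⟨c, hc⟩ := IsCyclic.exists_ofOrder_eq_natCard (α := Kˣ)
    obtain ⟨κ, hκ⟩ := Ord.of_dvd (G := Kˣ) ⟨c, hc⟩ (a := s ^ (k + 1)) (by
      rw [R.card_units, ← r0]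
      exact h.mul_left 2)
    refine ⟨R.h κ, mem_normalizer_fintype fun u hu => R.H_conj_U (R.h_mem κ) hu,
      hκ ▸ orderOf_map_dvd _ _, R.x 1 0 0, R.x_mem _ _ _, fun hc => ?_⟩
    have h1 := R.h_conj (κ ^ s ^ k) 1 0 0
    rw [map_pow, hc.eq, mul_inv_cancel_right] at h1
    have h2 : κ ^ s ^ k = 1 := Units.ext (by simpa using (R.x_inj h1).1.symm)
    have h4 := Nat.le_of_dvd (pow_pos hs.pos k) (hκ ▸ orderOf_dvd_of_pow_eq_one h2)
    exact h4.not_gt (Nat.pow_lt_pow_right hs.one_lt k.lt_succ_self)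
  refine ⟨R.card_G, (Nat.card_congr (H56.outCongr e).toEquiv).trans (Cfsg.Agent.S2127.result hn hK),
    fun g => ?_, fun x => ?_, fun s k hs h => ?_, fun s hs => ?_, ?_, ?_⟩
  · rcases (ho (orderOf g)).1 ⟨e g, e.orderOf_eq g⟩ with h | h | h | h | h | h
    exacts [⟨0, h⟩, ⟨1, h⟩, ⟨2, r0 ▸ h⟩, ⟨3, r1 ▸ h⟩, ⟨4, h⟩, ⟨5, h⟩]
  · obtain ⟨g, hg⟩ := (ho (mu n x)).2 (by
      fin_cases x
      · exact .inl dvd_rfl
      · exact .inr (.inl dvd_rfl)
      · exact .inr (.inr (.inl (dvd_of_eq r0)))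
      · exact .inr (.inr (.inr (.inl (dvd_of_eq r1))))
      · exact .inr (.inr (.inr (.inr (.inl dvd_rfl))))
      · exact .inr (.inr (.inr (.inr (.inr dvd_rfl)))))
    exact ⟨e.symm g, (e.symm.orderOf_eq g).trans hg⟩
  · obtain ⟨x, h1, h2, h3⟩ := fr s k hs h
    exact ⟨R.U, x, R.isPGroup_U, h1, ⟨k + 1, orderOf_dvd_iff_pow_eq_one.1 h2⟩, h3⟩
  · obtain ⟨x, h1, h2, t, h3, h4⟩ := fr s 0 hs.1 (by simpa using hs.2)
    rw [pow_zero, pow_one] at h4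
    rw [zero_add, pow_one] at h2
    exact ⟨R.U, x, R.isPGroup_U, h1, ((Nat.dvd_prime hs.1).1 h2).resolve_left fun k => h4 (by
      rw [orderOf_eq_one_iff.1 k]; exact Commute.one_left t), t, h3, h4⟩
  · obtain ⟨S⟩ : Nonempty (Sylow 2 L) := inferInstance
    obtain ⟨x, hx⟩ := ord_of_prime (G := normalizer ((S : Subgroup L) : Set L)) (p := 7)
      (by norm_num) (by rw [R.card_normalizer_sylow S]; norm_num)
    refine ⟨S, .inr ⟨R.card_sylow_two S, rfl⟩, x, x.2, (orderOf_coe x).trans hx, by_contra fun h => ?_⟩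
    push Not at h
    have h1 : (x : L) ∈ (S : Subgroup L) := (R.centralizer_sylow S).le fun t ht => (h t ht).symm.eq
    have h2 := orderOf_dvd_natCard (⟨x, h1⟩ : (S : Subgroup L))
    rw [R.card_sylow_two S, ← orderOf_coe, orderOf_coe x, hx] at h2
    omega
  · let f : Multiplicative K →* L := ⟨⟨fun v => R.x 0 0 v.toAdd, R.x_zero⟩, fun a b => by
      simp [R.x_mul]⟩
    have hf : Function.Injective f := fun a b h => Multiplicative.ext (R.x_inj h).2.2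
    refine ⟨f.range, le_top, ⟨⟨⟨fun ⟨_, a, rfl⟩ ⟨_, b, rfl⟩ => Subtype.ext (by
      change f a * f b = f b * f a
      rw [← map_mul, mul_comm, map_mul])⟩⟩, fun _ ⟨a, ha⟩ => ha ▸ R.x_cube_eq_one.2 rfl⟩, fun h => ?_⟩
    obtain ⟨⟨_, a, rfl⟩, ha⟩ := IsCyclic.exists_ofOrder_eq_natCard (α := f.range)
    rw [← orderOf_coe, ← Nat.card_congr (MonoidHom.ofInjective hf).toEquiv, Nat.card_congr
      Multiplicative.toAdd, R.card_K] at ha
    have h3 := Nat.le_of_dvd (by norm_num) (ha ▸ orderOf_dvd_of_pow_eq_one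
      (R.x_cube_eq_one.2 rfl : f a ^ 3 = 1))
    exact h3.not_gt (by simpa using Nat.pow_lt_pow_right (a := 3) (by norm_num) (show 1 < 2 * n + 1 by omega))

end H70.RR
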