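import Cfsg.Agent.H70.RRAsm

/-! Row S3530, job Out: field automorphisms give new element orders. -/

set_option autoImplicit false

namespace H70.RR

open Cfsg Subgroup H24 H70.Sq H10.W H14

universe u

section
variable {K : Type} [Field K] {m : ℕ} {T : Type*} [Group T] (R : H30.Ree K m T)

/-- `α` is the field automorphism `τ`. -/
def Ac (α : MulAut T) (τ : K ≃+* K) : Prop :=
  (∀ t a v, α (R.x t a v) = R.x (τ t) (τ a) (τ v)) ∧
    ∀ κ : Kˣ, α (R.h κ) = R.h (Units.map (τ : K →* K) κ)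

variable {R}

theorem Ac.pow {α : MulAut T} {τ : K ≃+* K} (h : Ac R α τ) (k : ℕ) : Ac R (α ^ k) (τ ^ k) := by
  induction k with
  | zero => exact ⟨fun _ _ _ => rfl, fun _ => rfl⟩
  | succ k ih =>
    rw [pow_succ', pow_succ']
    exact ⟨fun t a v => by rw [MulAut.mul_apply, ih.1, h.1]; rfl,
      fun κ => by rw [MulAut.mul_apply, ih.2, h.2]; rfl⟩

theorem Ac.eq_one {τ : K ≃+* K} (h : Ac R 1 τ) : τ = 1 :=
  RingEquiv.ext fun t => (R.x_inj (h.1 t 0 0)).1.symm

theorem Ac.n {α : MulAut T} {τ : K ≃+* K} (h : Ac R α τ) (hm : 1 ≤ m) :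
    ∃ k ∈ R.H, α R.n = R.n * k := by
  have := R.finite_K
  have sj : ∀ κ : Kˣ, ∃ κ', α (R.h κ') = R.h κ := fun κ =>
    ⟨Units.map (τ.symm : K →* K) κ, (h.2 _).trans (congrArg R.h (Units.ext (τ.apply_symm_apply _)))⟩
  obtain ⟨c, hc⟩ := IsCyclic.exists_ofOrder_eq_natCard (α := Kˣ)
  obtain ⟨c', e⟩ := sj c
  have h2 : R.h c * R.h c ≠ 1 := fun k => by
    rw [← map_mul, ← pow_two, map_eq_one_iff _ R.h_injective, ← orderOf_dvd_iff_pow_eq_one, hc,
      R.card_units] at k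
    have := Nat.le_of_dvd two_pos k
    have := H30.le_three_pow hm
    omega
  rcases R.mem_N.1 (R.mem_N_of_conj (g := α R.n) (R.h_mem c) h2 (by
    rw [← e, ← map_inv, ← map_mul, ← map_mul, R.n_conj_H (R.h_mem _), map_inv, e]
    exact inv_mem (R.h_mem c))) with ⟨κ, k⟩ | k
  · obtain ⟨κ', e'⟩ := sj κ
    exact absurd (α.injective (e'.trans k) ▸ R.H_le_B (R.h_mem κ')) R.n_not_mem_B
  · exact ⟨_, k, by rw [← mul_assoc, R.n_mul_n, one_mul]⟩

theorem exists_fix (R : H30.Ree K m T) (τ : K ≃+* K) : ∃ (F : Subfield K) (j : ℕ),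
    (∀ a, a ∈ F ↔ τ a = a) ∧ Nat.card F = 3 ^ (2 * j + 1) ∧ (2 * j + 1) * orderOf τ = 2 * m + 1 := by
  have := R.finite_K
  let F := FixedPoints.subfield (zpowers τ) K
  have := Fintype.ofFinite (zpowers τ)
  have h1 : Nat.card K = Nat.card F ^ orderOf τ := by
    rw [← Nat.card_zpowers, Nat.card_eq_fintype_card (α := zpowers τ),
      ← FixedPoints.finrank_eq_card (zpowers τ) K, Module.natCard_eq_pow_finrank (K := F)]
  rw [R.card_K] at h1
  obtain ⟨i, -, hi⟩ := (Nat.dvd_prime_pow Nat.prime_three).1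
    ((dvd_pow_self _ (orderOf_pos τ).ne').trans h1.symm.dvd)
  rw [hi, ← pow_mul, Nat.pow_right_inj (by norm_num)] at h1
  obtain ⟨j, rfl⟩ : Odd i := (Nat.odd_mul.1 (h1 ▸ odd_two_mul_add_one m)).1
  refine ⟨F, j, fun a => ⟨fun h => h ⟨τ, mem_zpowers τ⟩, fun h g => ?_⟩, hi, h1.symm⟩
  exact (zpowers_le_of_mem (H := MulAction.stabilizer (K ≃+* K) a) h : _) g.2

theorem exists_trace (R : H30.Ree K m T) {τ : K ≃+* K} (h1 : τ ≠ 1) (h3 : τ ^ 3 = 1) :
    ∃ t, t + τ t + τ (τ t) ≠ 0 := by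
  by_contra h
  push Not at h
  refine h1 (RingEquiv.ext fun a => ?_)
  have e : τ (τ (τ a)) = a := congrArg (fun σ : K ≃+* K => σ a) h3
  have h2 := h (a * a)
  simp only [map_mul] at h2
  have : (a - τ a) * (a - τ (τ a)) = 0 := by
    linear_combination (-2 * a - (a + τ a + τ (τ a))) * h a + h2 +
      (a * a + a * τ a + a * τ (τ a) + τ a * τ (τ a)) * R.three
  rcases mul_eq_zero.1 this with k | k
  · exact (sub_eq_zero.1 k).symm
  · exact (congrArg τ (sub_eq_zero.1 k)).trans e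

theorem ti_ree (R : H30.Ree K m T) : TI T 3 := by
  have := R.finite_G
  refine ⟨Nat.prime_three, fun U V h => R.sylow_inf_eq_bot h, fun U => ?_⟩
  rw [R.sylU.card_eq_index_normalizer, show normalizer (R.sylU : Set T) = _ from R.normalizer_U, R.index_B,
    Nat.card_congr (U.equiv R.sylU).toEquiv, R.coe_sylU, R.card_U]

end

variable {H : Type u} [Group H] [Finite H] {m : ℕ}

theorem mem_St {T : Subgroup H} [T.Normal] {l : ℕ} {U : Sylow l T} {w : H}
    (h : ∀ y ∈ U, MulAut.conjNormal w y ∈ U) : w ∈ St U :=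
  mem_normalizer_fintype fun _ ⟨y, hy, e⟩ => ⟨_, h y hy, e ▸ rfl⟩

omit [Finite H] in
theorem comm_of_fix {T : Subgroup H} [T.Normal] {w : H} {y : T} (h : MulAut.conjNormal w y = y) :
    Commute w y := mul_inv_eq_iff_eq_mul.1 (congrArg Subtype.val h)

theorem out_false (hF : JobFix.{u}) (hm : 1 ≤ m) (hN : Num m) (hs : Sub m H) {T T' : Subgroup H}
    [T.Normal] [T'.Normal] (h : Two T T') {K K' : Type} [Field K] [Field K'] {R : H30.Ree K m T}
    {R' : H30.Ree K' m T'} {w : H} {τ : K ≃+* K} {τ' : K' ≃+* K'} (hw : (orderOf w).Prime)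
    (a : Ac R (MulAut.conjNormal w) τ) (a' : Ac R' (MulAut.conjNormal w) τ') (h1 : τ ≠ 1) : False := by
  have := Fact.mk hw
  have h2 : τ ^ orderOf w = 1 := by
    have := a.pow (orderOf w)
    rw [← map_pow, pow_orderOf_eq_one, map_one] at this
    exact this.eq_one
  obtain ⟨F, j, hF1, hF2, hF3⟩ := exists_fix R τ
  rw [orderOf_eq_prime h2 h1] at hF3
  have c := fun (x : T) (y : T') => show Commute (x : H) y from
    commutator_eq_bot_iff_comm.1 h.comm _ x.2 _ y.2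
  have tri : ∀ i k b, i ≠ k → i ≠ 0 → k ≠ 0 → Cl m i (orderOf w) → Cl m k b → ∀ y : T, orderOf y = b →
      ¬ Commute w y := fun i k b e e1 e2 hi hk y hy hc => by
    have h3 : orderOf (R'.x 0 0 1 : H) = 3 :=
      (orderOf_coe _).trans (R'.orderOf_x_eq_three.2 ⟨rfl, by simp⟩)
    rw [← orderOf_coe] at hy
    refine hN.tri hs e e1 e2 hi hk hN.c3 rfl ?_
    rw [← hy, ← h3, ← (c y _).orderOf_mul_eq_mul_orderOf_of_coprime (by
      rw [hy, h3]; exact hN.cop e2 hk hN.c3)]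
    exact ord_mem (mem_centralizer_singleton_iff.2 (hc.mul_right (comm_of_fix (by
      simpa using a'.1 0 0 1))).symm)
  obtain ⟨i, hi⟩ := (hN.prime _ hw (hs w)).resolve_left fun e => by rw [e] at hF3; omega
  have h34 : Cl m 3 (orderOf w) ∨ Cl m 4 (orderOf w) → False := fun hc => by
    have h7 : 7 ≤ orderOf w := hc.elim (hN.big _ _ (by decide)) (hN.big _ _ (by decide))
    have h9 : orderOf (R.x 1 0 0 : H) = 9 := (orderOf_coe _).trans (R.orderOf_x_eq_nine.2 one_ne_zero)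
    have h3 : orderOf (R'.z : H) = 2 := (orderOf_coe _).trans R'.orderOf_z
    have := ord_of_commute3 (c _ _) (comm_of_fix (w := w) (y := R.x 1 0 0) (by simpa using a.1 1 0 0)).symm
      (comm_of_fix (w := w) (y := R'.z) ((a'.2 _).trans (congrArg R'.h (Units.ext (by simp))))).symm
      (by rw [h9, h3]; norm_num)
      (by rw [h9]; exact ((Nat.coprime_primes Nat.prime_three hw).2 (by omega)).pow_left 2)
      (by rw [h3]; exact (Nat.coprime_primes Nat.prime_two hw).2 (by omega))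
    rw [h9, h3] at this
    exact hN.n18 _ hc (hs.om this)
  fin_cases i
  · have e := (hN.zero _).1 hi
    obtain ⟨t, ht⟩ := exists_trace R h1 (e ▸ h2)
    have w3 : w ^ 3 = 1 := e ▸ pow_orderOf_eq_one w
    obtain ⟨b, v, h3⟩ : ∃ b v, ((R.x t 0 0 : H) * w) ^ 3 = R.x (t + τ t + τ (τ t)) b v := by
      refine ⟨_, _, Eq.trans ?_ (congrArg Subtype.val ((congrArg (· * R.x (τ (τ t)) (τ (τ 0)) (τ (τ 0)))
        (R.x_mul t 0 0 (τ t) (τ 0) (τ 0))).trans (R.x_mul _ _ _ _ _ _)))⟩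
      rw [← a.1 (τ t), ← a.1 t, ← mul_one (_ ^ 3), ← inv_one, ← w3]
      simp only [coe_mul, MulAut.conjNormal_apply, pow_succ, pow_zero]
      group
    have : Fact (Nat.Prime 3) := ⟨Nat.prime_three⟩
    refine hN.no27 (hs.om ⟨R.x t 0 0 * w, orderOf_eq_prime_pow (p := 3) (n := 2) (fun k => ?_) ?_⟩)
    · rw [pow_two, pow_mul, h3, ← coe_pow, OneMemClass.coe_eq_one, R.x_cube_eq_one] at k
      exact ht k
    · rw [show 3 ^ (2 + 1) = 3 * 9 from rfl, pow_mul, h3, ← coe_pow, R.x_pow_nine, coe_one]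
  · obtain ⟨k, hk, e⟩ := a.n hm
    have hU : ∀ y ∈ R.U, MulAut.conjNormal w y ∈ R.U := fun _ ⟨t, b, v, e⟩ => e ▸ a.1 t b v ▸ R.x_mem _ _ _
    have hc : Nat.card ↥((R.sylU : Subgroup T).map T.subtype ⊓ centralizer {w}) = 3 ^ (3 * (2 * j + 1)) := by
      rw [mul_comm 3, pow_mul, ← hF2, pow_succ', pow_two, ← Nat.card_prod, ← Nat.card_prod]
      refine (Nat.card_eq_of_bijective (fun p : F × F × F => (⟨R.x p.1 p.2.1 p.2.2,
        mem_map_of_mem _ (R.x_mem _ _ _), mem_centralizer_singleton_iff.2 (comm_of_fix (by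
          rw [a.1, (hF1 _).1 p.1.2, (hF1 _).1 p.2.1.2, (hF1 _).1 p.2.2.2])).symm⟩ :
        ↥((R.sylU : Subgroup T).map T.subtype ⊓ centralizer {w}))) ⟨fun p p' e => ?_, ?_⟩).symm
      · obtain ⟨e1, e2, e3⟩ := R.x_inj (Subtype.ext (Subtype.mk.inj e))
        exact Prod.ext (Subtype.ext e1) (Prod.ext (Subtype.ext e2) (Subtype.ext e3))
      · rintro ⟨_, ⟨_, ⟨t, b, v, rfl⟩, rfl⟩, hy⟩
        obtain ⟨e1, e2, e3⟩ := R.x_inj ((a.1 t b v).symm.trans (Subtype.ext
          (mul_inv_eq_iff_eq_mul.2 (mem_centralizer_singleton_iff.1 hy).symm)))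
        exact ⟨(⟨t, (hF1 _).2 e1⟩, ⟨b, (hF1 _).2 e2⟩, ⟨v, (hF1 _).2 e3⟩), rfl⟩
    rcases (hF H T 3 h.l (ti_ree R)).2.2.1 w R.sylU (R.n • R.sylU) (fun k => R.n_not_mem_B
      (R.normalizer_U.le (Sylow.smul_eq_iff_mem_normalizer.1 k.symm))) (mem_St hU)
      (mem_St fun y ⟨u, hu, e'⟩ => ⟨_, R.H_conj_U hk (hU u hu), by
        rw [← e']
        change R.n * _ * R.n⁻¹ = MulAut.conjNormal w (R.n * u * R.n⁻¹)
        rw [map_mul, map_mul, map_inv, e]
        group⟩) with k | k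
    · rw [k, card_bot] at hc
      exact (Nat.one_lt_pow (by omega) (by norm_num)).ne hc
    · obtain ⟨i, h0, h3, h7⟩ := hN.seven
      obtain ⟨y, hy⟩ := ord_of_prime (G := ↥(T ⊓ centralizer {w})) (p := 7) (by norm_num)
        (Dvd.dvd.trans (by
          rw [hc, pow_mul]
          exact (by norm_num : 7 ∣ 3 ^ 3 + 1).trans
            (by simpa only [one_pow] using (odd_two_mul_add_one j).nat_add_dvd_pow_add_pow (3 ^ 3) 1)) k)
      exact tri 1 i 7 h3.symm (by decide) h0 hi h7 ⟨y, y.2.1⟩ ((orderOf_coe _).symm.trans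
        ((orderOf_coe y).trans hy)) (mem_centralizer_singleton_iff.1 y.2.2).symm
  · have h7 := hN.big 2 _ (by decide) hi
    rcases j.eq_zero_or_pos with rfl | hj
    · have h3 := (hN.clB _ hw (by omega)).1 hi
      rw [← hF3, mul_zero, zero_add, one_mul, ← ZMod.natCast_eq_zero_iff] at h3
      push_cast at h3
      rw [ZMod.pow_card] at h3
      have := Nat.le_of_dvd (by norm_num) ((ZMod.natCast_eq_zero_iff 4 _).1 (by
        push_cast; linear_combination h3))
      omega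
    obtain ⟨t, ht, -, tq, -⟩ := H84.RN.param hj
    obtain ⟨b, hb, hd⟩ := Nat.exists_prime_and_dvd (n := 6 * t ^ 2 + 6 * t + 1) (by omega)
    have h3 : b ∣ 3 ^ (2 * j + 1) - 1 := hd.trans ⟨2, by omega⟩
    have := R.finite_K
    obtain ⟨κ, hκ⟩ := ord_of_prime (G := Fˣ) hb (by rwa [Nat.card_units, hF2])
    refine tri 2 1 b (by decide) (by decide) (by decide) hi ((hN.clA b hb (by rintro rfl; omega)).2
      (h3.trans (by rw [← hF3, pow_mul]; exact Nat.sub_one_dvd_pow_sub_one _ _)))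
      (R.h (Units.map (F.subtype : F →* K) κ)) ?_ (comm_of_fix ((a.2 _).trans (congrArg R.h
        (Units.ext ((hF1 _).1 (κ : F).2)))))
    exact (orderOf_injective _ R.h_injective _).trans ((orderOf_injective _
      (Units.map_injective F.subtype_injective) _).trans hκ)
  · exact h34 (.inl hi)
  · exact h34 (.inr hi)

theorem jobOut (hA : JobAut.{u}) (hF : JobFix.{u}) : JobOut.{u} := by
  rintro m hm hN H _ _ T T' hs h ⟨K, _, _, hK, ⟨e⟩⟩ ⟨K', _, _, hK', ⟨e'⟩⟩
  have R := H73.HKS.reeMap (H30.reeG2 hK) e.symm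
  have R' := H73.HKS.reeMap (H30.reeG2 hK') e'.symm
  have := h.l.nT
  have := h.r.nT
  have cen : ∀ (L : Subgroup H) [L.Normal] (w : H), MulAut.conjNormal (H := L) w = 1 ↔
      w ∈ centralizer (L : Set H) := fun L _ w =>
    ⟨fun k y hy => (comm_of_fix (y := ⟨y, hy⟩) (DFunLike.congr_fun k _)).symm.eq, fun k => MulEquiv.ext fun y =>
      Subtype.ext (mul_inv_eq_iff_eq_mul.2 (k y y.2).symm)⟩
  refine eq_top_iff.2 fun w₀ _ => ?_
  obtain ⟨g, τ, a⟩ := (hA K m T R hm h.l.simple).1 (MulAut.conjNormal w₀)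
  obtain ⟨g', τ', a'⟩ := (hA K' m T' R' hm h.r.simple).1 (MulAut.conjNormal w₀)
  have b : Ac R (MulAut.conjNormal ((g' : H) * (g * w₀))) τ := by
    rw [map_mul, map_mul, (cen T g').2 (commutator_eq_bot_iff_le_centralizer.1 h.symm.comm g'.2),
      one_mul, MulAut.conjNormal_val]
    exact a
  have b' : Ac R' (MulAut.conjNormal ((g' : H) * (g * w₀))) τ' := by
    rw [map_mul, map_mul, (cen T' g).2 (commutator_eq_bot_iff_le_centralizer.1 h.comm g.2),
      one_mul, MulAut.conjNormal_val]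
    exact a'
  suffices k : (g' : H) * (g * w₀) = 1 by
    rw [← mul_assoc] at k
    exact eq_inv_of_mul_eq_one_right k ▸ inv_mem (mul_mem (mem_sup_right g'.2) (mem_sup_left g.2))
  generalize (g' : H) * (g * w₀) = w at b b'
  by_contra hw
  obtain ⟨s, h1, h2⟩ := Nat.exists_prime_and_dvd (mt orderOf_eq_one_iff.1 hw)
  have h3 := orderOf_pow_orderOf_div (orderOf_pos w).ne' h2
  have c := b.pow (orderOf w / s)
  have c' := b'.pow (orderOf w / s)
  rw [← map_pow] at c c'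
  by_cases k : τ ^ (orderOf w / s) = 1
  · by_cases k' : τ' ^ (orderOf w / s) = 1
    · rw [k] at c
      rw [k'] at c'
      rw [mem_bot.1 (h.cent.le ⟨(cen T _).1 ((hA K m T R hm h.l.simple).2 _ c.1 c.2),
        (cen T' _).1 ((hA K' m T' R' hm h.r.simple).2 _ c'.1 c'.2)⟩), orderOf_one] at h3
      exact h1.ne_one h3.symm
    · exact out_false hF hm hN hs h.symm (by rwa [h3]) c' c k'
  · exact out_false hF hm hN hs h (by rwa [h3]) c c' k

end H70.RR
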