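import Cfsg.Agent.H70.ReeSpec

/-! Team ord, part 3: product decomposition and assembly of S3625. -/

set_option autoImplicit false

namespace H70.Sq

open Cfsg Subgroup H24 H14

universe u

variable {ι : Type} [Fintype ι] [DecidableEq ι] {m : ι → ℕ}

section
variable {H : Type*} [Group H] {T : ι → Subgroup H}

omit [Fintype ι] in
theorem exists_ord_prod (hc : ∀ i j, i ≠ j → ⁅T i, T j⁆ = ⊥) {e : ι → ℕ}
    (he : ∀ i j, i ≠ j → (e i).Coprime (e j)) (h : ∀ i, Ord (T i) (e i)) (s : Finset ι) :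
    ∃ y ∈ ⨆ i ∈ s, T i, orderOf y = ∏ i ∈ s, e i := by
  induction s using Finset.induction_on with
  | empty => exact ⟨1, one_mem _, by simp⟩
  | insert a s ha ih =>
    obtain ⟨y, hy, e1⟩ := ih
    obtain ⟨x, e2⟩ := h a
    rw [← orderOf_coe] at e2
    have k : (⨆ i ∈ s, T i) ≤ centralizer (T a : Set H) := iSup₂_le fun i hi =>
      commutator_eq_bot_iff_le_centralizer.1 (hc i a fun e => ha (e ▸ hi))
    rw [Finset.iSup_insert, Finset.prod_insert ha]
    exact ⟨x * y, mul_mem_sup x.2 hy, by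
      rw [(show Commute (x : H) y from k hy x x.2).orderOf_mul_eq_mul_orderOf_of_coprime (by
        rw [e1, e2]; exact Nat.Coprime.prod_right fun i hi => he a i fun e => ha (e ▸ hi)), e1, e2]⟩

omit [Fintype ι] in
theorem sup_iInf_cent (hc : ∀ i j, i ≠ j → ⁅T i, T j⁆ = ⊥)
    (h : ∀ i, T i ⊔ centralizer (T i : Set H) = ⊤) (s : Finset ι) :
    (⨆ i ∈ s, T i) ⊔ (⨅ i ∈ s, centralizer (T i : Set H)) = ⊤ := by
  induction s using Finset.induction_on with
  | empty => simp
  | insert a s ha ih =>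
    rw [Finset.iSup_insert, Finset.iInf_insert, eq_top_iff, ← ih]
    refine sup_le (le_sup_right.trans le_sup_left) fun b hb => ?_
    obtain ⟨t, ht, c, hc', rfl⟩ := mem_sup_of_commutator_eq_bot (commutator_eq_bot_symm
      (commutator_eq_bot_iff_le_centralizer.2 le_rfl)) ((h a).ge (mem_top b))
    have k : T a ≤ ⨅ i ∈ s, centralizer (T i : Set H) := le_iInf₂ fun i hi =>
      commutator_eq_bot_iff_le_centralizer.1 (hc a i fun e => ha (e ▸ hi))
    exact mul_mem_sup (mem_sup_left ht) ⟨hc', (mul_mem_cancel_left (k ht)).1 hb⟩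

omit [DecidableEq ι] in
theorem equiv_pi (hc : ∀ i j, i ≠ j → ⁅T i, T j⁆ = ⊥)
    (h : ∀ i, T i ⊓ centralizer (T i : Set H) = ⊥) (ht : ⨆ i, T i = ⊤) :
    Nonempty (H ≃* ∀ i, T i) :=
  have k : Pairwise fun i j => ∀ x y : H, x ∈ T i → y ∈ T j → Commute x y :=
    fun i j hij x y hx hy => commutator_eq_bot_iff_comm.1 (hc i j hij) x hx y hy
  ⟨(MulEquiv.ofBijective (noncommPiCoprod k) ⟨injective_noncommPiCoprod_of_iSupIndep
    fun i => disjoint_iff.2 (le_bot_iff.1 ((inf_le_inf_left _ (iSup₂_le fun j hj =>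
      commutator_eq_bot_iff_le_centralizer.1 (hc j i hj))).trans (h i).le)),
    MonoidHom.range_eq_top.1 (noncommPiCoprod_range.trans ht)⟩).symm⟩

end

omit [DecidableEq ι] in
theorem OmR.of_dvd {a b : ℕ} (h : OmR m b) (hd : a ∣ b) : OmR m a := h.imp fun _ h => hd.trans h

omit [DecidableEq ι] in
theorem SubR.om {G : Type*} [Group G] (h : SubR m G) {n : ℕ} (hn : Ord G n) : OmR m n :=
  hn.elim fun g e => e ▸ h g

omit [DecidableEq ι] in
theorem SubR.of_surjective {G G' : Type*} [Group G] [Group G'] (h : SubR m G) {f : G →* G'}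
    (hf : Function.Surjective f) : SubR m G' := fun x => by
  obtain ⟨g, rfl⟩ := hf x
  exact (h g).of_dvd (orderOf_map_dvd f g)

omit [Fintype ι] [DecidableEq ι] in
theorem Good.not_three (h : Good m) (i : ι) : 1 ≤ m i ∧ ¬ 3 ∣ 2 * m i + 1 := by
  have := h.big i
  exact ⟨by omega, fun e => by
    have := (Nat.prime_dvd_prime_iff_eq Nat.prime_three (h.prime i)).1 e; omega⟩

theorem dvd_rmu (n : ℕ) (x : Fin 4) : ∃ y, rc n x ∣ rmu n y := by
  fin_cases x
  exacts [⟨0, dvd_mul_left _ _⟩, ⟨1, dvd_mul_left _ _⟩, ⟨2, dvd_rfl⟩, ⟨3, dvd_mul_left _ _⟩]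

theorem dec_of (hG : JobRG.{u}) (hg : Good m) (hN : RNum m) {H : Type u} [Group H] [Finite H]
    (hs : SS H) (hS : SubR m H) {T : ι → Subgroup H} (hO : ∀ i, Own m i (T i))
    (hR : ∀ i, IsRee (m i) (T i)) : Dec m T := by
  have g := fun i => hG _ (hg.not_three i).1 (hg.not_three i).2 _ (hR i)
  have pr : ∀ i, ∃ x s, s.Prime ∧ s ∣ rc (m i) x ∧ s ∣ Nat.card (T i) ∧
      ∀ L : Subgroup H, IsComponent L → s ∣ Nat.card L → L = T i := fun i => by
    obtain ⟨-, x₀, h⟩ := hO i
    obtain ⟨x, hx⟩ := exists_ne x₀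
    obtain ⟨s, h1, h2⟩ := Nat.exists_prime_and_dvd (hN.one_lt i x).ne'
    obtain ⟨⟨y, hy⟩, h3⟩ := h x hx
    exact ⟨x, s, h1, h2, h2.trans (hy ▸ orderOf_dvd_natCard y), h3 s h1 h2⟩
  have nT : ∀ i, (T i).Normal := fun i => by
    obtain ⟨x, s, -, -, h1, h2⟩ := pr i
    exact normalizer_eq_top_iff.1 (eq_top_iff.2 fun a _ => H98.cj_eq_self_iff.1
      (h2 _ (comp_cj (hO i).1 a) (by rwa [H98.card_cj])))
  have hc : ∀ i j, i ≠ j → ⁅T i, T j⁆ = ⊥ := fun i j hij => comp_commute_of_ne (hO i).1 (hO j).1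
    fun e => hij <| hg.inj <| by
      obtain ⟨x, s, h0, h1, h2, -⟩ := pr i
      exact (hN.ree (m j) (hg.not_three j).1 (fun s hs hd => hS.om (ord_of_prime hs
        (((g j).card ▸ hd).trans (card_subgroup_dvd_card _)))) i x s h0 h1
        ((g j).card ▸ e ▸ h2)).symm
  have h1 : ∀ i, T i ⊔ centralizer (T i : Set H) = ⊤ := fun i => eq_top_iff.2 fun a _ =>
    mem_sup_of_out (by
      rw [(g i).out]
      refine ((hg.prime i).coprime_iff_not_dvd.2 fun e => ?_).symm
      have := hg.big i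
      rcases hN.prime _ (hg.prime i) ((hS a).of_dvd e) with k | k | k | ⟨j, x, k⟩
      exacts [by omega, by omega, by omega, hg.ndvd j i x k])
  have h2 : ⨅ i ∈ Finset.univ, centralizer (T i : Set H) = ⊥ := by
    by_contra hn
    have : (⨅ i ∈ Finset.univ, centralizer (T i : Set H)).Normal :=
      normal_iInf_normal fun _ => normal_iInf_normal fun _ => inferInstance
    obtain ⟨L, hL, hle⟩ := hs.exists_cmp this.isSubnormal hn
    obtain ⟨_, l2⟩ := hs.simple hL
    obtain ⟨z, hz⟩ := ord_of_prime Nat.prime_two (even_card_of_nonabelian l2).two_dvd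
    obtain ⟨y, hy, e⟩ := exists_ord_prod hc (e := fun i => rc (m i) 2)
      (fun i j hij => hN.cop i 2 j 2 fun e => hij (congrArg Prod.fst e)) (fun i => (g i).full 2)
      Finset.univ
    have k : (⨆ i ∈ Finset.univ, T i) ≤ centralizer {(z : H)} := iSup₂_le fun i hi t ht =>
      mem_centralizer_singleton_iff.2 ((iInf₂_le i hi : _ ≤ centralizer (T i : Set H)) (hle z.2) t ht)
    rw [← orderOf_coe] at hz
    refine hN.sel2 (fun i => rc (m i) 2) 2 (fun i => ⟨hN.one_lt i 2, dvd_rfl⟩) (.inl rfl) (hS.om ?_)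
    rw [← hz, ← e]
    exact ord_of_commute (mem_centralizer_singleton_iff.1 (k hy)).symm (by
      rw [hz, e]
      exact Nat.Coprime.prod_right fun i _ =>
        ((hN.cop210 i 2).coprime_dvd_right (by norm_num)).symm)
  have h3 := sup_iInf_cent hc h1 Finset.univ
  rw [h2, sup_bot_eq] at h3
  exact ⟨nT, hR, hc, by simpa using h3⟩

theorem rad_eq_bot (h4 : JobR4.{u}) (hg : Good m) (hN : RNum m) {G : Type u} [Group G] [Finite G]
    (hS : SubR m G) {T : ι → Subgroup (G ⧸ solvableRadical G)} (hD : Dec m T) :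
    solvableRadical G = ⊥ := by
  by_contra hn
  obtain ⟨B, hB, -, hlt, hm⟩ := H2.exists_chief_factor_below (bot_lt_iff_ne_bot.2 hn)
  have hk := hlt.le.trans (QuotientGroup.ker_mk' _).ge
  have hf := QuotientGroup.mk'_surjective B
  have e : (QuotientGroup.lift B _ hk).ker = (solvableRadical G).map (QuotientGroup.mk' B) := by
    rw [QuotientGroup.ker_lift, QuotientGroup.ker_mk']
  have := H2.isSolvable_map (solvableRadical G) (QuotientGroup.mk' B)
  have := (H4.solRad_normal G).map _ hf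
  have h0 : (solvableRadical G).map (QuotientGroup.mk' B) ≠ ⊥ := fun e => hlt.not_ge (by
    rwa [Subgroup.map_eq_bot_iff, QuotientGroup.ker_mk'] at e)
  have hmin : ∀ N : Subgroup (G ⧸ B), N.Normal → N ≤ (solvableRadical G).map (QuotientGroup.mk' B) →
      N = ⊥ ∨ N = (solvableRadical G).map (QuotientGroup.mk' B) := fun N hN hle => by
    have e := map_comap_eq_self_of_surjective hf N
    rcases hm (N.comap (QuotientGroup.mk' B)) inferInstance (QuotientGroup.le_comap_mk' B N) (by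
      refine (comap_mono hle).trans ?_
      rw [comap_map_eq, QuotientGroup.ker_mk']
      exact sup_le le_rfl hlt.le) with h1 | h1
    · exact Or.inl (by rw [← e, h1, QuotientGroup.map_mk'_self])
    · exact Or.inr (by rw [← e, h1])
  obtain ⟨r, hr, -, he, -⟩ := H2.exists_elementaryAbelian_of_minimal_normal h0 hmin
  exact h0 (e ▸ h4 ι m hg hN _ _ (QuotientGroup.lift B _ hk) T r
    (QuotientGroup.lift_surjective_of_surjective B _ (QuotientGroup.mk'_surjective _) hk) hD
    (hS.of_surjective hf) hr (e ▸ he) (e ▸ hmin))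

theorem s3625 (h0 : JobRN0) (hN : JobRN) (hG : JobRG.{0}) (h1 : JobR1.{0}) (h2 : JobR2.{0})
    (h4 : JobR4.{0}) : ∃ p : ℕ → ℕ, StrictMono p ∧ (∀ i, (p i).Prime ∧ Odd (p i)) ∧
      ∀ (k : ℕ) (K : Fin k → Type) [∀ i, Field (K i)] [∀ i, Fintype (K i)],
        (∀ i, Fintype.card (K i) = 3 ^ (p i)) → ∀ (G : Type) [Group G] [Finite G],
          Set.range (orderOf : G → ℕ) = Set.range
            (orderOf : ((i : Fin k) → Lie.twistedG2 (K i) (3 ^ ((p i - 1) / 2))) → ℕ) →
          Nonempty (G ≃* ((i : Fin k) → Lie.twistedG2 (K i) (3 ^ ((p i - 1) / 2)))) := by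
  obtain ⟨p, p1, p2, p3⟩ := h0
  refine ⟨p, p1, p2, fun k K _ _ hK G _ _ h => ?_⟩
  have hg := p3 k
  have n := hN _ _ hg
  have hK' : ∀ i : Fin k, Fintype.card (K i) = 3 ^ (2 * ((p i - 1) / 2) + 1) := fun i => by
    obtain ⟨a, ha⟩ := (p2 i).2
    rw [hK, show 2 * ((p i - 1) / 2) + 1 = p i by omega]
  have g := fun i => hG _ (hg.not_three i).1 (hg.not_three i).2 _
    ⟨K i, inferInstance, inferInstance, hK' i, ⟨MulEquiv.refl _⟩⟩
  have hS : SubR (fun i : Fin k => (p i - 1) / 2) G := fun a => by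
    obtain ⟨b, e⟩ := h.le ⟨a, rfl⟩
    choose f hf using fun i => (g i).sub (b i)
    exact ⟨f, by
      rw [← e, Pi.orderOf]
      exact Finset.lcm_dvd fun i hi => (hf i).trans (Finset.dvd_lcm hi)⟩
  have hF : FullR (fun i : Fin k => (p i - 1) / 2) G := fun i x => by
    obtain ⟨y, hy⟩ := dvd_rmu ((p i - 1) / 2) x
    obtain ⟨a, ha⟩ := (g i).full y
    exact Ord.of_dvd (h.ge ⟨MonoidHom.mulSingle _ i a, (orderOf_injective _
      (fun _ _ e => by simpa using congrFun e i) a).trans ha⟩) hy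
  choose T hT using h1 _ _ n G hS hF
  have hS' := hS.of_surjective (QuotientGroup.mk'_surjective (solvableRadical G))
  have hR := h2 _ _ n _ (ss_quot G) hS' T hT
  have hD := dec_of hG hg n (ss_quot G) hS' hT hR
  have g' := fun i => hG _ (hg.not_three i).1 (hg.not_three i).2 _ (hR i)
  exact ⟨((QuotientGroup.quotientBot.symm.trans (QuotientGroup.quotientMulEquivOfEq
    (rad_eq_bot h4 hg n hS hD).symm)).trans (equiv_pi hD.comm (fun i =>
      have := (g' i).simple
      inf_cent_eq_bot (g' i).nab) hD.top).some).trans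
    (MulEquiv.piCongrRight fun i => ((g' i).congr _ (hK' i)).some)⟩

end H70.Sq
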