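import Cfsg.Agent.Base

/-! Entries of conjugates of a non-scalar matrix under the special linear group; traces of products. -/

open Matrix

namespace H70

variable {F : Type*} [Field F] {ι : Type*} [Fintype ι] [DecidableEq ι]

theorem transv_conj_apply {a b : ι} (h : a ≠ b) (c : F) (A : SpecialLinearGroup ι F) (i k : ι) :
    (SpecialLinearGroup.transvection h c * A * (SpecialLinearGroup.transvection h c)⁻¹).1 i k =
      A.1 i k + (if i = a then c * A.1 b k else 0) - (if k = b then c * A.1 i a else 0) -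
        (if i = a ∧ k = b then c * c * A.1 b a else 0) := by
  rw [SpecialLinearGroup.transvection_inv]
  change (transvection a b c * A.1 * transvection a b (-c)) i k = _
  by_cases h1 : i = a <;> by_cases h2 : k = b <;> subst_vars <;> simp [*] <;> ring

theorem exists_conj_entry_ne (h3 : 3 ≤ Fintype.card ι) {A : SpecialLinearGroup ι F} (hA : ∀ c : F, A.1 ≠ c • 1)
    {i k : ι} (hik : i ≠ k) : ∃ g : SpecialLinearGroup ι F, (g * A * g⁻¹).1 i k ≠ 0 := by
  by_contra hn
  push Not at hn
  let Z : ι → ι → Prop := fun i k => ∀ g : SpecialLinearGroup ι F, (g * A * g⁻¹).1 i k = 0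
  have e : ∀ t g : SpecialLinearGroup ι F, t * g * A * (t * g)⁻¹ = t * (g * A * g⁻¹) * t⁻¹ := fun t g => by group
  have z1 : ∀ i k b, Z i k → i ≠ k → b ≠ k → Z b k := fun i k b h h1 h2 g => by
    by_cases hb : i = b
    · exact hb ▸ h g
    have := h (SpecialLinearGroup.transvection hb 1 * g)
    rw [e, transv_conj_apply, h g] at this
    simpa [h2.symm] using this
  have z2 : ∀ i k a, Z i k → i ≠ k → a ≠ i → Z i a := fun i k a h h1 h2 g => by
    by_cases hb : a = k
    · exact hb ▸ h g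
    have := h (SpecialLinearGroup.transvection hb 1 * g)
    rw [e, transv_conj_apply, h g] at this
    simpa [h2.symm] using this
  have z3 : ∀ a b, a ≠ b → Z a b := fun a b hab => by
    by_cases ha : a = k
    · obtain ⟨c, hc⟩ : ∃ c, c ∉ ({i, k} : Finset ι) := by
        by_contra h
        push Not at h
        have := (Finset.card_le_card (fun a _ => h a : Finset.univ ⊆ _)).trans Finset.card_le_two
        rw [Finset.card_univ] at this
        omega
      simp only [Finset.mem_insert, Finset.mem_singleton, not_or] at hc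
      exact z2 _ _ _ (z1 _ _ a (z2 _ _ c hn hik hc.1) (Ne.symm hc.1) (ha ▸ Ne.symm hc.2)) (ha ▸ Ne.symm hc.2) hab.symm
    · exact z2 _ _ _ (z1 _ _ a hn hik ha) ha hab.symm
  refine hA (A.1 i i) ?_
  ext a b
  by_cases hab : a = b
  · subst hab
    by_cases ha : a = i
    · simp [ha]
    have := z3 a i ha (SpecialLinearGroup.transvection ha 1 * 1)
    rw [e, transv_conj_apply, z3 a i ha, z3 i a (Ne.symm ha)] at this
    simpa [sub_eq_zero, eq_comm (a := A.1 i i)] using this
  · simpa [hab] using z3 a b hab 1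

theorem exists_conj_trace (h3 : 3 ≤ Fintype.card ι) {A B : SpecialLinearGroup ι F} (hA : ∀ c : F, A.1 ≠ c • 1)
    (hB : ∀ c : F, B.1 ≠ c • 1) (r : F) :
    ∃ g h : SpecialLinearGroup ι F, (g * A * g⁻¹ * (h * B * h⁻¹)).1.trace = r := by
  obtain ⟨i, j, k, hij, hik, hjk⟩ := Fintype.two_lt_card_iff.1 h3
  obtain ⟨g0, h0⟩ := exists_conj_entry_ne h3 hA hik
  obtain ⟨h, h1⟩ := exists_conj_entry_ne h3 hB hij
  obtain ⟨g, g1, g2⟩ : ∃ g : SpecialLinearGroup ι F, (g * A * g⁻¹).1 i j = 0 ∧ (g * A * g⁻¹).1 i k ≠ 0 := by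
    refine ⟨SpecialLinearGroup.transvection hjk.symm ((g0 * A * g0⁻¹).1 i j / (g0 * A * g0⁻¹).1 i k) * g0, ?_⟩
    have e : ∀ t g : SpecialLinearGroup ι F, t * g * A * (t * g)⁻¹ = t * (g * A * g⁻¹) * t⁻¹ := fun t g => by group
    rw [e, transv_conj_apply, transv_conj_apply]
    generalize g0 * A * g0⁻¹ = X at h0
    simp [hik, hjk.symm, h0]
  have key : ∀ s t : F, ∃ h' : SpecialLinearGroup ι F, (g * A * g⁻¹ * (h' * B * h'⁻¹)).1.trace =
      ((g * A * g⁻¹).1 * (h * B * h⁻¹).1).trace +
        s * (((h * B * h⁻¹).1 * (g * A * g⁻¹).1) i j - ((g * A * g⁻¹).1 * (h * B * h⁻¹).1) i j) +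
        t * (((h * B * h⁻¹).1 * (g * A * g⁻¹).1) i k - ((g * A * g⁻¹).1 * (h * B * h⁻¹).1) i k) -
        t * (g * A * g⁻¹).1 i k * (s * (h * B * h⁻¹).1 i j + t * (h * B * h⁻¹).1 i k) := fun s t => by
    refine ⟨SpecialLinearGroup.transvection hij.symm s * SpecialLinearGroup.transvection hik.symm t * h, ?_⟩
    have e : ∀ t u g : SpecialLinearGroup ι F, t * u * g * B * (t * u * g)⁻¹ = t * u * (g * B * g⁻¹) * (u⁻¹ * t⁻¹) :=
      fun t u g => by group
    rw [e, SpecialLinearGroup.transvection_inv, SpecialLinearGroup.transvection_inv]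
    generalize g * A * g⁻¹ = X at g1
    generalize h * B * h⁻¹ = Y
    change (X.1 * ((1 + single j i s) * (1 + single k i t) * Y.1 * ((1 + single k i (-t)) * (1 + single j i (-s))))).trace = _
    have e1 : (1 + single j i s) * (1 + single k i t) = 1 + single j i s + single k i t := by
      simp [mul_add, add_mul, hik]
    have e2 : (1 + single k i (-t)) * (1 + single j i (-s)) = 1 + single k i (-t) + single j i (-s) := by
      simp [mul_add, add_mul, hij]
    have e3 : ∀ (a : ι) (c : F), (X.1 * (single a i c * Y.1)).trace = c * (Y.1 * X.1) i a := fun a c => by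
      rw [trace_mul_comm, mul_assoc, trace_single_mul, smul_eq_mul]
    have e4 : ∀ (a : ι) (c : F) (M : Matrix ι ι F), (M * single a i c).trace = c * M i a := fun a c M => by
      rw [trace_mul_comm, trace_single_mul, smul_eq_mul]
    rw [e1, e2]
    simp only [mul_add, add_mul, one_mul, mul_one, trace_add, single_mul_mul_single, e3, e4, ← mul_assoc X.1 Y.1, g1]
    ring
  generalize ((g * A * g⁻¹).1 * (h * B * h⁻¹).1).trace = c at key
  generalize ((h * B * h⁻¹).1 * (g * A * g⁻¹).1) i j - ((g * A * g⁻¹).1 * (h * B * h⁻¹).1) i j = α at key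
  generalize ((h * B * h⁻¹).1 * (g * A * g⁻¹).1) i k - ((g * A * g⁻¹).1 * (h * B * h⁻¹).1) i k = β at key
  by_cases hα : α = 0
  · obtain ⟨h', e⟩ := key ((c + β - (g * A * g⁻¹).1 i k * (h * B * h⁻¹).1 i k - r) /
      ((g * A * g⁻¹).1 i k * (h * B * h⁻¹).1 i j)) 1
    exact ⟨g, h', by rw [e, hα]; field_simp; ring⟩
  · obtain ⟨h', e⟩ := key ((r - c) / α) 0
    exact ⟨g, h', by rw [e]; field_simp; ring⟩

theorem not_scalar_of_ne_one {A : SpecialLinearGroup ι F} (h : (A : ProjectiveSpecialLinearGroup ι F) ≠ 1) (c : F) :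
    A.1 ≠ c • 1 := fun k => h ((QuotientGroup.eq_one_iff _).2 (Subgroup.mem_center_iff.2
    fun B => Subtype.ext (by change B.1 * A.1 = A.1 * B.1; rw [k]; simp)))

theorem trace_eq_zero_of_isConj {A B : SpecialLinearGroup ι F}
    (h : IsConj (A : ProjectiveSpecialLinearGroup ι F) B) (h0 : A.1.trace = 0) : B.1.trace = 0 := by
  obtain ⟨c, hc⟩ := isConj_iff.1 h
  obtain ⟨c, rfl⟩ := QuotientGroup.mk_surjective c
  rw [← QuotientGroup.mk_inv, ← QuotientGroup.mk_mul, ← QuotientGroup.mk_mul, QuotientGroup.eq] at hc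
  obtain ⟨r, -, hr⟩ := Matrix.SpecialLinearGroup.mem_center_iff.1 hc
  have : B.1 = c.1 * A.1 * (c⁻¹).1 * scalar ι r := by
    rw [hr]
    exact congrArg Subtype.val (mul_inv_cancel_left (c * A * c⁻¹) B).symm
  rw [this, scalar_apply, ← smul_eq_mul_diagonal, trace_smul, trace_mul_cycle,
    show (c⁻¹).1 * c.1 = 1 from congrArg Subtype.val (inv_mul_cancel c), one_mul, h0, smul_zero]

end H70
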