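import Cfsg.Agent.H70.XpR

/-! Jobs XP-A1, XP-A2, XP-A3: all conjugates of `Z` lie in `Q`. -/

set_option autoImplicit false
set_option linter.unusedSectionVars false

namespace H70.Xp

open Cfsg H92 H93 Subgroup H92.Es H92.P5 H87.F3 H87.XP H44.F3
open scoped commutatorElement

universe u

variable {Ω : Type u} [Group Ω] [Finite Ω] {p : ℕ} [hp : Fact p.Prime]
  {S Q Z E G M A V : Subgroup Ω} {a x y w : Ω}

theorem conj_com (g x : Ω) : g * x * g⁻¹ = ⁅g, x⁆ * x := by simp [commutatorElement_def]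

theorem com_cj' (ha : x ∈ cj a Q) (hb : y ∈ cj a Q) (h : XS p S Q Z) : ⁅x, y⁆ ∈ cj a Z := by
  have := conj_mem_cj a (h.com (mem_cj.1 ha) (mem_cj.1 hb))
  rw [← com_cj] at this
  simpa [mul_assoc] using this

theorem fixc (h1 : ⁅⁅x, w⁆, y⁆ = 1) (h2 : ⁅x, w⁆ ∈ Ct V) (h3 : ⁅x, y⁆ ∈ V) (h4 : w ∈ Ct V)
    (h5 : ⁅w, y⁆ ∈ V) (h6 : V ≤ Ct V) : ⁅x, ⁅w, y⁆⁆ = 1 := by
  have e := com_cj x w y
  rw [conj_com x w, conj_com x y, com_mul', com_ct (mul_mem h2 h4) h3, one_mul, com_mul, h1, mul_one,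
    conj_eq_of_Ct h2 h5, conj_eq_of_Ct (h6 h3) h5, conj_com x] at e
  exact mul_eq_right.1 e.symm

theorem jobA1 : JobA1.{u} := by
  intro Ω _ _ p hp S Q Z E G h hQ
  have X := h.toXS
  obtain ⟨a, ha, na⟩ := SetLike.not_le_iff_exists.1 h.mv
  have cZ : ∀ g ∈ G, cj g Z ≤ E ∧ E ≤ Ct (cj g Z) := fun g hg =>
    ⟨cj_eq_of_Nm (h.nm hg) ▸ cj_mono g h.zE, cj_eq_of_Nm (h.nm hg) ▸ cj_Ct g Z ▸ cj_mono g (h.lE.trans X.cen)⟩
  have s' : Sp p (cj a Z) ⊥ := by simpa using X.sZ.cj a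
  have VQ : Z ⊔ cj a Z ≤ Q := sup_le X.lZ (hQ a ha)
  have VE : Z ⊔ cj a Z ≤ E := sup_le h.zE (cZ a ha).1
  have cV : E ≤ Ct (Z ⊔ cj a Z) := fun e he => mem_Ct_sup.2 ⟨X.cen (h.lE he), (cZ a ha).2 he⟩
  obtain ⟨sW, bot⟩ := two_min X.sZ s' (fun e => na (mem_Nm_of_le e)) ((hQ a ha).trans (X.lQ.trans X.nZ))
    (X.pg.to_le (VQ.trans X.lQ))
  set V := Z ⊔ cj a Z with hV
  obtain ⟨v, v1, v2⟩ := SetLike.not_le_iff_exists.1 h.nQ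
  have nV : S ≤ Nm V := X.nm_of le_sup_left VQ (h.lE v1) v2 (Ct_le_Nm _ (cV v1))
  have eE : S ⊓ Ct V = E := by
    by_contra ne
    obtain ⟨x, ⟨⟨x1, x2⟩, x3⟩, x4⟩ := SetLike.exists_of_lt (lt_Nm (X.pg.to_le inf_le_left)
      (lt_of_le_of_ne (le_inf h.lE cV) (Ne.symm ne)))
    exact na (h.se a ha x ⟨x1, x3⟩ x4 (Ct_le_Nm _ (Ct_anti le_sup_right x2)))
  have nE : S ≤ Nm E := fun s hs => eE ▸ mem_Nm_inf (le_Nm S hs) (mem_Nm_Ct (nV hs))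
  have ES : ¬ S ≤ E := fun e => na (X.nm_Z (le_antisymm h.lE e ▸ h.nm ha))
  obtain ⟨z, z1, z2⟩ := s'.ex
  have cQ : Nat.card Q ≤ p * Nat.card (E ⊓ Q :) := (X.card_ct' le_rfl (hQ a ha z1)).trans
    (Nat.mul_le_mul_left _ (card_le_of_le fun g hg => ⟨eE.le ⟨X.lQ hg.1, mem_Ct_sup.2
      ⟨X.cen (X.lQ hg.1), by simpa using (s'.sup z1 z2).symm ▸ (by simpa using hg.2)⟩⟩, hg.1⟩))
  set M := E ⊓ Q with hM
  have sQ : Sp p Q M := (sp_of_card_le (X.pg.to_le X.lQ) inf_le_right cQ).resolve_left fun e =>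
    ES (X.sp.le_of (e.le.trans inf_le_left) (h.lE v1) v2 v1)
  obtain ⟨sE, sM⟩ := sp_mid' X.pg (Sp.two X.sp sQ) (lt_of_le_not_ge inf_le_left fun e => v2 (e v1).2)
    (lt_of_le_not_ge h.lE ES)
  have c2 : Nat.card V = p ^ 2 := sW.card_up (i := 1) (by rw [X.cZ, pow_one])
  have eV : V = M ⊓ Ct M := eq_of_le_of_card_ge (le_inf (le_inf VE VQ)
    (le_Ct_comm.1 (inf_le_left.trans cV))) (c2 ▸ X.card_le_sq (inf_le_left.trans inf_le_right)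
      inf_le_right inf_le_right cQ)
  have gV : G ≤ Nm V := fun g hg => mem_Nm_of_le (by
    have k : ∀ g ∈ G, cj g Z ≤ V := fun g hg => eV ▸ le_inf (le_inf (cZ g hg).1 (hQ g hg))
      (le_Ct_comm.1 (inf_le_left.trans (cZ g hg).2))
    rw [hV, cj_sup, ← cj_mul]
    exact sup_le (k g hg) (k _ (mul_mem hg ha)))
  have sM' : Sp p E (cj a M) := cj_eq_of_Nm (h.nm ha) ▸ sM.cj a
  have MQ' : cj a M ≤ cj a Q := cj_mono a inf_le_right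
  have one : ∀ x ∈ Q, ∀ y ∈ Q, ⁅x, y⁆ ∈ cj a Z → y * x = x * y := fun x hx y hy e =>
    (commutatorElement_eq_one_iff_mul_comm.1 (mem_bot.1 (bot.le ⟨X.com hx hy, e⟩))).symm
  have ab : M ⊓ cj a M ≤ Ct (M ⊓ cj a M) := fun x hx => mem_Ct'.2 fun y hy =>
    one x hx.1.2 y hy.1.2 (com_cj' (MQ' hx.2) (MQ' hy.2) X)
  obtain ⟨sA, sA', -, -⟩ := two_max sM sM' fun e => X.not_ab inf_le_right (by
    have := ab; rwa [← e, inf_idem] at this) cQ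
  set A := M ⊓ cj a M with hA
  have AQ : A ≤ Q := inf_le_left.trans inf_le_right
  have VA : V ≤ A := le_inf (le_inf VE VQ) (cj_eq_of_Nm (gV ha) ▸ cj_mono a (le_inf VE VQ))
  have c3 : Nat.card A = p ^ 3 := by
    obtain ⟨m, m1, m2⟩ := sA.ex
    obtain ⟨x, x1, x2⟩ := sQ.ex
    have i1 := X.card_ct' AQ m1.2
    have i2 := X.card_ct' (X := A ⊓ Ct (zpowers m)) (inf_le_left.trans AQ) x1
    have i3 := card_le_of_le (show A ⊓ Ct (zpowers m) ⊓ Ct (zpowers x) ≤ Z from fun g hg =>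
      X.ctr ⟨AQ hg.1.1, sQ.ct_of (sA.ct_of (ab hg.1.1) m1 m2 (ct_zp.1 hg.1.2)) x1 x2 (ct_zp.1 hg.2)⟩)
    have i4 := X.big
    rw [Sp.two sQ sA] at i4
    rw [X.cZ] at i3
    refine le_antisymm ((i1.trans (Nat.mul_le_mul_left _ (i2.trans (Nat.mul_le_mul_left _ i3)))).trans
      (le_of_eq (by ring))) (Nat.le_of_mul_le_mul_left (by rwa [← pow_add]) (pow_pos hp.out.pos 2))
  have sV : Sp p A V := sp_of X.pg (AQ.trans X.lQ) VA c3 c2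
  have n3 : ∀ w ∈ E, w ∉ M → ∀ y ∈ A, y ∉ V → ⁅w, y⁆ ∉ Z := fun w hw nw y hy ny e => ny (by
    have k := sM.le_of (K := Cm y Z) (fun m hm => ⟨X.nZ (X.lQ hm.2), X.com hm.2 (AQ hy)⟩) hw nw
      ⟨X.nZ (h.lE hw), e⟩
    rw [← cj_eq_of_Nm (gV ha), eV, cj_inf, cj_Ct]
    exact ⟨hy.2, mem_Ct'.2 fun m hm => commutatorElement_eq_one_iff_mul_comm.1 (mem_bot.1 (bot.le
      ⟨(k (sM'.le hm)).2, com_cj' (MQ' hm) (MQ' hy.2) X⟩))⟩)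
  have n4 : ∀ w ∈ E, w ∉ cj a M → ∀ y ∈ A, y ∉ V → ⁅w, y⁆ ∉ cj a Z := fun w hw nw y hy ny e => ny (by
    have nz : E ≤ Nm (cj a Z) := (cZ a ha).2.trans (Ct_le_Nm _)
    have k := sM'.le_of (K := Cm y (cj a Z)) (fun m hm => ⟨nz (sM'.le hm), com_cj' (MQ' hm) (MQ' hy.2) X⟩)
      hw nw ⟨nz hw, e⟩
    exact eV ▸ ⟨hy.1, mem_Ct'.2 fun m hm => (one m hm.2 y (AQ hy) (k hm.1).2).symm⟩)
  obtain ⟨y, y1, y2⟩ := sV.ex
  have tA : ∀ w ∈ E, ⁅w, y⁆ ∈ V := fun w hw => com_of_tv (sV.tv X.pg (AQ.trans X.lQ) (h.lE hw)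
    (mem_Nm_inf (sM.nm hw) (sM'.nm hw)) (nV (h.lE hw))) y1
  have AE : A ≤ E := inf_le_left.trans inf_le_left
  refine ⟨M, A, V, a, h, ha, na, rfl, rfl, rfl, sE, sQ, sM, sA, sA', sV, sW, gV, cV, ab,
    fun x hx nx w hw nw e => nx (eE.le ⟨X.lQ hx, sW.ct_of (X.cen (X.lQ hx)) (tA w hw)
      (n3 w hw nw y y1 y2) (fixc (com_ct (ab e) y1) (cV (AE e)) (sW.le (X.com hx (AQ y1))) (cV hw)
        (tA w hw) (VE.trans cV))⟩), fun x hx nx w hw nw e => nx ?_, n3, n4⟩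
  have sW' : Sp p V (cj a Z) := sp_of X.pg (VQ.trans X.lQ) le_sup_right c2 (by
    rw [card_cj, X.cZ, pow_one])
  have k := sW'.ct_of (cj_Ct a Z ▸ cj_mono a (X.lQ.trans X.cen) hx) (tA w hw) (n4 w hw nw y y1 y2)
    (fixc (com_ct (ab e) y1) (cV (AE e)) (sW'.le (com_cj' hx (MQ' y1.2) X)) (cV hw) (tA w hw)
      (VE.trans cV))
  rw [← cj_eq_of_Nm (h.nm ha), ← eE, cj_inf, cj_Ct, cj_eq_of_Nm (gV ha)]
  exact ⟨cj_mono a X.lQ hx, k⟩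

namespace CA

variable (h : CA p S Q Z E G M A V a)
include h

theorem SG : S ≤ G := fun _ hs => h.le ⟨hs, h.sE.nm hs⟩
theorem AQ : A ≤ Q := h.sA.le.trans h.sQ.le
theorem AE : A ≤ E := h.sA.le.trans h.sM.le
theorem VE : V ≤ E := h.sV.le.trans (AE h)
theorem Z'V : cj a Z ≤ V := h.eV ▸ le_sup_right
theorem sM' : Sp p E (cj a M) := cj_eq_of_Nm (h.nm h.ha) ▸ h.sM.cj a
theorem sZ' : Sp p (cj a Z) ⊥ := by simpa using h.sZ.cj a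
theorem c2 : Nat.card V = p ^ 2 := h.sW.card_up (i := 1) (by rw [h.toXS.cZ, pow_one])
theorem sW' : Sp p V (cj a Z) := sp_of h.toXS.pg ((VE h).trans h.lE) (Z'V h) (c2 h) (by
  rw [card_cj, h.toXS.cZ, pow_one])
theorem nZ' : ¬ cj a Z ≤ Z := fun e => h.na (mem_Nm_of_le e)
theorem MQ' : cj a M ≤ cj a Q := cj_mono a h.sQ.le
theorem AQ' : A ≤ cj a Q := h.sA'.le.trans (MQ' h)

theorem ctV (hx : x ∈ S) (e : x ∈ Ct V) : x ∈ E := by_contra fun n =>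
  h.na (h.se a h.ha x ⟨hx, h.sE.nm hx⟩ n (Ct_le_Nm _ (Ct_anti (Z'V h) e)))

theorem ctV' (hx : x ∈ S) (e : a * x * a⁻¹ ∈ Ct V) : x ∈ E :=
  ctV h hx (by simpa [mul_assoc] using conj_mem_Ct_of_Nm (inv_mem (h.nV h.ha)) e)

theorem nA : S ≤ Nm A :=
  let ⟨v, v1, v2⟩ := SetLike.not_le_iff_exists.1 h.nQ
  h.toXS.nm_of (h.sW.le.trans h.sV.le) (AQ h) (h.lE v1) v2
    (h.eA ▸ mem_Nm_inf (h.sM.nm v1) ((sM' h).nm v1))

theorem tA : S ≤ Tv A V := fun _ hs =>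
  h.sV.tv h.toXS.pg ((AE h).trans h.lE) hs (nA h hs) (h.nV (SG h hs))

theorem mem_M (h1 : x ∈ E) (h2 : x ∈ Q) : x ∈ M := h.eM ▸ mem_inf.2 ⟨h1, h2⟩
theorem mem_A (h1 : x ∈ M) (h2 : x ∈ cj a M) : x ∈ A := h.eA ▸ mem_inf.2 ⟨h1, h2⟩

theorem com_M (hx : x ∈ Q) (hw : w ∈ E) : ⁅x, w⁆ ∈ M :=
  mem_M h (comm_mem_of_Nm (h.sE.nm (h.toXS.lQ hx)) hw) (com_symm (h.toXS.com_Q (h.lE hw) hx))

end CA

theorem jobA2 : JobA2.{u} := by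
  intro Ω _ _ p hp S Q Z E G M A V a h
  have X := h.toXS
  obtain ⟨x, hx, nx⟩ := h.sQ.ex
  have nE : x ∉ E := fun e => nx (CA.mem_M h e hx)
  have x' := conj_mem_cj a hx
  have VQ := h.sV.le.trans (CA.AQ h)
  have xc : a * x * a⁻¹ ∈ Ct (cj a Z) := conj_mem_Ct_cj a (X.cen (X.lQ hx))
  have xV : x ∉ Ct V := fun e => nE (CA.ctV h (X.lQ hx) e)
  obtain ⟨τ, t0, t1, t2⟩ := torus (k := -1) (l := -1) X.sZ (CA.sZ' h) h.sW (CA.sW' h) (CA.nZ' h)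
    (Tv_anti VQ _ (X.tv hx)) (tv_bot.2 (X.cen (X.lQ hx))) (fun e => xV (tv_bot.1 e))
    (tv_of_com (Ct_le_Nm _ xc) fun y hy => com_cj' x' (CA.AQ' h (h.sV.le hy)) X) (tv_bot.2 xc)
    (fun e => nE (CA.ctV' h (X.lQ hx) (tv_bot.1 e))) (by simp)
  have xG : a * x * a⁻¹ ∈ G := mul_mem (mul_mem h.ha (CA.SG h (X.lQ hx))) (inv_mem h.ha)
  obtain ⟨τG, τA⟩ : τ ∈ G ⊓ Tv A V := (closure_le (G ⊓ Tv A V)).2 (by
    rintro _ (rfl | rfl)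
    · exact ⟨CA.SG h (X.lQ hx), CA.tA h (X.lQ hx)⟩
    · exact ⟨xG, tv_of_com (h.nV xG) fun y hy => CA.Z'V h (com_cj' x' (CA.AQ' h hy) X)⟩) t0
  have t3 : ∀ y ∈ V, W τ y ⊥ (-1) := fun y hy =>
    neg_all h.sW (CA.Z'V h) (CA.nZ' h) (le_tv_bot ((CA.VE h).trans h.cV)) t1 t2 hy
  obtain ⟨y, y1, y2⟩ := h.sV.ex
  have QT : Q ≤ Tv A Z := X.tv.trans (Tv_anti (CA.AQ h) _)
  have eM : E ⊓ Tv A Z = M := h.sM.eq_of' (le_inf h.sM.le (h.sQ.le.trans QT)) inf_le_left fun e =>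
    let ⟨w, w1, w2⟩ := h.sM.ex
    h.n3 w w1 w2 y y1 y2 (com_of_tv (e w1).2 y1)
  have eQ : S ⊓ Tv A Z = Q := X.sp.eq_of' (le_inf X.lQ QT) inf_le_left fun e =>
    let ⟨w, w1, w2⟩ := h.sM.ex
    h.n3 w w1 w2 y y1 y2 (com_of_tv (e (h.lE w1)).2 y1)
  have τZ : τ ∈ Nm Z := W.nm bot_le t1
  have τA' : τ ∈ Nm A := Nm_of_Tv τA h.sV.le le_rfl
  have nM : S ≤ Nm M := fun s hs => h.eM ▸ mem_Nm_inf (h.sE.nm hs) (X.nQ hs)
  obtain ⟨g, g1, g2⟩ := h.ext h.sE.nm τ τG [M, A, V, Z] (by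
    simp only [List.mem_cons, List.not_mem_nil, or_false, forall_eq_or_imp, forall_eq]
    exact ⟨⟨h.sM.le, eM ▸ mem_Nm_inf (h.nm τG) (mem_Nm_Tv τA' τZ)⟩, ⟨CA.AE h, τA'⟩,
      ⟨CA.VE h, h.nV τG⟩, h.zE, τZ⟩) fun s hs =>
    ⟨h.sM.tv X.pg h.lE hs (h.sE.nm hs) (nM hs), h.sA.tv X.pg (h.sM.le.trans h.lE) hs (nM hs) (CA.nA h hs),
      CA.tA h hs, h.sW.tv X.pg (VQ.trans X.lQ) hs (h.nV (CA.SG h hs)) (X.nZ hs), X.cen hs⟩
  have gQ : g ∈ Nm Q := eQ ▸ mem_Nm_inf g1 (mem_Nm_Tv (Nm_of_div_Ct τA' (Ct_anti (CA.AE h) g2)) (X.nm_Z g1))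
  have wV : ∀ y ∈ V, W g y ⊥ (-1) := fun y hy => (t3 y hy).congr (CA.VE h hy) g2
  obtain ⟨O, hO⟩ := X.exists_om
  have fix : ∀ y ∈ Q, W g y O 1 → y ∈ O := fun y hy e => by
    have e1 := X.pi_mul hy ((hO _).1 e).1
    have e2 := mem_bot.1 (wV _ (h.sW.le (X.pw y hy)))
    rw [((hO _).1 e).2, zpow_one, mul_inv_cancel_left, mul_one, conj_pow] at e1
    rw [e1, zpow_neg, zpow_one, inv_inv] at e2
    exact (hO y).2 ⟨hy, mem_bot.1 (mem_of_zpow (X.sZ.pow (X.pw y hy)) (k := 2)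
      (by rw [zpow_two, e2]; exact one_mem _) (two_ne X.odd))⟩
  have VO : V ≤ O := h.eV ▸ sup_le (fun z hz => (hO z).2 ⟨X.lZ hz, X.pZ hz⟩) fun z hz =>
    (hO z).2 ⟨VQ (CA.Z'V h hz), mem_bot.1 ((CA.sZ' h).pow hz)⟩
  have AO : A ≤ O := fun y hy =>
    fix y (CA.AQ h hy) (((W.of_tv τA hy).congr (CA.AE h hy) g2).mono VO)
  obtain ⟨w, w1, w2⟩ := h.sM.ex
  have MO : M ≤ O := h.sA.le_of AO (CA.com_M h hx w1) (h.n1 x hx nE w w1 w2)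
    (com_symm ((hO _).2 ⟨X.com_Q (h.lE w1) hx, X.pi_com (h.lE w1) hx⟩))
  obtain ⟨μ, hμ⟩ := h.sQ.wt gQ hx nx
  obtain ⟨v, v1, v2⟩ : ∃ v ∈ V, ⁅x, v⁆ ≠ 1 := by
    by_contra hn
    simp only [not_exists, not_and, not_not] at hn
    exact xV (mem_Ct'.2 fun v hv => (commutatorElement_eq_one_iff_mul_comm.1 (hn v hv)).symm)
  have vz := X.com hx (VQ v1)
  have e := (W.comm hμ (wV v v1) hx v1 bot_le (nm_bot _) (nm_bot _) (le_tv_bot (h.sM.le.trans h.cV)) bot_le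
    (X.com_Z (X.lQ hx) vz ▸ one_mem _) (X.com_Z (X.lQ (VQ v1)) vz ▸ one_mem _)).uniq
    (wV _ (h.sW.le vz)) (fun e => v2 (mem_bot.1 e)) (X.sZ.pow vz)
  have xO := fix x hx ((hμ.of_eq (l := 1) (h.sQ.pow hx) (by simpa using e)).mono MO)
  exact fun y hy => ((hO y).1 (h.sQ.le_of MO hx nx xO hy)).2

theorem jobA3 : JobA3.{u} := by
  intro Ω _ _ p hp S Q Z E G M A V a h ex
  have X := h.toXS
  have cQ : Nat.card Q = p ^ 5 := h.sQ.card_up (h.sA.card_up (h.sV.card_up (CA.c2 h)))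
  have ex' : ∀ y ∈ cj a M, y ^ p = 1 := fun y hy => by
    obtain ⟨y, hy', rfl⟩ := mem_cj_iff_exists.1 hy
    rw [conj_pow, ex y (h.sQ.le hy'), mul_one, mul_inv_cancel]
  obtain ⟨x, hx, nx⟩ := h.sQ.ex
  have nE : x ∉ E := fun e => nx (CA.mem_M h e hx)
  obtain ⟨u, hu, nu⟩ := h.sA'.ex
  have uE := (CA.sM' h).le hu
  have uM : u ∉ M := fun e => nu (CA.mem_A h e hu)
  have VQ := h.sV.le.trans (CA.AQ h)
  have ZV := h.sW.le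
  have nV : E ≤ Nm V := h.cV.trans (Ct_le_Nm _)
  by_cases hE : E ≤ Tv E V
  · left
    have c1 := CA.com_M h hx uE
    have c2 := h.n1 x hx nE u uE uM
    set c := ⁅x, u⁆ with hc
    have cE := h.sM.le c1
    have cq := h.sQ.le c1
    have x' := conj_mem_cj a hx
    have xG : a * x * a⁻¹ ∈ G := mul_mem (mul_mem h.ha (CA.SG h (X.lQ hx))) (inv_mem h.ha)
    have nE' : a * x * a⁻¹ ∉ E := fun e => nE (by simpa [mul_assoc] using conj_mem_of_Nm' (h.nm h.ha) e)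
    have d2 := h.n2 _ x' nE' c cE fun e => c2 (CA.mem_A h c1 e)
    have dE : ⁅a * x * a⁻¹, c⁆ ∈ E := comm_mem_of_Nm (h.nm xG) cE
    have d1 : ⁅a * x * a⁻¹, c⁆ ∈ cj a M := by
      rw [h.eM, cj_inf, cj_eq_of_Nm (h.nm h.ha)]
      exact ⟨dE, comm_mem_of_Nm' (cj_Nm a Q ▸ cj_mono a (h.lE.trans X.nQ)
        ((cj_eq_of_Nm (h.nm h.ha)).ge cE)) x'⟩
    set c' := ⁅a * x * a⁻¹, c⁆ with hc'
    have dM : c' ∉ M := fun e => d2 (CA.mem_A h e d1)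
    have tV : ⁅c, c'⁆ ∈ V := com_of_tv (hE cE) dE
    obtain ⟨sC, zC, CQ⟩ := step X ZV VQ cq fun e => c2 (h.sV.le e)
    have CE : V ⊔ zpowers c ≤ E := sup_le (CA.VE h) (zpowers_le.2 cE)
    have nC : E ≤ Nm (V ⊔ zpowers c) := fun e he => Nm_of_Tv (hE he) le_sup_left CE
    have k : ⁅x, c'⁆ ∈ V ⊔ zpowers c := com_symm (h.sA'.le_of (K := Cm x (V ⊔ zpowers c))
      (fun y hy => ⟨nC (CA.AE h hy), zC (X.com (CA.AQ h hy) hx)⟩) hu nu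
      ⟨nC uE, com_symm (mem_sup_right (mem_zpowers c))⟩ d1).2
    have cc : c ∈ Ct (V ⊔ zpowers c) := ct_sup_zp (h.cV cE) (commutatorElement_self c)
    have f1 : ⁅x, ⁅c, c'⁆⁆ = 1 := by
      have e := com_cj x c c'
      have zz := X.com hx cq
      rw [conj_com x c, conj_com x c', com_mul, csymm (X.com_Z (h.lE (mul_mem (CE k) dE)) zz), mul_one,
        com_mul', com_ct cc k, one_mul, conj_eq_of_Ct (h.cV (CE k)) tV,
        conj_eq_of_Ct (h.cV (h.zE zz)) tV, conj_com x] at e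
      exact mul_eq_right.1 e.symm
    have f2 : ⁅a * x * a⁻¹, ⁅c, c'⁆⁆ = 1 := by
      have e := com_cj (a * x * a⁻¹) c c'
      have zz := CA.Z'V h (com_cj' x' (CA.MQ' h d1) X)
      rw [conj_com _ c, conj_com _ c', ← hc', com_mul', com_ct (h.cV (mul_mem dE cE)) zz, one_mul, com_mul c' c,
        commutatorElement_self, mul_one, conj_eq_of_Ct (h.cV dE) tV,
        conj_eq_of_Ct (h.cV (CA.VE h zz)) tV, conj_com _ ⁅c, c'⁆] at e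
      exact mul_eq_right.1 e.symm
    have t1 : ⁅c, c'⁆ = 1 := by
      have a1 : ⁅c, c'⁆ ∈ Z := by_contra fun n =>
        nE (CA.ctV h (X.lQ hx) (h.sW.ct_of (X.cen (X.lQ hx)) tV n f1))
      have a2 : ⁅c, c'⁆ ∈ cj a Z := by_contra fun n => nE (CA.ctV' h (X.lQ hx)
        ((CA.sW' h).ct_of (conj_mem_Ct_cj a (X.cen (X.lQ hx))) tV n f2))
      by_contra n
      exact CA.nZ' h ((CA.sZ' h).le_of bot_le a2 (fun e => n (mem_bot.1 e)) a1)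
    have dQ : c' ∉ Q := fun e => dM (CA.mem_M h dE e)
    have UE : V ⊔ zpowers c ⊔ zpowers c' ≤ E := sup_le CE (zpowers_le.2 dE)
    have sU := sp_sup h.sM.pg CE dE (fun e => dQ (CQ e)) (nC dE) (ex' _ d1 ▸ one_mem _)
    refine ⟨V ⊔ zpowers c ⊔ zpowers c', c', X, cQ, ex, UE.trans h.lE, zC.trans le_sup_left,
      ct_cyc rfl (sup_le (ct_cyc rfl (CE.trans h.cV)) (zpowers_le.2 (ct_sup_zp (h.cV dE) (csymm t1)))),
      h.sE.le_of (fun e he => Nm_of_Tv (hE he) (le_sup_left.trans le_sup_left) UE) (X.lQ hx) nE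
        (nm_step (X.nm_mid zC CQ hx) (nC dE) k),
      mem_sup_right (mem_zpowers _), dQ, ex' _ d1, ?_, fun g hg e => mem_sup_left ?_⟩
    · rw [sU.eq_of' (le_inf le_sup_left CQ) inf_le_left fun e => dQ (e (mem_sup_right (mem_zpowers _))).2,
        sC.card_up (CA.c2 h)]
    · have gE : g ∈ E := by_contra fun n => h.n1 g hg n c' dE dM (h.sV.le (ZV e))
      obtain ⟨i, hi⟩ := h.sA.dec c1 c2 (CA.mem_M h gE hg)
      have m : (c ^ i)⁻¹ * g ∈ Cm c' Z := mul_mem (inv_mem (zpow_mem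
        (show c ∈ Cm c' Z from ⟨X.nZ (X.lQ cq), t1 ▸ one_mem _⟩) i)) ⟨X.nZ (X.lQ hg), e⟩
      have := mul_mem (mem_sup_right (zpow_mem_zpowers c i)) (mem_sup_left (by_contra fun n =>
        h.n3 c' dE dM _ hi n (com_symm m.2)) : (c ^ i)⁻¹ * g ∈ V ⊔ zpowers c)
      simpa using this
  right
  have a1 : ⁅u, x⁆ ∈ M := com_symm (CA.com_M h hx uE)
  have a2 : ⁅u, x⁆ ∉ A := fun e => h.n1 x hx nE u uE uM (com_symm e)
  have b1 : ⁅u, ⁅u, x⁆⁆ ∈ A := CA.mem_A h (com_of_tv (h.sM.tv_self uE) (h.sM.le a1))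
    (com_of_tv ((CA.sM' h).tv_self uE) (h.sM.le a1))
  have b2 : ⁅u, ⁅u, x⁆⁆ ∉ V := fun e => hE (h.sM.cyc nV (h.sM.le_of
    (fun m hm => tv_of_com (nV (h.sM.le hm)) fun y hy => ZV (X.com (h.sQ.le hm) (h.sQ.le hy))) uE uM
    (h.sA.tv_of (CA.tA h (h.lE uE)) (h.sM.le.trans nV) a1 a2 e)))
  have c1 := com_of_tv (CA.tA h (h.lE uE)) b1
  have c2 := h.n3 u uE uM _ b1 b2
  refine ⟨hp.out.five_le_of_ne_two_of_ne_three X.odd ?_, u, x, X, cQ, ex, h.lE uE,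
    fun e => uM (CA.mem_M h uE e), ex' u hu, hx, c2, com_ct (h.cV uE) c1⟩
  rintro rfl
  have q1 := h.sQ.le a1
  have q2 := CA.AQ h b1
  have e0 := conj_com u x
  have e1 := conj_com u ⁅u, x⁆
  have e2 := conj_com u ⁅u, ⁅u, x⁆⁆
  set x1 := ⁅u, x⁆
  set x2 := ⁅u, x1⁆
  set x3 := ⁅u, x2⁆
  have e : x = x3 * x2 * (x2 * x1) * (x2 * x1) * (x1 * x) := by
    calc x = u ^ 3 * x * (u ^ 3)⁻¹ := by rw [ex' u hu]; simp
      _ = u * (u * (u * x * u⁻¹) * u⁻¹) * u⁻¹ := by rw [pow_three]; group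
      _ = u * (u * (x1 * x) * u⁻¹) * u⁻¹ := by rw [e0]
      _ = u * ((u * x1 * u⁻¹) * (u * x * u⁻¹)) * u⁻¹ := by group
      _ = u * ((x2 * x1) * (x1 * x)) * u⁻¹ := by rw [e1, e0]
      _ = (u * x2 * u⁻¹) * (u * x1 * u⁻¹) * (u * x1 * u⁻¹) * (u * x * u⁻¹) := by group
      _ = _ := by rw [e2, e1, e0]
  have z := X.com q1 q2
  have e' : x3 * ⁅x1, x2⁆ = 1 := by
    refine mul_right_cancel (b := x) ?_
    calc x3 * ⁅x1, x2⁆ * x = x3 * ⁅x1, x2⁆ * (x2 ^ 3 * x1 ^ 3) * x := by rw [ex _ q1, ex _ q2]; simp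
      _ = x3 * ((⁅x1, x2⁆ * (x2 * x2)) * x2 * x1) * (x1 * x1 * x) := by
        simp only [pow_three, mul_assoc]
      _ = x3 * x2 * (x2 * x1) * (x2 * x1) * (x1 * x) := by
        rw [← (X.comm_Z (X.lQ (mul_mem q2 q2)) z).eq, commutatorElement_def]; group
      _ = _ := by rw [← e, one_mul]
  exact c2 (eq_inv_of_mul_eq_one_left e' ▸ inv_mem z)

end H70.Xp
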