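import Cfsg.Agent.H87.XPT
import Cfsg.Agent.H44.F3Sp4

/-! Jobs XP-RO and XP-RG: recognition from the relations. -/

set_option autoImplicit false
set_option linter.unusedSectionVars false

namespace H70.Xp

open Cfsg H92 H93 Subgroup H92.Es H92.P5 H87.F3 H87.XP H44.F3
open scoped commutatorElement

universe u

section Gen

variable {Γ Γ' : Type*} [Group Γ] [Group Γ'] {p : ℕ}

/-- The subgroup generated by six elements. -/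
def gen6 (a b c d e f : Γ) : Subgroup Γ :=
  zpowers a ⊔ zpowers b ⊔ zpowers c ⊔ zpowers d ⊔ zpowers e ⊔ zpowers f

theorem map_gen6 (φ : Γ →* Γ') (a b c d e f : Γ) :
    (gen6 a b c d e f).map φ = gen6 (φ a) (φ b) (φ c) (φ d) (φ e) (φ f) := by
  simp only [gen6, Subgroup.map_sup, MonoidHom.map_zpowers]

theorem mem_gen6 (a b c d e f : Γ) : a ∈ gen6 a b c d e f :=
  mem_sup_left (mem_sup_left (mem_sup_left (mem_sup_left (mem_sup_left (mem_zpowers a)))))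

theorem csymm {a b : Γ} (h : ⁅a, b⁆ = 1) : ⁅b, a⁆ = 1 := by
  rw [← commutatorElement_inv, h, inv_one]

variable [Finite Γ] [hp : Fact p.Prime]

theorem card_gen6 {a b c d e f : Γ} (pa : a ^ p = 1) (pb : b ^ p = 1) (pc : c ^ p = 1)
    (pd : d ^ p = 1) (pe : e ^ p = 1) (pf : f ^ p = 1) (nb : b ∈ Nm (zpowers a))
    (nc : c ∈ Nm (zpowers a ⊔ zpowers b)) (nd : d ∈ Nm (zpowers a ⊔ zpowers b ⊔ zpowers c))
    (ne : e ∈ Nm (zpowers a ⊔ zpowers b ⊔ zpowers c ⊔ zpowers d))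
    (nf : f ∈ Nm (zpowers a ⊔ zpowers b ⊔ zpowers c ⊔ zpowers d ⊔ zpowers e)) :
    Nat.card (gen6 a b c d e f) ≤ p ^ 6 :=
  calc _ ≤ p * (p * (p * (p * (p * p)))) := (card_step nf pf).trans (Nat.mul_le_mul_left _
        ((card_step ne pe).trans (Nat.mul_le_mul_left _ ((card_step nd pd).trans (Nat.mul_le_mul_left _
          ((card_step nc pc).trans (Nat.mul_le_mul_left _
            ((card_step nb pb).trans (Nat.mul_le_mul_left _ (card_zp pa))))))))))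
    _ = p ^ 6 := by ring

theorem cardG {y x₀ x₁ x₂ x₃ z : Γ} (h : RelG p y x₀ x₁ x₂ x₃ z) :
    Nat.card (gen6 z x₃ x₂ x₁ x₀ y) ≤ p ^ 6 := by
  have n3 := Ct_le_Nm _ (ct_zp.2 h.c3)
  have n2 := nm_step (Ct_le_Nm _ (ct_zp.2 h.c2)) n3 (h.c23 ▸ one_mem _)
  have n1 := nm_step (nm_step (Ct_le_Nm _ (ct_zp.2 h.c1)) n3 (h.c13 ▸ one_mem _)) n2
    (h.c12 ▸ mem_sup_left (inv_mem (mem_zpowers _)))
  have n0 := nm_step (nm_step (nm_step (Ct_le_Nm _ (ct_zp.2 h.c0)) n3 (h.c03.symm ▸ mem_zpowers z)) n2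
    (h.c02.symm ▸ mem_sup_left (mem_zpowers z))) n1 (h.c01 ▸ one_mem _)
  have ny := nm_step (nm_step (nm_step (nm_step (Ct_le_Nm _ (ct_zp.2 h.yz)) n3 (h.y3 ▸ one_mem _)) n2
    (h.y2.symm ▸ mem_sup_right (mem_zpowers x₃))) n1 (h.y1.symm ▸ mem_sup_right (mem_zpowers x₂))) n0
    (h.y0.symm ▸ mem_sup_right (mem_zpowers x₁))
  exact card_gen6 h.pz h.p3 h.p2 h.p1 h.p0 h.py n3 n2 n1 n0 ny

theorem cardO {d : ℤ} {w g₁ g₂ c₁ c₂ z : Γ} (h : RelO p d w g₁ g₂ c₁ c₂ z) :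
    Nat.card (gen6 z c₁ c₂ w g₁ g₂) ≤ p ^ 6 := by
  have n1 := Ct_le_Nm _ (ct_zp.2 h.c1z)
  have n2 := nm_step (Ct_le_Nm _ (ct_zp.2 h.c2z)) n1 (csymm h.c1c2 ▸ one_mem _)
  have nw := nm_step (nm_step (Ct_le_Nm _ (ct_zp.2 h.wz)) n1 (h.wc1 ▸ one_mem _)) n2
    (h.wc2 ▸ one_mem _)
  have m1 := nm_step (nm_step (nm_step (Ct_le_Nm _ (ct_zp.2 h.g1z)) n1 (h.g1c1.symm ▸ mem_zpowers z)) n2
    (h.g1c2 ▸ one_mem _)) nw (h.g1w.symm ▸ mem_sup_left (mem_sup_right (mem_zpowers c₁)))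
  have m2 := nm_step (nm_step (nm_step (nm_step (Ct_le_Nm _ (ct_zp.2 h.g2z)) n1 (h.g2c1 ▸ one_mem _)) n2
    (h.g2c2.symm ▸ mem_sup_left (zpow_mem_zpowers z d))) nw
    (h.g2w.symm ▸ mem_sup_right (mem_zpowers c₂))) m1 (csymm h.g1g2 ▸ one_mem _)
  exact card_gen6 h.pz h.q1 h.q2 h.pw h.p1 h.p2 n1 n2 nw m1 m2

end Gen

variable {Ω : Type u} [Group Ω] [Finite Ω] {p : ℕ} [hp : Fact p.Prime] {S Q Z U X : Subgroup Ω}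
  {x y w a b g : Ω}

theorem zp_eq (h : XS p S Q Z) (hz : a ∈ Z) (n : a ≠ 1) : Z = zpowers a := by
  simpa using h.sZ.sup hz fun e => n (mem_bot.1 e)

theorem step (h : XS p S Q Z) (h1 : Z ≤ X) (h2 : X ≤ Q) (ha : a ∈ Q) (n : a ∉ X) :
    Sp p (X ⊔ zpowers a) X ∧ Z ≤ X ⊔ zpowers a ∧ X ⊔ zpowers a ≤ Q :=
  ⟨sp_sup (h.pg.to_le h.lQ) h2 ha n (h.nm_mid h1 h2 ha) (h1 (h.pw a ha)), h1.trans le_sup_left,
    sup_le h2 (zpowers_le.2 ha)⟩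

theorem bil (h : XS p S Q Z) {c e : Ω} (ha : a ∈ Q) (hb : b ∈ Q) (hc : c ∈ Q) (he : e ∈ Q) :
    ⁅a * b, c * e⁆ = ⁅b, c⁆ * ⁅b, e⁆ * (⁅a, c⁆ * ⁅a, e⁆) := by
  rw [h.mul_com (h.lQ ha) (h.com hb (mul_mem hc he)), h.com_mul (h.lQ hc) (h.com hb he),
    h.com_mul (h.lQ hc) (h.com ha he)]

/-- Invariance of the commutator form under an element of `S`. -/
theorem inv_form (h : XS p S Q Z) (hy : y ∈ S) (ha : a ∈ Q) (hb : b ∈ Q) :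
    ⁅a, ⁅y, b⁆⁆ * (⁅⁅y, a⁆, ⁅y, b⁆⁆ * ⁅⁅y, a⁆, b⁆) = 1 := by
  have e := com_cj y a b
  rw [h.cj_Z hy (h.com ha hb), show y * a * y⁻¹ = ⁅y, a⁆ * a by simp [commutatorElement_def],
    show y * b * y⁻¹ = ⁅y, b⁆ * b by simp [commutatorElement_def],
    bil h (h.com_Q hy ha) ha (h.com_Q hy hb) hb,
    (h.comm_Z (h.lS (h.com ha (h.com_Q hy hb))) (h.com ha hb)).eq, mul_assoc] at e
  exact mul_eq_left.1 e

theorem g6_facts (h : G6 p S Q Z y x) :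
    ⁅⁅y, ⁅y, x⁆⁆, ⁅y, ⁅y, ⁅y, x⁆⁆⁆⁆ = 1 ∧ ⁅⁅y, x⁆, ⁅y, ⁅y, ⁅y, x⁆⁆⁆⁆ = 1 ∧
      ⁅⁅y, x⁆, ⁅y, ⁅y, x⁆⁆⁆ = ⁅x, ⁅y, ⁅y, ⁅y, x⁆⁆⁆⁆⁻¹ ∧ ⁅x, ⁅y, ⁅y, x⁆⁆⁆ = ⁅x, ⁅y, ⁅y, ⁅y, x⁆⁆⁆⁆ ∧
      ⁅x, ⁅y, ⁅y, ⁅y, x⁆⁆⁆⁆ ≠ 1 ∧
      Q = Z ⊔ zpowers ⁅y, ⁅y, ⁅y, x⁆⁆⁆ ⊔ zpowers ⁅y, ⁅y, x⁆⁆ ⊔ zpowers ⁅y, x⁆ ⊔ zpowers x := by
  have X := h.toXS
  have m1 := X.com_Q h.hy h.hx
  have m2 := X.com_Q h.hy m1
  have m3 := X.com_Q h.hy m2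
  have e1 := inv_form X h.hy m1 m3
  have e2 := inv_form X h.hy h.hx m3
  have e3 := inv_form X h.hy h.hx m2
  have e4 := inv_form X h.hy h.hx m1
  simp only [h.c4, commutatorElement_one_right, one_mul] at e1 e2
  rw [e2, one_mul] at e3
  rw [commutatorElement_self, mul_one] at e4
  have e5 := eq_inv_of_mul_eq_one_right e3
  obtain ⟨s3, z3, q3⟩ := step X le_rfl X.lZ m3 h.n3
  have t3 := tv_sup_zp (mem_Tv_self (X.nZ h.hy)) (le_Nm Z) (X.nZ (X.lQ m3)) (h.c4 ▸ one_mem _)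
  have n2 : _ ∉ _ := fun e => h.n3 (com_of_tv t3 (show ⁅y, ⁅y, x⁆⁆ ∈ _ from e))
  obtain ⟨s2, z2, q2⟩ := step X z3 q3 m2 n2
  have t2 := tv_sup_zp (mem_Tv_self (Nm_of_Tv t3 z3 le_rfl)) (le_Nm _) (X.nm_mid z3 q3 m2)
    (mem_sup_right (mem_zpowers _))
  have n1 : _ ∉ _ := fun e => n2 (com_of_tv t2 (show ⁅y, x⁆ ∈ _ from e))
  obtain ⟨s1, z1, q1⟩ := step X z2 q2 m1 n1
  have t1 := tv_sup_zp (mem_Tv_self (Nm_of_Tv t2 le_sup_left le_rfl)) (le_Nm _) (X.nm_mid z2 q2 m1)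
    (mem_sup_right (mem_zpowers _))
  obtain ⟨s0, -, q0⟩ := step X z1 q1 h.hx fun e => n1 (com_of_tv t1 e)
  have eQ := eq_of_le_of_card_ge q0 (by
    rw [h.cQ, s0.card_up (s1.card_up (s2.card_up (s3.card_up (i := 1) (by rw [X.cZ, pow_one]))))])
  refine ⟨e1, e2, e5, by rw [eq_inv_of_mul_eq_one_left e4, e5, inv_inv], fun e => h.n3 (X.ctr ⟨m3, ?_⟩),
    eQ.symm⟩
  rw [← eQ]
  exact ct_sup_zp (ct_sup_zp (ct_sup_zp (ct_sup_zp (X.cen (X.lQ m3)) (commutatorElement_self _))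
    (csymm e1)) (csymm e2)) (csymm e)

theorem g6_norm (h : G6 p S Q Z y x) : ∃ x', G6 p S Q Z y x' ∧ ⁅x', ⁅y, x'⁆⁆ = 1 := by
  have X := h.toXS
  obtain ⟨e1, e2, e3, -, e5, -⟩ := g6_facts h
  have m1 := X.com_Q h.hy h.hx
  have m2 := X.com_Q h.hy m1
  have m3 := X.com_Q h.hy m2
  have z3 := X.com h.hx m3
  set x1 := ⁅y, x⁆
  set x2 := ⁅y, x1⁆ with hx2
  set x3 := ⁅y, x2⁆ with hx3
  set z := ⁅x, x3⁆ with hz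
  have zz : z * z ∉ (⊥ : Subgroup Ω) := fun e => e5 (mem_bot.1 (mem_of_zpow (X.sZ.pow z3)
    (k := 2) (by rwa [zpow_two]) (two_ne X.odd)))
  obtain ⟨t, ht⟩ := X.sZ.dec (mul_mem z3 z3) zz (inv_mem (X.com h.hx m1))
  have c23 : Commute x3 x2 := commutatorElement_eq_one_iff_commute.1 (csymm e1)
  have a1 : ⁅y, x2 ^ t⁆ = x3 ^ t := com_zpow' c23.symm t
  have a2 : ⁅y, x * x2 ^ t⁆ = x1 * (z ^ t * x3 ^ t) := by
    rw [com_mul', a1, ← X.com_zpow (X.lQ m3) z3]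
    simp [commutatorElement_def, x1]
  have a3 : ⁅y, x1 * (z ^ t * x3 ^ t)⁆ = x2 := by
    rw [com_mul', com_mul', X.com_Z h.hy (zpow_mem z3 t), com_zpow' (h.c4 ▸ Commute.one_right _), h.c4]
    simp [hx2]
  refine ⟨x * x2 ^ t, ⟨X, h.cQ, h.ex, h.hy, h.ny, h.py, mul_mem h.hx (zpow_mem m2 t),
    by rw [a2, a3]; exact h.n3, by rw [a2, a3]; exact h.c4⟩, ?_⟩
  have zq := X.lZ (zpow_mem z3 t)
  have f : ∀ a ∈ Q, ⁅a, z ^ t * x3 ^ t⁆ = ⁅a, x3⁆ ^ t := fun a ha => by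
    rw [X.com_mul (X.lQ zq) (X.com ha (zpow_mem m3 t)), X.com_Z (X.lQ ha) (zpow_mem z3 t), one_mul,
      X.com_zpow (X.lQ m3) (X.com ha m3)]
  rw [a2, bil X h.hx (zpow_mem m2 t) m1 (mul_mem zq (zpow_mem m3 t)), f _ h.hx, f _ (zpow_mem m2 t),
    X.zpow_com (X.lQ m2) (X.com m2 m3), X.zpow_com (X.lQ m2) (X.com m2 m1), e1,
    ← commutatorElement_inv x1 x2, e3, inv_inv, ← hz, _root_.one_zpow, _root_.one_zpow, mul_one,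
    (X.comm_Z (X.lS (X.com h.hx m1)) (zpow_mem z3 t)).eq, ← mul_assoc,
    ← (Commute.refl z).mul_zpow, inv_mul_eq_one.1 (mem_bot.1 ht), inv_mul_cancel]

theorem jobRG : JobRG.{u} := by
  intro Ω _ _ p _ S Q Z y x h H _ _ y' x₀ x₁ x₂ x₃ z r z1 hH
  obtain ⟨x, h, e0⟩ := g6_norm h
  have X := h.toXS
  obtain ⟨e1, e2, e3, e4, e5, eQ⟩ := g6_facts h
  have m1 := X.com_Q h.hy h.hx
  have m2 := X.com_Q h.hy m1
  have m3 := X.com_Q h.hy m2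
  have z3 := X.com h.hx m3
  have R : RelG p (y, y') (x, x₀) (⁅y, x⁆, x₁) (⁅y, ⁅y, x⁆⁆, x₂) (⁅y, ⁅y, ⁅y, x⁆⁆⁆, x₃)
      (⁅x, ⁅y, ⁅y, ⁅y, x⁆⁆⁆⁆, z) :=
    ⟨Prod.ext h.py r.py, Prod.ext (h.ex _ h.hx) r.p0, Prod.ext (h.ex _ m1) r.p1,
      Prod.ext (h.ex _ m2) r.p2, Prod.ext (h.ex _ m3) r.p3, Prod.ext (X.pZ z3) r.pz,
      Prod.ext rfl r.y0, Prod.ext rfl r.y1, Prod.ext rfl r.y2, Prod.ext h.c4 r.y3,
      Prod.ext (X.com_Z h.hy z3) r.yz, Prod.ext e0 r.c01, Prod.ext e4 r.c02, Prod.ext rfl r.c03,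
      Prod.ext e3 r.c12, Prod.ext e2 r.c13, Prod.ext e1 r.c23, Prod.ext (X.com_Z (X.lQ h.hx) z3) r.c0,
      Prod.ext (X.com_Z (X.lQ m1) z3) r.c1, Prod.ext (X.com_Z (X.lQ m2) z3) r.c2,
      Prod.ext (X.com_Z (X.lQ m3) z3) r.c3⟩
  refine syl_of_graph _ ?_ (cardG R) (X.sp.card_up h.cQ) X.sZ X.zc (mem_gen6 _ _ _ _ _ _) z3 z1 hH
  rw [map_gen6, gen6]
  simp only [MonoidHom.coe_fst]
  rw [← zp_eq X z3 e5, ← eQ, ← X.sp.sup h.hy h.ny]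

theorem o4_mem (h : O4 p S Q Z U w) (ha : a ∈ Q) : ⁅a, w⁆ ∈ U ⊓ Q :=
  mem_inf.2 ⟨mul_mem (conj_mem_of_Nm (h.nm (h.toXS.lQ ha)) h.hw) (inv_mem h.hw),
    com_symm (h.toXS.com_Q (h.lU h.hw) ha)⟩

theorem o4_symm (h : O4 p S Q Z U w) (ha : a ∈ Q) (hb : b ∈ Q) : ⁅a, ⁅b, w⁆⁆ = ⁅b, ⁅a, w⁆⁆ := by
  have X := h.toXS
  have e : ∀ a b : Ω, ⁅a * b, w⁆ = ⁅a, ⁅b, w⁆⁆ * (⁅b, w⁆ * ⁅a, w⁆) := fun a b => by
    simp only [commutatorElement_def]; group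
  have e1 : ⁅a * b, w⁆ = ⁅b * a, w⁆ := by
    rw [show a * b = ⁅a, b⁆ * (b * a) by simp only [commutatorElement_def]; group, com_mul,
      csymm (X.com_Z (h.lU h.hw) (X.com ha hb)), mul_one,
      ← (X.comm_Z (X.lQ (o4_mem h (mul_mem hb ha)).2) (X.com ha hb)).eq, mul_inv_cancel_right]
  rw [e, e, mem_Ct'.1 (h.ab (o4_mem h ha).1) _ (o4_mem h hb).1] at e1
  exact mul_right_cancel e1

theorem jobRO : JobRO.{u} := by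
  intro Ω _ _ p hp S Q Z U w h
  have X := h.toXS
  have lt : ∀ {i j : ℕ}, i < j → p ^ i < p ^ j := Nat.pow_lt_pow_right hp.out.one_lt
  have cU : ∀ {a b : Ω}, a ∈ U → b ∈ U → ⁅a, b⁆ = 1 := fun ha hb => com_ct (h.ab ha) hb
  obtain ⟨g, hg, z1⟩ : ∃ g ∈ Q, ⁅g, ⁅g, w⁆⁆ ≠ 1 := by
    by_contra hn
    simp only [not_exists, not_and, not_not] at hn
    refine not_le_of_card h.cQ h.cU (by norm_num) fun b hb => ⟨h.inj b hb (X.ctr ⟨(o4_mem h hb).2,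
      mem_Ct'.2 fun a ha => commutatorElement_eq_one_iff_mul_comm.1 ?_⟩), hb⟩
    have m := (o4_mem h (mul_mem ha hb)).2
    have e := hn _ (mul_mem ha hb)
    rw [X.mul_com (X.lQ ha) (X.com hb m), o4_symm h hb (mul_mem ha hb), o4_symm h ha (mul_mem ha hb),
      X.mul_com (X.lQ ha) (X.com hb (o4_mem h hb).2), X.mul_com (X.lQ ha) (X.com hb (o4_mem h ha).2),
      hn a ha, hn b hb, one_mul, mul_one, ← o4_symm h ha hb] at e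
    exact mem_bot.1 (mem_of_zpow (X.sZ.pow (X.com ha (o4_mem h hb).2)) (k := 2)
      (by rw [zpow_two, e]; exact one_mem _) (two_ne X.odd))
  have c1 := mem_inf.1 (o4_mem h hg)
  have mz := X.com hg c1.2
  obtain ⟨g', hg', ng', e1, e2⟩ : ∃ g' ∈ Q, g' ∉ U ∧ ⁅g', ⁅g, w⁆⁆ = 1 ∧ ⁅g, g'⁆ = 1 := by
    have := X.card_ct' le_rfl c1.2
    obtain ⟨a, ⟨a1, a2⟩, a3⟩ := SetLike.not_le_iff_exists.1 (show ¬ Q ⊓ Ct (zpowers ⁅g, w⁆) ≤ U ⊓ Q from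
      fun e => by
        have := this.trans (Nat.mul_le_mul_left _ ((card_le_of_le e).trans h.cU.le))
        rw [h.cQ, ← pow_succ'] at this
        exact absurd this (not_le.2 (lt (by norm_num))))
    obtain ⟨k, hk⟩ := X.sZ.dec mz (fun e => z1 (mem_bot.1 e)) (inv_mem (X.com hg a1))
    refine ⟨a * ⁅g, w⁆ ^ k, mul_mem a1 (zpow_mem c1.2 k), fun e => a3 ⟨?_, a1⟩, ?_, ?_⟩
    · simpa using mul_mem e (inv_mem (zpow_mem c1.1 k))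
    · rw [com_mul, cU (zpow_mem c1.1 k) c1.1, ct_zp.1 a2]; simp
    · rw [X.com_mul (X.lQ a1) (X.com hg (zpow_mem c1.2 k)), X.com_zpow (X.lQ c1.2) mz,
        inv_mul_eq_one.1 (mem_bot.1 hk), mul_inv_cancel]
  have c2 := o4_mem h hg'
  have e3 : ⁅g, ⁅g', w⁆⁆ = 1 := (o4_symm h hg hg').trans e1
  have zC : Z ≤ U ⊓ Q := le_inf h.zU X.lZ
  obtain ⟨s1, z2, q1⟩ := step X zC inf_le_right hg' fun e => ng' e.1
  obtain ⟨s2, -, q2⟩ := step X z2 q1 hg fun e => z1 (ct_zp.1 ((sup_le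
    (fun a (ha : a ∈ U ⊓ Q) => ct_zp.2 (cU ha.1 c1.1)) (zpowers_le.2 (ct_zp.2 e1)) : _ ≤ Ct (zpowers ⁅g, w⁆)) e))
  have eQ := eq_of_le_of_card_ge q2 (by rw [h.cQ, s2.card_up (s1.card_up h.cU)])
  have z3 : ⁅g', ⁅g', w⁆⁆ ≠ 1 := fun e => ng' (h.inj g' hg' (X.ctr ⟨c2.2, by
    rw [← eQ]
    exact ct_sup_zp (ct_sup_zp (Ct_anti inf_le_left (h.ab c2.1)) (csymm e)) (csymm e3)⟩))
  obtain ⟨d, hd⟩ := X.sZ.dec mz (fun e => z1 (mem_bot.1 e)) (X.com hg' c2.2)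
  replace hd := (inv_mul_eq_one.1 (mem_bot.1 hd)).symm
  refine ⟨d, fun e => z3 ?_, fun H _ _ w' g₁ g₂ c₁ c₂ z r n1 hH => ?_⟩
  · obtain ⟨k, rfl⟩ := (ZMod.intCast_zmod_eq_zero_iff_dvd d p).1 e
    rw [hd, zpow_mul, zpow_natCast, X.pZ mz, _root_.one_zpow]
  have R : RelO p d (w, w') (g, g₁) (g', g₂) (⁅g, w⁆, c₁) (⁅g', w⁆, c₂) (⁅g, ⁅g, w⁆⁆, z) :=
    ⟨Prod.ext h.pw' r.pw, Prod.ext (h.ex _ hg) r.p1, Prod.ext (h.ex _ hg') r.p2,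
      Prod.ext (h.ex _ c1.2) r.q1, Prod.ext (h.ex _ c2.2) r.q2, Prod.ext (X.pZ mz) r.pz,
      Prod.ext rfl r.g1w, Prod.ext rfl r.g2w, Prod.ext rfl r.g1c1, Prod.ext hd r.g2c2,
      Prod.ext e3 r.g1c2, Prod.ext e1 r.g2c1, Prod.ext e2 r.g1g2, Prod.ext (cU h.hw c1.1) r.wc1,
      Prod.ext (cU h.hw c2.1) r.wc2, Prod.ext (cU c1.1 c2.1) r.c1c2,
      Prod.ext (cU h.hw (h.zU mz)) r.wz, Prod.ext (X.com_Z (X.lQ hg) mz) r.g1z,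
      Prod.ext (X.com_Z (X.lQ hg') mz) r.g2z, Prod.ext (cU c1.1 (h.zU mz)) r.c1z,
      Prod.ext (cU c2.1 (h.zU mz)) r.c2z⟩
  refine syl_of_graph _ ?_ (cardO R) (X.sp.card_up h.cQ) X.sZ X.zc (mem_gen6 _ _ _ _ _ _) mz n1 hH
  obtain ⟨t1, y1, u1⟩ := step X le_rfl X.lZ c1.2 fun e => z1 (X.com_Z (X.lQ hg) e)
  obtain ⟨t2, -, -⟩ := step X y1 u1 c2.2 fun e => z3 (com_ct (ct_sup_zp (X.cen (X.lQ hg')) e1) e)
  have eC := eq_of_le_of_card_ge (sup_le (sup_le zC (zpowers_le.2 (mem_inf.2 c1))) (zpowers_le.2 c2)) (by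
    rw [h.cU, t2.card_up (t1.card_up (i := 1) (by rw [X.cZ, pow_one]))])
  rw [map_gen6, gen6]
  simp only [MonoidHom.coe_fst]
  rw [← zp_eq X mz z1, eC, sup_right_comm _ (zpowers w), sup_right_comm _ (zpowers w),
    sup_right_comm _ (zpowers g), eQ, ← X.sp.sup (h.lU h.hw) h.nw]

end H70.Xp
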