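import Cfsg.Agent.H87.XPSpec
import Cfsg.Agent.H57.SLCard

/-! Job XP-SL: the model in `SL₄(p)`. -/

set_option autoImplicit false

namespace H70.Xp

open Matrix H87.XP
open scoped commutatorElement MatrixGroups

variable {R : Type*} [CommRing R]

/-- The unipotent radical of the stabiliser of a plane. -/
def mU (a b c e : R) : SL(4, R) :=
  ⟨!![1, 0, a, b; 0, 1, e, c; 0, 0, 1, 0; 0, 0, 0, 1], by
    simp [det_succ_column_zero, Fin.sum_univ_succ]⟩

/-- The unipotent elements of the Levi complement. -/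
def mG (α β : R) : SL(4, R) :=
  ⟨!![1, α, 0, 0; 0, 1, 0, 0; 0, 0, 1, β; 0, 0, 0, 1], by
    simp [det_succ_column_zero, Fin.sum_univ_succ]⟩

theorem mU_zero : mU (0 : R) 0 0 0 = 1 := Subtype.ext (by
  ext i j; fin_cases i <;> fin_cases j <;> simp [mU])

theorem mG_zero : mG (0 : R) 0 = 1 := Subtype.ext (by
  ext i j; fin_cases i <;> fin_cases j <;> simp [mG])

theorem mU_mul (a b c e a' b' c' e' : R) :
    mU a b c e * mU a' b' c' e' = mU (a + a') (b + b') (c + c') (e + e') := Subtype.ext (by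
  change (mU a b c e).1 * (mU a' b' c' e').1 = _; simp only [mU]
  ext i j; fin_cases i <;> fin_cases j <;> simp [mul_apply, Fin.sum_univ_succ, add_comm])

theorem mG_mul (a b a' b' : R) : mG a b * mG a' b' = mG (a + a') (b + b') := Subtype.ext (by
  change (mG a b).1 * (mG a' b').1 = _; simp only [mG]
  ext i j; fin_cases i <;> fin_cases j <;> simp [mul_apply, Fin.sum_univ_succ, add_comm])

theorem mU_pow (a b c e : R) (n : ℕ) : mU a b c e ^ n = mU (n * a) (n * b) (n * c) (n * e) := by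
  induction n with
  | zero => simp [mU_zero]
  | succ n ih => rw [pow_succ, ih, mU_mul, Nat.cast_succ]; simp only [add_one_mul]

theorem mG_pow (a b : R) (n : ℕ) : mG a b ^ n = mG (n * a) (n * b) := by
  induction n with
  | zero => simp [mG_zero]
  | succ n ih => rw [pow_succ, ih, mG_mul, Nat.cast_succ]; simp only [add_one_mul]

theorem mU_zpow (b : R) (n : ℤ) : mU 0 b 0 0 ^ n = mU 0 (n * b) 0 0 := by
  obtain ⟨n, rfl | rfl⟩ := n.eq_nat_or_neg
  · simp [mU_pow]
  · rw [_root_.zpow_neg, zpow_natCast, mU_pow, inv_eq_iff_mul_eq_one, mU_mul]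
    simp [mU_zero]

theorem mU_comm (a b c e a' b' c' e' : R) : ⁅mU a b c e, mU a' b' c' e'⁆ = 1 :=
  commutatorElement_eq_one_iff_mul_comm.2 (by
    rw [mU_mul, mU_mul, add_comm a, add_comm b, add_comm c, add_comm e])

theorem mG_comm (a b a' b' : R) : ⁅mG a b, mG a' b'⁆ = 1 :=
  commutatorElement_eq_one_iff_mul_comm.2 (by rw [mG_mul, mG_mul, add_comm a, add_comm b])

theorem mGU (α β a b c e : R) :
    ⁅mG α β, mU a b c e⁆ = mU (α * e) (α * c - β * (a + α * e)) (-(β * e)) 0 := by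
  rw [commutatorElement_def, mul_inv_eq_iff_eq_mul, mul_inv_eq_iff_eq_mul, mU_mul]
  refine Subtype.ext ?_
  change (mG α β).1 * (mU a b c e).1 = (mU _ _ _ _).1 * (mG α β).1; simp only [mU, mG]
  ext i j
  fin_cases i <;> fin_cases j <;> simp [mul_apply, Fin.sum_univ_succ] <;> ring

theorem jobSL : JobSL := by
  rintro p hp d p2 ⟨s, hs⟩
  constructor
  · have h : ∀ k : ℕ, 0 < k → ¬ p ∣ p ^ k - 1 := fun k hk e => hp.out.one_lt.ne' (Nat.dvd_one.1
      ((Nat.dvd_sub_iff_right (Nat.one_le_pow _ _ hp.out.pos) (dvd_pow_self p hk.ne')).1 e))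
    rw [H57.card_sl_fin_eq, ZMod.card, pow_succ]
    intro e
    have := Nat.dvd_of_mul_dvd_mul_left (pow_pos hp.out.pos 6) e
    simp only [Nat.add_one_sub_one, Finset.prod_range_succ, Finset.prod_range_zero, one_mul] at this
    exact (hp.out.dvd_mul.1 this).elim (fun e => (hp.out.dvd_mul.1 e).elim (h _ (by norm_num))
      (h _ (by norm_num))) (h _ (by norm_num))
  have h : ∀ a b c e : ZMod p, mU a b c e ^ p = 1 := fun a b c e => by simp [mU_pow, mU_zero]
  have h' : ∀ a b : ZMod p, mG a b ^ p = 1 := fun a b => by simp [mG_pow, mG_zero]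
  refine ⟨mU 0 0 0 1, mG 1 1, mG s (-s), mU 1 (-1) (-1) 0, mU s (s * s) s 0, mU 0 (-2) 0 0,
    ⟨h .., h' .., h' .., h .., h .., h .., ?_, ?_, ?_, ?_, ?_, ?_, mG_comm .., mU_comm ..,
      mU_comm .., mU_comm .., mU_comm .., ?_, ?_, mU_comm .., mU_comm ..⟩, fun e => ?_⟩
  iterate 3 rw [mGU]; congr 1 <;> ring
  · rw [mGU, mU_zpow]; congr 1
    · ring
    · linear_combination -2 * hs
    · ring
  iterate 4 simp [mGU, mU_zero]
  have := congrFun (congrFun (congrArg Subtype.val e) 0) 3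
  simp only [mU, SpecialLinearGroup.coe_one] at this
  exact H92.P5.two_ne p2 (by simpa using this)

end H70.Xp
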